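import Cfsg.Agent.H439.Der.Tools
import Cfsg.Agent.H257.El.EngA

/-!
# Tools for the rows of the Mathieu groups and `J1` of S3500 (helper123, task 2490)
-/

set_option autoImplicit false

namespace Cfsg.Agent.H123.Der

open Subgroup Cfsg.Agent.OrdDiv Cfsg.Agent.H257.El Cfsg.Agent.H439.Der Cfsg.Agent.H938.Sax

universe u

/-- a proper subgroup whose order is divisible by two non-adjacent primes has a simple section from the list -/
theorem exists_surv_pair (tab : OrderTable.{u}) (known : Known.{u}) {T : Type u} [Group T] [Finite T] {n : ℕ}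
    {l : List (ℕ × ℕ)} {r s : ℕ} (hn : Nat.card T = n) (hv : OrdDiv.valid l n = true) (hr : r.Prime) (hs : s.Prime)
    (hr2 : ¬ r ^ 2 ∣ n) (hno : ∀ z : T, orderOf z ≠ r * s) (hok : okPair n l r s = true)
    {R : Subgroup T} (hR : R ≠ ⊤) (h1 : r ∣ Nat.card R) (h2 : s ∣ Nat.card R) :
    ∃ g ∈ surv n l r [s], ordN g ∣ Nat.card R := by
  have hRn : Nat.card R ∣ n := hn ▸ Subgroup.card_subgroup_dvd_card R
  obtain ⟨O, hO, N, h⟩ := exists_top hr h1 (fun h => hr2 (h.trans hRn))
  have hsim := h.simple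
  unfold okPair at hok
  rw [Bool.and_eq_true, Bool.and_eq_true, Bool.and_eq_true] at hok
  obtain ⟨⟨⟨k1, k2⟩, k3⟩, k4⟩ := hok
  have h1' : r ≠ s := by simpa using k1
  have h2' : ¬ s ∣ r - 1 := by
    intro hd
    rw [Nat.mod_eq_zero_of_dvd hd] at k2
    exact absurd k2 (by decide)
  have hnoR : ∀ z : R, orderOf z ≠ r * s := by
    intro z
    rw [← Subgroup.orderOf_coe]
    exact hno z
  have h6 := h.dvd_simple hs h1' hnoR (fun _ hb hd => okPow_spec hv k4 hs hb (hd.trans hRn)) h2' h2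
  have hna : ¬ ∀ a b : N, a * b = b * a := by
    intro hc
    rw [h.card_of_comm hc] at h6
    exact h1' ((Nat.prime_dvd_prime_iff_eq hs hr).1 h6).symm
  have hNR : Nat.card N ∣ Nat.card R := by
    refine (Subgroup.card_subgroup_dvd_card N).trans ?_
    rw [← card_quot_mul O]
    exact dvd_mul_right _ _
  obtain ⟨g, hg, hrl, hc⟩ := exists_good tab (known N) hna hv (hNR.trans hRn)
  have hlt : Nat.card R < n := by
    rw [← hn]
    refine lt_of_le_of_ne (Nat.le_of_dvd Nat.card_pos (Subgroup.card_subgroup_dvd_card R)) fun h => hR ?_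
    exact Subgroup.eq_top_of_card_eq R h
  refine ⟨g, List.mem_filter.2 ⟨hg, ?_⟩, hc ▸ hNR⟩
  unfold okG
  rw [Bool.and_eq_true, Bool.and_eq_true, List.all_eq_true]
  refine ⟨⟨?_, ?_⟩, fun t ht => ?_⟩
  · rw [← hc, Nat.mod_eq_zero_of_dvd h.dvd]; rfl
  · rw [← hc]
    have h3 : Nat.card N ≤ Nat.card R := Nat.le_of_dvd Nat.card_pos hNR
    have h4 : Nat.card N ≠ n := by omega
    simpa using h4
  · rw [List.mem_singleton] at ht
    rw [ht, ← hc, Nat.mod_eq_zero_of_dvd h6]; rfl

/-- numerical form: all the possible sections have order divisible by `m` -/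
theorem dvd_of_pair (tab : OrderTable.{u}) (known : Known.{u}) {T : Type u} [Group T] [Finite T] {n : ℕ}
    (l : List (ℕ × ℕ)) {r s m : ℕ} (hn : Nat.card T = n) (hr : r.Prime) (hs : s.Prime)
    (hno : ∀ z : T, orderOf z ≠ r * s)
    (hchk : (OrdDiv.valid l n && !(Nat.beq (n % r ^ 2) 0) && okPair n l r s &&
      (surv n l r [s]).all fun g => Nat.beq (ordN g % m) 0) = true)
    {R : Subgroup T} (hR : R ≠ ⊤) (h1 : r ∣ Nat.card R) (h2 : s ∣ Nat.card R) : m ∣ Nat.card R := by
  rw [Bool.and_eq_true, Bool.and_eq_true, Bool.and_eq_true, List.all_eq_true] at hchk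
  obtain ⟨⟨⟨k1, k2⟩, k3⟩, k4⟩ := hchk
  obtain ⟨g, hg, hd⟩ := exists_surv_pair tab known hn k1 hr hs (fun h => by
    rw [Nat.mod_eq_zero_of_dvd h] at k2
    exact absurd k2 (by decide)) hno k3 hR h1 h2
  exact (Nat.dvd_of_mod_eq_zero (Nat.eq_of_beq_eq_true (k4 g hg))).trans hd

/-- no possible section -/
theorem false_of_pair (tab : OrderTable.{u}) (known : Known.{u}) {T : Type u} [Group T] [Finite T] {n : ℕ}
    (l : List (ℕ × ℕ)) {r s : ℕ} (hn : Nat.card T = n) (hr : r.Prime) (hs : s.Prime)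
    (hno : ∀ z : T, orderOf z ≠ r * s)
    (hchk : (OrdDiv.valid l n && !(Nat.beq (n % r ^ 2) 0) && okPair n l r s && (surv n l r [s]).isEmpty) = true)
    {R : Subgroup T} (hR : R ≠ ⊤) (h1 : r ∣ Nat.card R) (h2 : s ∣ Nat.card R) : False := by
  rw [Bool.and_eq_true, Bool.and_eq_true, Bool.and_eq_true] at hchk
  obtain ⟨⟨⟨k1, k2⟩, k3⟩, k4⟩ := hchk
  obtain ⟨g, hg, -⟩ := exists_surv_pair tab known hn k1 hr hs (fun h => by
    rw [Nat.mod_eq_zero_of_dvd h] at k2
    exact absurd k2 (by decide)) hno k3 hR h1 h2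
  rw [List.isEmpty_iff] at k4
  rw [k4] at hg
  simp at hg

section conj

variable {T : Type*} [Group T] [Finite T]

/-- Sylow counting -/
theorem exists_nrm {v : ℕ} (hv : v.Prime) (hsq : ¬ v ^ 2 ∣ Nat.card T) {x : T} (hx : orderOf x = v) :
    ∃ n, n * Nat.card (normalizer (zpowers x : Set T)) = Nat.card T ∧ n % v = 1 := by
  have := Fact.mk hv
  have hvd : v ∣ Nat.card T := hx ▸ orderOf_dvd_natCard x
  have hf : (Nat.card T).factorization v = 1 := by
    apply le_antisymm
    · by_contra hlt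
      push Not at hlt
      exact hsq ((hv.pow_dvd_iff_le_factorization Nat.card_pos.ne').2 hlt)
    · exact (hv.dvd_iff_one_le_factorization Nat.card_pos.ne').1 hvd
  let P : Sylow v T := Sylow.ofCard (zpowers x) (by rw [Nat.card_zpowers, hx, hf, pow_one])
  have hP : (P : Subgroup T) = zpowers x := rfl
  refine ⟨Nat.card (Sylow v T), ?_, ?_⟩
  · rw [Sylow.card_eq_index_normalizer P, mul_comm]
    exact Subgroup.card_mul_index (normalizer ((zpowers x : Subgroup T) : Set T))
  · have h4 : Nat.card (Sylow v T) % v = 1 % v := card_sylow_modEq_one v T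
    rw [h4, Nat.mod_eq_of_lt hv.one_lt]

omit [Finite T] in
theorem conjPow_subset {v : ℕ} (hv : v.Prime) {x : T} (hx : orderOf x = v) :
    conjPow x ⊆ {y | y ∈ zpowers x ∧ y ≠ 1} := by
  rintro y ⟨h1, g, rfl⟩
  refine ⟨h1, fun h => ?_⟩
  have h2 := orderOf_conj g x
  rw [h, orderOf_one, hx] at h2
  exact hv.one_lt.ne h2

omit [Finite T] in
theorem ncard_ne_one {v : ℕ} {x : T} (hx : orderOf x = v) : {y | y ∈ zpowers x ∧ y ≠ 1}.ncard = v - 1 := by
  have h1 : {y | y ∈ zpowers x ∧ y ≠ 1} = ((zpowers x : Subgroup T) : Set T) \ {1} := by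
    ext y; simp
  rw [h1, Set.ncard_sdiff_singleton_of_mem (one_mem _), ← Nat.card_coe_set_eq]
  rw [← hx, ← Nat.card_zpowers]
  rfl

theorem card_conjPow_le {v : ℕ} (hv : v.Prime) {x : T} (hx : orderOf x = v) :
    Nat.card (conjPow x) ≤ v - 1 := by
  rw [← ncard_ne_one hx, Nat.card_coe_set_eq]
  exact Set.ncard_le_ncard (conjPow_subset hv hx) (Set.toFinite _)

/-- not all the non-trivial powers are conjugate, by the order of the normalizer -/
theorem conjPow_lt {v D N : ℕ} (hN : Nat.card T = N) (hv : v.Prime) {x : T} (hx : orderOf x = v)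
    (hD : Nat.card (normalizer (zpowers x : Set T)) ∣ D)
    (hchk : (!(Nat.beq D 0) && !(Nat.beq (N % v ^ 2) 0) && (List.range (D + 1)).all fun m =>
      !(Nat.beq (D % m) 0) || !(Nat.beq (m % (v * (v - 1))) 0) || !(Nat.beq (N / m % v) 1)) = true) :
    Nat.card (conjPow x) < v - 1 := by
  rw [Bool.and_eq_true, Bool.and_eq_true, List.all_eq_true] at hchk
  obtain ⟨⟨k0, k1⟩, k2⟩ := hchk
  have hsq : ¬ v ^ 2 ∣ Nat.card T := by
    intro h
    rw [hN] at h
    rw [Nat.mod_eq_zero_of_dvd h] at k1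
    exact absurd k1 (by decide)
  by_contra hlt
  push Not at hlt
  have h1 := le_antisymm (card_conjPow_le hv hx) hlt
  have h2 := card_conjPow_mul x
  rw [h1] at h2
  have h3 : v ∣ Nat.card (centralizer ({x} : Set T)) := by
    rw [← hx]
    exact Subgroup.orderOf_dvd_natCard _ (mem_centralizer_singleton_iff.2 rfl)
  obtain ⟨n, hn, hn1⟩ := exists_nrm hv hsq hx
  set m := Nat.card (normalizer (zpowers x : Set T)) with hm
  have hD0 : D ≠ 0 := by
    rintro rfl
    exact absurd k0 (by decide)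
  have h4 := k2 m (List.mem_range.2 (Nat.lt_succ_of_le (Nat.le_of_dvd (Nat.pos_of_ne_zero hD0) hD)))
  rw [Nat.mod_eq_zero_of_dvd hD, Nat.mod_eq_zero_of_dvd (show v * (v - 1) ∣ m by
    rw [← h2, mul_comm v]; exact Nat.mul_dvd_mul_left _ h3)] at h4
  have hm0 : 0 < m := Nat.card_pos
  have h5 : N / m = n := by rw [← hN, ← hn]; exact Nat.mul_div_cancel _ hm0
  rw [h5, hn1] at h4
  exact absurd h4 (by decide)

/-- the form with the order of the centralizer -/
theorem conjPow_lt' {v c N : ℕ} (hN : Nat.card T = N) (hv : v.Prime) {x : T} (hx : orderOf x = v)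
    (hC : Nat.card (centralizer ({x} : Set T)) = c)
    (hchk : (!(Nat.beq (N % v ^ 2) 0) && (!(Nat.beq (N % ((v - 1) * c)) 0) ||
      !(Nat.beq (N / ((v - 1) * c) % v) 1))) = true) :
    Nat.card (conjPow x) < v - 1 := by
  rw [Bool.and_eq_true] at hchk
  obtain ⟨k1, k2⟩ := hchk
  have hsq : ¬ v ^ 2 ∣ Nat.card T := by
    intro h
    rw [hN] at h
    rw [Nat.mod_eq_zero_of_dvd h] at k1
    exact absurd k1 (by decide)
  by_contra hlt
  push Not at hlt
  have h1 := le_antisymm (card_conjPow_le hv hx) hlt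
  have h2 := card_conjPow_mul x
  rw [h1, hC] at h2
  obtain ⟨n, hn, hn1⟩ := exists_nrm hv hsq hx
  rw [← h2, hN] at hn
  have hm0 : 0 < (v - 1) * c := by rw [h2]; exact Nat.card_pos
  have h5 : N / ((v - 1) * c) = n := by rw [← hn]; exact Nat.mul_div_cancel _ hm0
  rw [h5, hn1, Nat.mod_eq_zero_of_dvd (show (v - 1) * c ∣ N from Dvd.intro_left _ hn)] at k2
  exact absurd k2 (by decide)

theorem not_SC_of_conjPow {v : ℕ} (hv : v.Prime) {x : T} (hx : orderOf x = v)
    (h : Nat.card (conjPow x) < v - 1) (hO : Nat.card (Cfsg.Out T) = 1) : ¬ SC T v := by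
  intro hs
  have h1 := hs.sub_one_le hv hx
  rw [hO, one_mul] at h1
  omega

/-- a missing prime `v` with two non-conjugate elements of order `v` -/
theorem twoT_of_conjPow {v : ℕ} (hv : v.Prime) {x : T} (hx : orderOf x = v)
    (h : Nat.card (conjPow x) < v - 1) {M : Subgroup T} (hM : ¬ v ∣ Nat.card M) : TwoT T M := by
  have h1 : ∃ y ∈ {y | y ∈ zpowers x ∧ y ≠ 1}, y ∉ conjPow x := by
    by_contra hcon
    push Not at hcon
    have h2 := Set.ncard_le_ncard (show {y | y ∈ zpowers x ∧ y ≠ 1} ⊆ conjPow x from hcon) (Set.toFinite _)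
    rw [ncard_ne_one hx, ← Nat.card_coe_set_eq] at h2
    omega
  obtain ⟨y, ⟨hy1, hy2⟩, hy3⟩ := h1
  have hoy : orderOf y = v := by
    have h2 : orderOf y ∣ v := hx ▸ orderOf_dvd_of_mem_zpowers hy1
    rcases (Nat.dvd_prime hv).1 h2 with h3 | h3
    · exact absurd (orderOf_eq_one_iff.1 h3) hy2
    · exact h3
  refine ⟨x, y, fun g => ?_, fun g => ?_, fun g hg => hy3 ⟨hy1, g, hg⟩⟩
  · simpa using not_mem_of_dvd hM (x := x) (by rw [hx]) (MulAut.conj g)
  · simpa using not_mem_of_dvd hM (x := y) (by rw [hoy]) (MulAut.conj g)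

omit [Finite T] in
/-- normalizers of cyclic subgroups under an injection -/
theorem card_normalizer_dvd {K : Type*} [Group K] (f : T →* K) (hf : Function.Injective f) (x : T) :
    Nat.card (normalizer (zpowers x : Set T)) ∣ Nat.card (normalizer (zpowers (f x) : Set K)) := by
  have h1 : (normalizer (zpowers x : Set T)).map f ≤ normalizer (((zpowers x).map f : Subgroup K) : Set K) :=
    le_normalizer_map _
  rw [MonoidHom.map_zpowers] at h1
  have h2 := card_dvd_of_le h1
  rwa [card_map_of_injective hf] at h2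

omit [Finite T] in
theorem mem_normalizer_of_commute {x y : T} (h : Commute x y) : y ∈ normalizer (zpowers x : Set T) := by
  have hc : Commute y x := h.symm
  rw [mem_normalizer_iff]
  intro h
  constructor
  · intro hh
    obtain ⟨k, rfl⟩ := mem_zpowers_iff.1 hh
    have h3 : y * x ^ k * y⁻¹ = x ^ k := by
      rw [(hc.zpow_right k).eq, mul_inv_cancel_right]
    rw [h3]; exact hh
  · intro hh
    obtain ⟨k, hk⟩ := mem_zpowers_iff.1 hh
    have h3 : h = x ^ k := by
      have h4 : h = y⁻¹ * x ^ k * y := by rw [hk]; group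
      rw [h4, ← (hc.inv_left.zpow_right k).eq.symm, inv_mul_cancel_right]
    rw [h3]; exact zpow_mem (mem_zpowers x) k

/-- a prime not dividing the orders of the normalizers of the subgroups of order `r` is not adjacent to `r` -/
theorem noOrd_of_norm {r s D : ℕ} (hr : r.Prime) (hs : s.Prime)
    (hD : ∀ x : T, orderOf x = r → Nat.card (normalizer (zpowers x : Set T)) ∣ D) (hsD : ¬ s ∣ D) (z : T) :
    orderOf z ≠ r * s := by
  refine noOrd_of_noComm hr hs (fun x y hx hy hxy => hsD ?_) z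
  rw [← hy]
  exact (Subgroup.orderOf_dvd_natCard _ (mem_normalizer_of_commute hxy)).trans (hD x hx)

omit [Finite T] in
theorem noSyl_of_two {M : Subgroup T} {k N : ℕ} (hN : Nat.card T = N) (hO : Nat.card (Cfsg.Out T) ∣ 2)
    (hN0 : N ≠ 0) (h1 : 2 ^ k ∣ N) (h2 : ¬ 2 ^ (k + 1) ∣ N) (h : ¬ 2 ^ k ∣ Nat.card M) : NoSyl T M := by
  intro s hs hd
  have h3 : s = 2 := (Nat.prime_dvd_prime_iff_eq hs Nat.prime_two).1 (hd.trans hO)
  have h4 : N.factorization 2 = k := by
    apply le_antisymm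
    · by_contra hlt
      push Not at hlt
      exact h2 ((Nat.prime_two.pow_dvd_iff_le_factorization hN0).2 hlt)
    · exact (Nat.prime_two.pow_dvd_iff_le_factorization hN0).1 h1
  rw [h3, hN, h4]
  exact h

omit [Finite T] in
theorem noSyl_of_one {M : Subgroup T} (hO : Nat.card (Cfsg.Out T) = 1) : NoSyl T M := by
  intro s hs hd
  rw [hO] at hd
  exact absurd (Nat.dvd_one.1 hd) hs.one_lt.ne'

end conj

end Cfsg.Agent.H123.Der
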