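import Cfsg.Agent.H123.Der.MTwentyFour
import Cfsg.Agent.H257.El.Row.J1
import Cfsg.Agent.H94.Sp.Janko
import Cfsg.Agent.S2065

/-!
# The row of `J₁` (S3500, helper123)
-/

set_option autoImplicit false

namespace Cfsg.Agent.H123.Der

open Subgroup Cfsg Cfsg.Agent.OrdDiv Cfsg.Agent.H257.El Cfsg.Agent.H439.Der Cfsg.Agent.H938.Sax
open Cfsg.Agent.H94.PG Cfsg.Agent.H94.PG.Sp

theorem twoT_J1 (tab : OrderTable.{0}) (known : Known.{0}) {M : Subgroup Spor.J1} (hM : IsCoatom M) :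
    TwoT Spor.J1 M := by
  obtain ⟨hs, hc⟩ := Cfsg.Agent.SporadicB.J1.Main.isJ1
  have hfin : Finite Spor.J1 := Nat.finite_of_card_ne_zero (by rw [hc]; norm_num)
  have p19 : (19 : ℕ).Prime := by norm_num
  have hcent : ∀ x : Spor.J1, orderOf x = 19 → Nat.card (centralizer ({x} : Set Spor.J1)) = 19 := fun x hx =>
    OddCyclic.EmpE.Kill.card_cent H413.JOneLocal.isLocal hc hx
  by_cases h19 : 19 ∣ Nat.card M
  swap
  · have := Fact.mk p19
    obtain ⟨x, hx⟩ := exists_prime_orderOf_dvd_card' (G := Spor.J1) 19 (by rw [hc]; norm_num)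
    exact twoT_of_conjPow p19 hx (conjPow_lt' hc p19 hx (hcent x hx) (by decide +kernel)) h19
  by_cases h5 : 5 ∣ Nat.card M
  swap
  · exact (Two.of_not_dvd h5 (not_SC_of_nr (cent_j1 ⟨MulEquiv.refl _⟩ Nat.prime_five (by norm_num))
      (by norm_num))).twoT
  exact (false_of_pair tab known (r := 19) (s := 5) [(2, 3), (3, 1), (5, 1), (7, 1), (11, 1), (19, 1)] hc p19
    Nat.prime_five (noOrd_of_cent p19 hcent Nat.prime_five (by norm_num)) (by decide +kernel) hM.1 h19 h5).elim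

theorem row_j1_of (tab : OrderTable.{0}) (known : Known.{0}) {T : Type*} [Group T] (h : Cfsg.Spor.IsoJ1 T) :
    Row T := by
  obtain ⟨e⟩ := h
  exact Row.congr e.symm (row_of_twoT Cfsg.Agent.S2065.result fun M hM => twoT_J1 tab known hM)

end Cfsg.Agent.H123.Der
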