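import Cfsg.Agent.H123.Der.Base
import Cfsg.Agent.H604.Sax.Mathieu
import Cfsg.Agent.S2060

/-!
# The row of `M₁₁` (S3500, helper123)
-/

set_option autoImplicit false

namespace Cfsg.Agent.H123.Der

open Subgroup Cfsg Cfsg.Agent.OrdDiv Cfsg.Agent.H257.El Cfsg.Agent.H439.Der Cfsg.Agent.H938.Sax
open Cfsg.Agent.H180.MEl
open Cfsg.Agent.H604.Sax.Mathieu (g8 orderOf_g8)

/-- no element of order 4 in a simple group of order `4 * odd` with a Sylow 2-subgroup of order 4 -/
theorem no_four {G : Type*} [Group G] [Finite G] [IsSimpleGroup G] (h4 : 4 ∣ Nat.card G) (h8 : ¬ 8 ∣ Nat.card G)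
    (hne : ¬ (Nat.card G).Prime) (x : G) : orderOf x ≠ 4 := by
  intro hx
  have := Fact.mk Nat.prime_two
  have hf : (Nat.card G).factorization 2 = 2 := by
    apply le_antisymm
    · by_contra hlt
      push Not at hlt
      exact h8 ((Nat.prime_two.pow_dvd_iff_le_factorization Nat.card_pos.ne').2 hlt)
    · exact (Nat.prime_two.pow_dvd_iff_le_factorization Nat.card_pos.ne').1 h4
  let P : Sylow 2 G := Sylow.ofCard (zpowers x) (by rw [Nat.card_zpowers, hx, hf]; norm_num)
  have hP : (P : Subgroup G) = zpowers x := rfl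
  have hcyc : IsCyclic P := inferInstanceAs (IsCyclic (zpowers x))
  have hmin : (Nat.card G).minFac = 2 := by
    rw [Nat.minFac_eq_two_iff]
    exact (show 2 ∣ 4 by norm_num).trans h4
  have hcompl := IsCyclic.isComplement' (P := P) hmin hcyc
  set K := (MonoidHom.transferSylow P (hcyc.normalizer_le_centralizer hmin)).ker with hK
  have hcardP : Nat.card P = 4 := by
    show Nat.card (zpowers x) = 4
    rw [Nat.card_zpowers, hx]
  rcases (inferInstance : K.Normal).eq_bot_or_eq_top with h | h
  · rw [h] at hcompl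
    have h1 := hcompl.card_mul_card
    rw [Subgroup.card_bot, one_mul, hcardP] at h1
    -- a group of order 4 is not simple
    have h2 : (P : Subgroup G) = ⊤ := by
      rw [h] at hK
      exact Subgroup.eq_top_of_card_eq _ (by rw [hcardP, h1])
    have h3 : ∀ a b : G, a * b = b * a := by
      intro a b
      have ha : a ∈ zpowers x := by rw [← hP, h2]; exact mem_top a
      have hb : b ∈ zpowers x := by rw [← hP, h2]; exact mem_top b
      obtain ⟨i, rfl⟩ := mem_zpowers_iff.1 ha
      obtain ⟨j, rfl⟩ := mem_zpowers_iff.1 hb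
      rw [← zpow_add, ← zpow_add, add_comm]
    apply hne
    let _ : CommGroup G := { (inferInstance : Group G) with mul_comm := h3 }
    exact IsSimpleGroup.prime_card
  · rw [h] at hcompl
    have h1 := hcompl.card_mul_card
    rw [Subgroup.card_top, hcardP] at h1
    have h2 : 0 < Nat.card G := Nat.card_pos
    omega

theorem twoT_M11 (tab : OrderTable.{0}) (known : Known.{0}) {M : Subgroup Spor.M11} (hM : IsCoatom M) :
    TwoT Spor.M11 M := by
  have hG := Cfsg.Agent.Cit.Eleven.isM11 (L := Spor.M11) ⟨MulEquiv.refl _⟩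
  have hc := hG.2
  have hfin : Finite Spor.M11 := Nat.finite_of_card_ne_zero (by rw [hc]; norm_num)
  have p11 : (11 : ℕ).Prime := by norm_num
  by_cases h11 : 11 ∣ Nat.card M
  swap
  · have := Fact.mk p11
    obtain ⟨x, hx⟩ := exists_prime_orderOf_dvd_card' (G := Spor.M11) 11 (by rw [hc]; norm_num)
    refine twoT_of_conjPow p11 hx (conjPow_lt (D := 55) hc p11 hx ?_ (by decide +kernel)) h11
    rw [(Cfsg.Agent.SporadicA.M11Sylow.data_eleven hG hx).2.1]
  have hiso := iso11_m11 hG
  by_cases h5 : 5 ∣ Nat.card M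
  swap
  · refine (Two.of_two_primes (v := 3) (w := 5) Nat.prime_three Nat.prime_five (by norm_num)
      (by rw [hc]; norm_num) (by rw [hc]; norm_num) (fun h3 => h5 ?_) h5).twoT
    refine dvd_of_pair tab known (r := 11) (s := 3) [(2, 4), (3, 2), (5, 1), (11, 1)] hc p11 Nat.prime_three
      (noOrd_of_noComm p11 Nat.prime_three fun x y hx hy hxy => ?_) (by decide +kernel) hM.1 h11 h3
    have := hiso x y hxy hx (by rw [hy]; norm_num)
    omega
  rcases card_sub_m11 hG h5 h11 with h | h | h
  · exact (Two.of_two_primes (v := 2) (w := 3) Nat.prime_two Nat.prime_three (by norm_num)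
      (by rw [hc]; norm_num) (by rw [hc]; norm_num) (by rw [h]; norm_num) (by rw [h]; norm_num)).twoT
  · have hs : IsSimpleGroup M := isSimple_of_iso11 (hiso.sub M) (Or.inl h)
    have h4 : ∀ m ∈ M, orderOf m ≠ 4 := by
      intro m hm ho
      have hm' : orderOf (⟨m, hm⟩ : M) = 4 := by rw [Subgroup.orderOf_mk, ho]
      refine no_four (G := M) (by rw [h]; norm_num) (by rw [h]; norm_num) (by rw [h]; norm_num) _ hm'
    have h8 : ∀ m ∈ M, orderOf m ≠ 8 := by
      intro m hm ho
      have h1 := Subgroup.orderOf_dvd_natCard M hm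
      rw [ho, h] at h1
      norm_num at h1
    exact (Two.of_orders (a := 4) (b := 8) (by norm_num) (x := g8 ^ 2) (y := g8)
      (by rw [orderOf_pow_of_dvd (by norm_num) (by rw [orderOf_g8]; norm_num), orderOf_g8]) orderOf_g8 h4 h8).twoT
  · exact absurd (eq_top_of_card (h.trans hc.symm)) hM.1

/-- the row from `TwoT` for trivial `Out T` -/
theorem row_of_twoT {T : Type*} [Group T] (hO : Nat.card (Cfsg.Out T) = 1)
    (h : ∀ M : Subgroup T, IsCoatom M → TwoT T M) : Row T :=
  fun M hM => Or.inr ⟨h M hM, noSyl_of_one hO⟩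

theorem row_m11_of (tab : OrderTable.{0}) (known : Known.{0}) {T : Type*} [Group T] (h : Cfsg.Spor.IsoM11 T) :
    Row T := by
  obtain ⟨e⟩ := h
  exact Row.congr e.symm (row_of_twoT Cfsg.Agent.S2060.result fun M hM => twoT_M11 tab known hM)

end Cfsg.Agent.H123.Der
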