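import Cfsg.Agent.H123.Der.MEleven
import Cfsg.Agent.H94.Sp.Mathieu
import Cfsg.Agent.H859.StrP.M24
import Cfsg.Agent.S2063
import Cfsg.Agent.S2064

/-!
# The rows of `M₂₄` and `M₂₃` (S3500, helper123)
-/

set_option autoImplicit false

namespace Cfsg.Agent.H123.Der

open Subgroup Cfsg Cfsg.Agent.OrdDiv Cfsg.Agent.H257.El Cfsg.Agent.H439.Der Cfsg.Agent.H938.Sax
open Cfsg.Agent.H180.MEl Cfsg.Agent.H94.PG Cfsg.Agent.H94.PG.Sp
open Cfsg.Agent.H604.Sax.Mathieu (fx_ten no_fix_ten)

theorem not_SC_of_adj {T : Type*} [Group T] [Finite T] {p q : ℕ} (h : Adj T p q) : ¬ SC T p := by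
  obtain ⟨hp, hq, hpq, x, y, hx, hy, hc⟩ := h
  exact not_SC_of_commute hp hq hpq hx hy hc

theorem not_SC_of_nr {T : Type*} [Group T] [Finite T] {r : ℕ} (h : Nr T r) (h2 : r ≠ 2) : ¬ SC T r :=
  not_SC_of_adj (h.resolve_left h2)

/-- the order of the normalizer of a cyclic subgroup of order 23 -/
theorem norm23_dvd {L : Subgroup (Equiv.Perm GolayPt)} (hL : L ≤ M24) {x : L} (hx : orderOf x = 23) :
    Nat.card (normalizer (zpowers x : Set L)) ∣ 253 := by
  have h1 := card_normalizer_dvd (inclusion hL) (inclusion_injective hL) x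
  rwa [Cfsg.Agent.H859.StrP.norm23 _ (by
    rw [Nat.card_zpowers, orderOf_injective (inclusion hL) (inclusion_injective hL), hx])] at h1

theorem norm11_dvd {L : Subgroup (Equiv.Perm GolayPt)} (hL : L ≤ M24) {x : L} (hx : orderOf x = 11) :
    Nat.card (normalizer (zpowers x : Set L)) ∣ 110 := by
  have h1 := card_normalizer_dvd (inclusion hL) (inclusion_injective hL) x
  rwa [Cfsg.Agent.H859.StrP.norm11 _ (by
    rw [Nat.card_zpowers, orderOf_injective (inclusion hL) (inclusion_injective hL), hx])] at h1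

theorem twoT_M24 (tab : OrderTable.{0}) (known : Known.{0}) {M : Subgroup M24} (hM : IsCoatom M) :
    TwoT M24 M := by
  have hc := fact24
  have p11 : (11 : ℕ).Prime := by norm_num
  have p23 : (23 : ℕ).Prime := by norm_num
  have p7 : (7 : ℕ).Prime := by norm_num
  by_cases h23 : 23 ∣ Nat.card M
  swap
  · have := Fact.mk p23
    obtain ⟨x, hx⟩ := exists_prime_orderOf_dvd_card' (G := M24) 23 (by rw [hc]; norm_num)
    exact twoT_of_conjPow p23 hx (conjPow_lt (D := 253) hc p23 hx (norm23_dvd le_rfl hx) (by decide +kernel)) h23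
  by_cases h5 : 5 ∣ Nat.card M
  swap
  · exact (Two.of_not_dvd h5 (not_SC_of_nr (nr_m24 Nat.prime_five (by norm_num) (by decide)) (by norm_num))).twoT
  by_cases h7 : 7 ∣ Nat.card M
  swap
  · exact (Two.of_not_dvd h7 (not_SC_of_nr (nr_m24 p7 (by norm_num) (by decide)) (by norm_num))).twoT
  have h11 : 11 ∣ Nat.card M :=
    dvd_of_pair tab known (r := 23) (s := 5) [(2, 10), (3, 3), (5, 1), (7, 1), (11, 1), (23, 1)] hc p23 Nat.prime_five
      (noOrd_of_norm p23 Nat.prime_five (D := 253) (fun _ hx => norm23_dvd le_rfl hx) (by norm_num)) (by decide +kernel) hM.1 h23 h5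
  have hX : M.map M24.subtype ≤ M24 := by
    rintro _ ⟨g, -, rfl⟩
    exact g.2
  rcases m24 hX (by rwa [card_map_subtype]) (by rwa [card_map_subtype]) (by rwa [card_map_subtype])
    (by rwa [card_map_subtype]) with h | ⟨a, ha⟩
  · exact absurd (eq_top_of_card (by rw [← card_map_subtype, h, hc])) hM.1
  · have key : ∀ m ∈ M, orderOf m ≠ 10 := by
      intro m hm ho
      exact no_fix_ten m.2 (by rw [Subgroup.orderOf_coe]; exact ho) a (ha _ (Subgroup.mem_map_of_mem M24.subtype hm))
    have key2 : ∀ φ : M24 ≃* M24, φ (g10 ^ 5) ∉ M := by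
      intro φ hφ
      have ho : orderOf (φ g10 : M24) = 10 := by rw [orderOf_mulEquiv, orderOf_g10]
      have h1 := fx_ten (x := (φ g10 : M24)) (φ g10).2 (by rw [Subgroup.orderOf_coe]; exact ho)
      refine no_fix h1 a ?_
      have h2 := ha _ (Subgroup.mem_map_of_mem M24.subtype hφ)
      rwa [map_pow] at h2
    refine Two.twoT ⟨g10, g10 ^ 5, fun φ hφ => key _ hφ (by rw [orderOf_mulEquiv, orderOf_g10]), key2,
      fun φ hφ => ?_⟩
    have h1 : orderOf (φ g10) = 10 := by rw [orderOf_mulEquiv, orderOf_g10]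
    rw [hφ, orderOf_pow_of_dvd (by norm_num) (by rw [orderOf_g10]; norm_num), orderOf_g10] at h1
    norm_num at h1

theorem row_m24_of (tab : OrderTable.{0}) (known : Known.{0}) {T : Type*} [Group T] (h : Cfsg.Spor.IsoM24 T) :
    Row T := by
  obtain ⟨e⟩ := h
  exact Row.congr e.symm (row_of_twoT Cfsg.Agent.S2064.result fun M hM => twoT_M24 tab known hM)

theorem twoT_M23 {M : Subgroup Spor.M23} (hM : IsCoatom M) : TwoT Spor.M23 M := by
  have hc := Cfsg.Agent.SporadicA.MathieuRecog.card_M23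
  have hfin : Finite Spor.M23 := Nat.finite_of_card_ne_zero (by rw [hc]; norm_num)
  have hle : Spor.M23 ≤ M24 := fun x hx => hx.1
  have p11 : (11 : ℕ).Prime := by norm_num
  have p23 : (23 : ℕ).Prime := by norm_num
  have p7 : (7 : ℕ).Prime := by norm_num
  by_cases h23 : 23 ∣ Nat.card M
  swap
  · have := Fact.mk p23
    obtain ⟨x, hx⟩ := exists_prime_orderOf_dvd_card' (G := Spor.M23) 23 (by rw [hc]; norm_num)
    exact twoT_of_conjPow p23 hx (conjPow_lt (D := 253) hc p23 hx (norm23_dvd hle hx) (by decide +kernel)) h23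
  by_cases h11 : 11 ∣ Nat.card M
  swap
  · have := Fact.mk p11
    obtain ⟨x, hx⟩ := exists_prime_orderOf_dvd_card' (G := Spor.M23) 11 (by rw [hc]; norm_num)
    exact twoT_of_conjPow p11 hx (conjPow_lt (D := 110) hc p11 hx (norm11_dvd hle hx) (by decide +kernel)) h11
  by_cases h7 : 7 ∣ Nat.card M
  swap
  · exact (Two.of_not_dvd h7 (not_SC_of_nr (nr_m23 p7 (by norm_num) (by decide)) (by norm_num))).twoT
  by_cases h5 : 5 ∣ Nat.card M
  swap
  · obtain ⟨z, hz⟩ := Cfsg.Agent.H180.KMathieu.hasOrd23 967757946574684196784273705387931784 15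
      (by decide +kernel) (by decide +kernel) (by decide +kernel)
    exact (Two.of_not_dvd h5 (not_SC_of_orderOf Nat.prime_five (y := z) (by rw [hz]; norm_num)
      (by rw [hz]; norm_num))).twoT
  refine absurd (eq_top_of_card ?_) hM.1
  rw [← card_map_subtype, hc]
  refine m23 (T := {none}) ?_ (by decide) ?_ (by rwa [card_map_subtype]) (by rwa [card_map_subtype])
    (by rwa [card_map_subtype]) (by rwa [card_map_subtype])
  · rintro _ ⟨g, -, rfl⟩
    exact g.2.1
  · rintro _ ⟨g, -, rfl⟩ t ht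
    rw [Finset.mem_singleton] at ht
    rw [ht]
    exact g.2.2

theorem row_m23 {T : Type*} [Group T] (h : Cfsg.Spor.IsoM23 T) : Row T := by
  obtain ⟨e⟩ := h
  exact Row.congr e.symm (row_of_twoT Cfsg.Agent.S2063.result fun M hM => twoT_M23 hM)

end Cfsg.Agent.H123.Der
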