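import Cfsg.Agent.H123.Der.MTwelveCore
import Cfsg.Agent.H123.Der.MTwentyFour
import Cfsg.Agent.S2061

/-!
# The row of `M₁₂` (S3500, helper123)
-/

set_option autoImplicit false

namespace Cfsg.Agent.H123.Der

open Subgroup Cfsg Cfsg.Agent.OrdDiv Cfsg.Agent.H257.El Cfsg.Agent.H439.Der Cfsg.Agent.H938.Sax
open Cfsg.Agent.H180.MEl
open Cfsg.Agent.H604.Sax.Mathieu (fx_ten no_fix_ten g8 orderOf_g8)
open Cfsg.Agent.SporadicStructure.M11InvPerms (dd dd_mem)
open Cfsg.Agent.MTwelveType.SylowModel (squareDodecad_eq card_M12)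
open scoped Pointwise

/-- a subgroup containing a Sylow 2-subgroup contains a conjugate of every 2-element -/
theorem exists_conj_mem {T : Type*} [Group T] [Finite T] {M : Subgroup T} {k : ℕ} (h1 : 2 ^ k ∣ Nat.card M)
    (h2 : ¬ 2 ^ (k + 1) ∣ Nat.card T) {v : T} (hv : ∃ j, orderOf v = 2 ^ j) : ∃ g : T, g * v * g⁻¹ ∈ M := by
  have := Fact.mk Nat.prime_two
  have hf : (Nat.card T).factorization 2 = k := by
    apply le_antisymm
    · by_contra hlt
      push Not at hlt
      exact h2 ((Nat.prime_two.pow_dvd_iff_le_factorization Nat.card_pos.ne').2 hlt)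
    · exact (Nat.prime_two.pow_dvd_iff_le_factorization Nat.card_pos.ne').1
        (h1.trans (Subgroup.card_subgroup_dvd_card M))
  obtain ⟨S, hS⟩ := Sylow.exists_subgroup_card_pow_prime (G := M) 2 h1
  let S' : Sylow 2 T := Sylow.ofCard (S.map M.subtype) (by
    rw [card_map_of_injective M.subtype_injective, hS, hf])
  obtain ⟨j, hj⟩ := hv
  have hpv : IsPGroup 2 (zpowers v) := IsPGroup.of_card (n := j) (by rw [Nat.card_zpowers, hj])
  obtain ⟨P, hP⟩ := hpv.exists_le_sylow
  obtain ⟨g, hg⟩ := MulAction.exists_smul_eq T P S'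
  refine ⟨g, ?_⟩
  have h3 : g * v * g⁻¹ ∈ (S' : Subgroup T) := by
    rw [← hg]
    exact Subgroup.mem_map.2 ⟨v, hP (mem_zpowers v), rfl⟩
  have h4 : (S' : Subgroup T) ≤ M := by
    rintro _ ⟨m, -, rfl⟩
    exact m.2
  exact h4 h3

theorem false_of_64 {M : Subgroup Spor.M12} (h64 : 64 ∣ Nat.card M) (h5 : 5 ∣ Nat.card M) (h11 : ¬ 11 ∣ Nat.card M) :
    False := by
  have := finM12
  obtain ⟨g, hg⟩ := exists_conj_mem (k := 6) (M := M) h64 (by rw [card_M12]; norm_num)
    (v := ⟨V8, V8_mem⟩) ⟨3, by rw [Subgroup.orderOf_mk, orderOf_V8]; norm_num⟩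
  set M' : Subgroup Spor.M12 := M.map (MulAut.conj g⁻¹).toMonoidHom with hM'
  have hc' : Nat.card M' = Nat.card M := card_map_of_injective (MulAut.conj g⁻¹).injective
  have hv : (⟨V8, V8_mem⟩ : Spor.M12) ∈ M' := by
    refine Subgroup.mem_map.2 ⟨_, hg, ?_⟩
    show g⁻¹ * (g * _ * g⁻¹) * (g⁻¹)⁻¹ = _
    group
  have hX : M'.map Spor.M12.subtype ≤ Spor.M12 := by
    rintro _ ⟨x, -, rfl⟩
    exact x.2
  exact false_of_V8 (X := M'.map Spor.M12.subtype) hX (by rw [card_map_subtype, hc']; exact h64)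
    (by rw [card_map_subtype, hc']; exact h11) (Subgroup.mem_map_of_mem Spor.M12.subtype hv)
    (by rw [card_map_subtype, hc']; exact h5)

theorem le_M24 : Spor.M12 ≤ M24 := fun _ hx => hx.1

/-- `a10` and `a10 ^ 5` -/
theorem two_of_fix {M : Subgroup Spor.M12} {a : GolayPt}
    (ha : ∀ g ∈ M.map Spor.M12.subtype, g a = a) : Two Spor.M12 M := by
  refine ⟨a10, a10 ^ 5, fun φ hφ => ?_, fun φ hφ => ?_, fun φ hφ => ?_⟩
  · have ho : orderOf ((φ a10 : Spor.M12) : Equiv.Perm GolayPt) = 10 := by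
      rw [Subgroup.orderOf_coe, orderOf_mulEquiv, orderOf_a10]
    exact no_fix_ten (x := ((φ a10 : Spor.M12) : Equiv.Perm GolayPt)) (φ a10).2.1 ho a
      (ha _ (Subgroup.mem_map_of_mem Spor.M12.subtype hφ))
  · exact no_fix (fx_a10 φ) a (ha _ (Subgroup.mem_map_of_mem Spor.M12.subtype hφ))
  · have h1 := orderOf_mulEquiv φ a10
    rw [hφ, orderOf_a10p, orderOf_a10] at h1
    norm_num at h1

theorem row_M12 (tab : OrderTable.{0}) (known : Known.{0}) : Row Spor.M12 := by
  intro M hM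
  have hfin := finM12
  have hc := card_M12
  have p11 : (11 : ℕ).Prime := by norm_num
  by_cases h11 : 11 ∣ Nat.card M
  swap
  · by_cases h64 : 64 ∣ Nat.card M
    · left
      have h5 : ¬ 5 ∣ Nat.card M := fun h5 => false_of_64 h64 h5 h11
      exact Two.of_two_primes Nat.prime_five p11 (by norm_num) (by rw [hc]; norm_num) (by rw [hc]; norm_num) h5 h11
    · right
      refine ⟨?_, noSyl_of_two (k := 6) hc (dvd_of_eq Cfsg.Agent.S2061.result) (by norm_num) (by norm_num)
        (by norm_num) h64⟩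
      have := Fact.mk p11
      obtain ⟨x, hx⟩ := exists_prime_orderOf_dvd_card' (G := Spor.M12) 11 (by rw [hc]; norm_num)
      exact twoT_of_conjPow p11 hx (conjPow_lt (D := 110) hc p11 hx (norm11_dvd le_M24 hx) (by decide +kernel)) h11
  left
  by_cases h5 : 5 ∣ Nat.card M
  swap
  · refine Two.of_two_primes (v := 3) (w := 5) Nat.prime_three Nat.prime_five (by norm_num)
      (by rw [hc]; norm_num) (by rw [hc]; norm_num) (fun h3 => h5 ?_) h5
    refine dvd_of_pair tab known (r := 11) (s := 3) [(2, 6), (3, 3), (5, 1), (11, 1)] hc p11 Nat.prime_three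
      (noOrd_of_noComm p11 Nat.prime_three fun x y hx hy hxy => ?_) (by decide +kernel) hM.1 h11 h3
    have := iso11_M12 x y hxy hx (by rw [hy]; norm_num)
    omega
  set X : Subgroup (Equiv.Perm GolayPt) := M.map Spor.M12.subtype with hXdef
  have hcX : Nat.card X = Nat.card M := card_map_subtype M
  have hX : X ≤ Spor.M12 := by
    rintro _ ⟨g, -, rfl⟩
    exact g.2
  rcases trans_or_fix hX (by rw [hcX]; exact h11) with ⟨a, -, ha⟩ | htr
  · exact two_of_fix ha
  have ho : ∀ a ∈ dd, (orb X a).card = 12 := by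
    intro a ha
    rw [htr a ha, card_dd]
  have h0 := card_orb_mul X (some 0)
  rw [ho _ zero_mem_dd] at h0
  have hS := card_St_M11 hX (dvd_St (by norm_num) (by rw [hcX]; exact h5) (ho _ zero_mem_dd) (by norm_num))
    (dvd_St (by norm_num) (by rw [hcX]; exact h11) (ho _ zero_mem_dd) (by norm_num))
  rcases hS with hS | hS | hS
  · -- 660: the orders 4 and 8 are missing
    rw [hS] at h0
    have h4 : ∀ m ∈ M, orderOf m ≠ 4 := by
      intro n hnR on
      obtain ⟨a, ha, h1⟩ := sq_fix12 (g := n) (by rw [← on, pow_orderOf_eq_one])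
      have h2 := card_orb_mul X a
      rw [ho a ha, ← h0] at h2
      have h3 : ((n ^ 2 : Spor.M12) : Equiv.Perm GolayPt) ∈ St X a :=
        ⟨Subgroup.mem_map_of_mem Spor.M12.subtype (M.pow_mem hnR 2), h1⟩
      have h4 : 2 ∣ Nat.card (St X a) := by
        have h5 := Subgroup.orderOf_dvd_natCard _ h3
        rwa [Subgroup.orderOf_coe, orderOf_pow_of_dvd (by norm_num) (by rw [on]; norm_num), on] at h5
      omega
    have h8 : ∀ m ∈ M, orderOf m ≠ 8 := by
      intro m hm ho
      have h1 := Subgroup.orderOf_dvd_natCard M hm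
      rw [ho, ← hcX, ← h0] at h1
      norm_num at h1
    exact Two.of_orders (a := 4) (b := 8) (by norm_num) (x := a4) (y := (⟨V8, V8_mem⟩ : Spor.M12))
      orderOf_a4 (by rw [Subgroup.orderOf_mk, orderOf_V8]) h4 h8
  · -- 7920
    rw [hS] at h0
    have hsimp : IsSimpleGroup M := isSimple_of_iso11 (iso11_M12.sub M) (Or.inr (by rw [← hcX, ← h0]))
    have hMM : Cfsg.IsM11 M := ⟨hsimp, by rw [← hcX, ← h0]⟩
    have h10 : ∀ m ∈ M, orderOf m ≠ 10 := by
      intro m hm om
      have o5 : orderOf ((⟨m, hm⟩ : M) ^ 2) = 5 := by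
        rw [orderOf_pow_of_dvd (by norm_num) (by rw [Subgroup.orderOf_mk, om]; norm_num), Subgroup.orderOf_mk, om]
      have h1 := Cfsg.Agent.SporadicA.M11Facts.card_centralizer_five hMM o5
      have h2 : (⟨m, hm⟩ : M) ∈ Subgroup.centralizer ({(⟨m, hm⟩ : M) ^ 2} : Set M) :=
        Subgroup.mem_centralizer_singleton_iff.2 ((Commute.refl (⟨m, hm⟩ : M)).pow_right 2).eq
      have h3 := Subgroup.orderOf_dvd_natCard _ h2
      rw [h1, Subgroup.orderOf_mk, om] at h3
      norm_num at h3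
    by_cases hex : ∃ n ∈ M, orderOf n = 4
    swap
    · push Not at hex
      exact Two.of_orders (a := 4) (b := 10) (by norm_num) orderOf_a4 orderOf_a10 hex h10
    obtain ⟨n, hn, on⟩ := hex
    have o2 : orderOf (n ^ 2) = 2 := by
      rw [orderOf_pow_of_dvd (by norm_num) (by rw [on]; norm_num), on]
    refine ⟨a10, a10 ^ 5, fun φ hφ => h10 _ hφ (by rw [orderOf_mulEquiv, orderOf_a10]), fun φ hφ => ?_,
      fun φ hφ => ?_⟩
    · have hconj := Cfsg.Agent.SporadicA.M11Facts.isConj_involutions hMM (u := ⟨φ (a10 ^ 5), hφ⟩)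
        (u' := ⟨n ^ 2, M.pow_mem hn 2⟩)
        (by rw [Subgroup.orderOf_mk, orderOf_mulEquiv, orderOf_a10p])
        (by rw [Subgroup.orderOf_mk, o2])
      obtain ⟨c, hc⟩ := isConj_iff.1 hconj
      have h1 : ((c : Spor.M12) : Equiv.Perm GolayPt) * ((φ (a10 ^ 5) : Spor.M12) : Equiv.Perm GolayPt) *
          ((c : Spor.M12) : Equiv.Perm GolayPt)⁻¹ = ((n ^ 2 : Spor.M12) : Equiv.Perm GolayPt) :=
        congrArg (fun z : M => ((z : Spor.M12) : Equiv.Perm GolayPt)) hc
      obtain ⟨a, ha, h2⟩ := sq_fix12 (g := n) (by rw [← on, pow_orderOf_eq_one])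
      refine no_fix ?_ a h2
      rw [← h1, Cfsg.Agent.H866.InvolType.fx_conj]
      exact fx_a10 φ
    · have h1 := orderOf_mulEquiv φ a10
      rw [hφ, orderOf_a10p, orderOf_a10] at h1
      norm_num at h1
  · rw [hS] at h0
    exact absurd (eq_top_of_card (by rw [← hcX, ← h0, card_M12])) hM.1

theorem row_m12_of (tab : OrderTable.{0}) (known : Known.{0}) {T : Type*} [Group T] (h : Cfsg.Spor.IsoM12 T) :
    Row T := by
  obtain ⟨e⟩ := h
  exact Row.congr e.symm (row_M12 tab known)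

end Cfsg.Agent.H123.Der
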