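import Cfsg.Agent.H604.Sax.Mathieu
import Cfsg.Agent.CpAutTThree.MTwelve

/-!
# Subgroups of `M₁₂` containing a Sylow 2-subgroup and an element of order 5 (S3500, helper123)
-/

set_option autoImplicit false

namespace Cfsg.Agent.H123.Der

open Cfsg
open Cfsg.Agent.H180.MEl
open Cfsg.Agent.H604.Sax.Mathieu (fx_ten no_fix_ten)
open Cfsg.Agent.J4Type.CocodeMask (mk isTab_mk)
open Cfsg.Agent.SporadicA.GolayPerm (isPerm isAut papp)
open Cfsg.Agent.SporadicA.GolayBase (idx idx_lt idx_injective)
open Cfsg.Agent.H180.KMathieu (orderOf_tab ordOk)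
open Cfsg.Agent.SporadicStructure.M11InvPerms (dd dd_mem)
open Cfsg.Agent.MTwelveType.SylowModel (squareDodecad_eq card_M12)

theorem dd_eq : dd = {some 0, some 1, some 2, some 3, some 4, some 6, some 8, some 9, some 12, some 13, some 16,
    some 18} := by decide +kernel

/-- an element of order 8 with cycles `(0)(4)(2 12)(1 8 13 18 3 16 9 6)` on the dodecad -/
def PV : ℕ := 591056635223538314600581771593003264

theorem okV : (isPerm PV && isAut PV) = true := by decide +kernel

noncomputable def V8 : Equiv.Perm GolayPt := (mk PV okV : Equiv.Perm GolayPt)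

theorem V8_mem : V8 ∈ Spor.M12 := mk_mem12 okV (by decide +kernel)

theorem V8_apply {p q : GolayPt} (h : papp PV (idx p) = idx q) : V8 p = q := by
  apply idx_injective
  rw [← h]
  exact isTab_mk PV okV p

theorem orderOf_V8 : orderOf V8 = 8 := by
  have := orderOf_tab (isTab_mk PV okV) (n := 8) (by decide +kernel)
  rw [← Subgroup.orderOf_coe] at this
  exact this

theorem V0 : V8 (some 0) = some 0 := V8_apply (by decide +kernel)
theorem V4 : V8 (some 4) = some 4 := V8_apply (by decide +kernel)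
theorem V2 : V8 (some 2) = some 12 := V8_apply (by decide +kernel)
theorem V12 : V8 (some 12) = some 2 := V8_apply (by decide +kernel)
theorem V1 : V8 (some 1) = some 8 := V8_apply (by decide +kernel)
theorem V88 : V8 (some 8) = some 13 := V8_apply (by decide +kernel)
theorem V13 : V8 (some 13) = some 18 := V8_apply (by decide +kernel)
theorem V18 : V8 (some 18) = some 3 := V8_apply (by decide +kernel)
theorem V3 : V8 (some 3) = some 16 := V8_apply (by decide +kernel)
theorem V16 : V8 (some 16) = some 9 := V8_apply (by decide +kernel)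
theorem V9 : V8 (some 9) = some 6 := V8_apply (by decide +kernel)
theorem V6 : V8 (some 6) = some 1 := V8_apply (by decide +kernel)

theorem fx5_dd {x : Equiv.Perm GolayPt} (hx : x ∈ Spor.M12) (ox : orderOf x = 5) : (dd ∩ Fx x).card = 2 := by
  have := Fact.mk Nat.prime_five
  have hp : x ^ 5 = 1 := by rw [← ox, pow_orderOf_eq_one]
  have h1 := card_mod (p := 5) hp dd (inv_dd hx)
  have h2 := card_mod (p := 5) hp ddᶜ (inv_ddc hx)
  have h3 : (Fx x ∩ dd).card + (Fx x \ dd).card = (Fx x).card := Finset.card_inter_add_card_sdiff _ _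
  have h4 : ddᶜ ∩ Fx x = Fx x \ dd := by
    ext p
    simp only [Finset.mem_inter, Finset.mem_compl, Finset.mem_sdiff]
    exact and_comm
  rw [Finset.inter_comm, ← h4, card_Fx, fx5 hx.1 ox] at h3
  rw [card_dd] at h1
  rw [card_ddc] at h2
  unfold Nat.ModEq at h1 h2
  omega

/-- `M₁₂` is transitive on the dodecad -/
theorem orb_M12 {a : GolayPt} (ha : a ∈ dd) : orb Spor.M12 a = dd := by
  have h11 : 11 ∣ Nat.card Spor.M12 := by rw [card_M12]; norm_num
  rcases trans_or_fix le_rfl h11 with ⟨b, -, hb⟩ | h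
  · exfalso
    have ho : orderOf (a10 : Equiv.Perm GolayPt) = 10 := by rw [Subgroup.orderOf_coe, orderOf_a10]
    exact no_fix_ten (x := (a10 : Equiv.Perm GolayPt)) a10.2.1 ho b (hb _ a10.2)
  · exact h a ha

theorem card_St_dvd {X : Subgroup (Equiv.Perm GolayPt)} (hX : X ≤ Spor.M12) {a : GolayPt} (ha : a ∈ dd) :
    Nat.card (St X a) ∣ 7920 := by
  have h1 := card_orb_mul Spor.M12 a
  rw [orb_M12 ha, card_dd, card_M12] at h1
  have h2 : Nat.card (St Spor.M12 a) = 7920 := by omega
  rw [← h2]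
  exact Subgroup.card_dvd_of_le fun g hg => ⟨hX hg.1, hg.2⟩

theorem num12 {o f : ℕ} (h4 : 4 ∣ o) (hm : o % 5 = f % 5) (hf : f ≤ 2) (hle : o ≤ 12) (hpos : 0 < o) : o = 12 := by
  interval_cases f <;> omega

theorem num4 {o s m : ℕ} (h64 : 64 ∣ m) (hos : o * s = m) (hs : s ∣ 7920) : 4 ∣ o := by
  have h1 : 64 ∣ o * 7920 := by
    rw [← hos] at h64
    exact h64.trans (Nat.mul_dvd_mul_left o hs)
  omega

/-- transitivity on the dodecad -/
theorem orb_eq_dd {X : Subgroup (Equiv.Perm GolayPt)} (hX : X ≤ Spor.M12) (h64 : 64 ∣ Nat.card X)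
    {x : Equiv.Perm GolayPt} (hx : x ∈ X) (ox : orderOf x = 5) {a : GolayPt} (ha : a ∈ dd) : orb X a = dd := by
  have := Fact.mk Nat.prime_five
  have m := orb_mod (a := a) hx ox
  have h1 : (orb X a ∩ Fx x).card ≤ 2 := by
    rw [← fx5_dd (hX hx) ox]
    exact Finset.card_le_card (Finset.inter_subset_inter_right (orb_sub hX ha))
  have h2 : (orb X a).card ≤ 12 := by
    rw [← card_dd]
    exact Finset.card_le_card (orb_sub hX ha)
  have h12 := num12 (num4 h64 (card_orb_mul X a) (card_St_dvd hX ha)) m h1 h2 (orb_pos X a)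
  exact Finset.eq_of_subset_of_card_le (orb_sub hX ha) (by rw [card_dd, h12])

section core

variable {X : Subgroup (Equiv.Perm GolayPt)}

/-- the cycle type of `V8` restricts the invariant sets -/
theorem card_inv {O : Finset GolayPt} (hO : O ⊆ dd) (hinv : ∀ q ∈ O, V8 q ∈ O) (h0 : some 0 ∉ O) (h4 : some 4 ∈ O) :
    O.card = 1 ∨ O.card = 3 ∨ O.card = 9 ∨ O.card = 11 := by
  have k2 : some 2 ∈ O ↔ some 12 ∈ O := ⟨fun h => V2 ▸ hinv _ h, fun h => V12 ▸ hinv _ h⟩
  have k1 : some 1 ∈ O → some 8 ∈ O := fun h => V1 ▸ hinv _ h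
  have k8 : some 8 ∈ O → some 13 ∈ O := fun h => V88 ▸ hinv _ h
  have k13 : some 13 ∈ O → some 18 ∈ O := fun h => V13 ▸ hinv _ h
  have k18 : some 18 ∈ O → some 3 ∈ O := fun h => V18 ▸ hinv _ h
  have k3 : some 3 ∈ O → some 16 ∈ O := fun h => V3 ▸ hinv _ h
  have k16 : some 16 ∈ O → some 9 ∈ O := fun h => V16 ▸ hinv _ h
  have k9 : some 9 ∈ O → some 6 ∈ O := fun h => V9 ▸ hinv _ h
  have k6 : some 6 ∈ O → some 1 ∈ O := fun h => V6 ▸ hinv _ h
  have hOf : O = dd.filter (fun p => p ∈ O) := by
    ext p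
    rw [Finset.mem_filter]
    exact ⟨fun h => ⟨hO h, h⟩, fun h => h.2⟩
  rw [hOf, dd_eq]
  by_cases h1 : some 1 ∈ O
  · have h8 := k1 h1
    have h13 := k8 h8
    have h18 := k13 h13
    have h3 := k18 h18
    have h16 := k3 h3
    have h9 := k16 h16
    have h6 := k9 h9
    by_cases h2 : some 2 ∈ O
    · have h12 := k2.1 h2
      simp only [Finset.filter_insert, Finset.filter_singleton, h0, h1, h2, h3, h4, h6, h8, h9, h12, h13, h16, h18,
        if_true, if_false]
      decide +kernel
    · have h12 : some 12 ∉ O := fun h => h2 (k2.2 h)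
      simp only [Finset.filter_insert, Finset.filter_singleton, h0, h1, h2, h3, h4, h6, h8, h9, h12, h13, h16, h18,
        if_true, if_false]
      decide +kernel
  · have h6 : some 6 ∉ O := fun h => h1 (k6 h)
    have h9 : some 9 ∉ O := fun h => h6 (k9 h)
    have h16 : some 16 ∉ O := fun h => h9 (k16 h)
    have h3 : some 3 ∉ O := fun h => h16 (k3 h)
    have h18 : some 18 ∉ O := fun h => h3 (k18 h)
    have h13 : some 13 ∉ O := fun h => h18 (k13 h)
    have h8 : some 8 ∉ O := fun h => h13 (k8 h)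
    by_cases h2 : some 2 ∈ O
    · have h12 := k2.1 h2
      simp only [Finset.filter_insert, Finset.filter_singleton, h0, h1, h2, h3, h4, h6, h8, h9, h12, h13, h16, h18,
        if_true, if_false]
      decide +kernel
    · have h12 : some 12 ∉ O := fun h => h2 (k2.2 h)
      simp only [Finset.filter_insert, Finset.filter_singleton, h0, h1, h2, h3, h4, h6, h8, h9, h12, h13, h16, h18,
        if_true, if_false]
      decide +kernel

theorem num1 {o f : ℕ} (ho : o = 1 ∨ o = 3 ∨ o = 9 ∨ o = 11) (hm : o % 5 = f % 5) (hf : f ≤ 1) (h11 : o ≠ 11) :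
    o = 1 := by
  interval_cases f <;> omega

/-- the stabilizer of a point fixes a second one -/
theorem fix_four (hX : X ≤ Spor.M12) (h64 : 64 ∣ Nat.card X) (h11 : ¬ 11 ∣ Nat.card X) (hv : V8 ∈ X)
    {x : Equiv.Perm GolayPt} (hx : x ∈ X) (ox : orderOf x = 5) :
    ∀ g ∈ X, g (some 0) = some 0 → g (some 4) = some 4 := by
  have := Fact.mk Nat.prime_five
  have z0 : (some 0 : GolayPt) ∈ dd := by decide +kernel
  have z4 : (some 4 : GolayPt) ∈ dd := by decide +kernel
  have h5 : 5 ∣ Nat.card X := by rw [← ox]; exact Subgroup.orderOf_dvd_natCard X hx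
  have h12 := orb_eq_dd hX h64 hx ox z0
  have c12 : (orb X (some 0)).card = 12 := by rw [h12, card_dd]
  obtain ⟨y, hy, oy⟩ := exists_order (p := 5) (dvd_St Nat.prime_five h5 c12 (by norm_num))
  set Y := St X (some 0) with hY
  have hYX : Y ≤ X := inf_le_left
  have hvY : V8 ∈ Y := ⟨hv, V0⟩
  have h0 : some 0 ∉ orb Y (some 4) := by
    intro h
    obtain ⟨g, hg, hg4⟩ := mem_orb.1 h
    have h1 : g (some 0) = some 0 := hg.2
    have h2 := g.injective (hg4.trans h1.symm)
    exact absurd h2 (by decide)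
  have hinv : ∀ q ∈ orb Y (some 4), V8 q ∈ orb Y (some 4) := orb_inv hvY
  have hsub : orb Y (some 4) ⊆ dd := orb_sub (hYX.trans hX) z4
  have hc := card_inv hsub hinv h0 (self_mem_orb Y (some 4))
  have m := orb_mod (a := some 4) hy oy
  have hf : (orb Y (some 4) ∩ Fx y).card ≤ 1 := by
    have h1 := fx5_dd (hX (hYX hy)) oy
    have h2 : orb Y (some 4) ∩ Fx y ⊆ (dd ∩ Fx y).erase (some 0) := by
      intro q hq
      rw [Finset.mem_inter] at hq
      rw [Finset.mem_erase, Finset.mem_inter]
      exact ⟨fun h => h0 (h ▸ hq.1), hsub hq.1, hq.2⟩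
    have h3 := Finset.card_le_card h2
    rw [Finset.card_erase_of_mem (Finset.mem_inter.2 ⟨z0, mem_Fx.2 hy.2⟩), h1] at h3
    exact h3
  have hne : (orb Y (some 4)).card ≠ 11 := by
    intro h
    apply h11
    have h1 := card_orb_mul Y (some 4)
    rw [h] at h1
    exact (Dvd.intro _ h1).trans (Subgroup.card_dvd_of_le hYX)
  have h1 := num1 hc m hf hne
  intro g hg h2
  exact orb_one h1 g ⟨hg, h2⟩

/-- the partner relation -/
def Pr (X : Subgroup (Equiv.Perm GolayPt)) (c d : GolayPt) : Prop := ∃ h ∈ X, h (some 0) = c ∧ h (some 4) = d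

theorem Pr.map {c d : GolayPt} (h : Pr X c d) {g : Equiv.Perm GolayPt} (hg : g ∈ X) : Pr X (g c) (g d) := by
  obtain ⟨k, hk, rfl, rfl⟩ := h
  exact ⟨g * k, X.mul_mem hg hk, rfl, rfl⟩

theorem Pr.ne {c d : GolayPt} (h : Pr X c d) : c ≠ d := by
  obtain ⟨k, hk, rfl, rfl⟩ := h
  intro h
  exact absurd (k.injective h) (by decide)

theorem Pr.unique (hfix : ∀ g ∈ X, g (some 0) = some 0 → g (some 4) = some 4) {c d d' : GolayPt}
    (h : Pr X c d) (h' : Pr X c d') : d = d' := by
  obtain ⟨k, hk, rfl, rfl⟩ := h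
  obtain ⟨l, hl, h1, rfl⟩ := h'
  have h2 := hfix (k⁻¹ * l) (X.mul_mem (X.inv_mem hk) hl) (by
    show k⁻¹ (l (some 0)) = some 0
    rw [h1]; exact Equiv.symm_apply_apply k _)
  have h3 : k ((k⁻¹ * l) (some 4)) = l (some 4) := by
    show k (k⁻¹ (l (some 4))) = _
    exact Equiv.apply_symm_apply k _
  rw [← h3, h2]

theorem Pr.mem_dd (hX : X ≤ Spor.M12) {c d : GolayPt} (h : Pr X c d) : d ∈ dd := by
  obtain ⟨k, hk, rfl, rfl⟩ := h
  exact inv_dd (hX hk) _ (by decide +kernel)

theorem Pr.exists (htr : orb X (some 0) = dd) {c : GolayPt} (hc : c ∈ dd) : ∃ d, Pr X c d := by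
  rw [← htr] at hc
  obtain ⟨g, hg, rfl⟩ := mem_orb.1 hc
  exact ⟨g (some 4), g, hg, rfl, rfl⟩

/-- the points of the 8-cycle -/
def Zs : Finset GolayPt := {some 1, some 8, some 13, some 18, some 3, some 16, some 9, some 6}

theorem dd_cases {c : GolayPt} (hc : c ∈ dd) : c = some 0 ∨ c = some 4 ∨ c = some 2 ∨ c = some 12 ∨ c ∈ Zs := by
  revert c
  decide +kernel

theorem Zs_cases {c : GolayPt} (hc : c ∈ Zs) : c = some 1 ∨ c = some 8 ∨ c = some 13 ∨ c = some 18 ∨ c = some 3 ∨
    c = some 16 ∨ c = some 9 ∨ c = some 6 := by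
  revert c
  decide +kernel

theorem V8_Zs {c : GolayPt} (hc : c ∈ Zs) : V8 c ∈ Zs ∧ V8 c ≠ c := by
  rcases Zs_cases hc with rfl | rfl | rfl | rfl | rfl | rfl | rfl | rfl
  · rw [V1]; decide +kernel
  · rw [V88]; decide +kernel
  · rw [V13]; decide +kernel
  · rw [V18]; decide +kernel
  · rw [V3]; decide +kernel
  · rw [V16]; decide +kernel
  · rw [V9]; decide +kernel
  · rw [V6]; decide +kernel

/-- the fourth power -/
noncomputable def W8 : Equiv.Perm GolayPt := V8 * V8 * (V8 * V8)

theorem W8_apply (c : GolayPt) : W8 c = V8 (V8 (V8 (V8 c))) := rfl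

theorem W0 : W8 (some 0) = some 0 := by simp only [W8_apply, V0]
theorem W4 : W8 (some 4) = some 4 := by simp only [W8_apply, V4]
theorem W2 : W8 (some 2) = some 2 := by simp only [W8_apply, V2, V12]
theorem W12 : W8 (some 12) = some 12 := by simp only [W8_apply, V2, V12]
theorem W1 : W8 (some 1) = some 3 := by simp only [W8_apply, V1, V88, V13, V18]

theorem W8_Zs {c : GolayPt} (hc : c ∈ Zs) : W8 c ∈ Zs ∧ W8 c ≠ c := by
  rcases Zs_cases hc with rfl | rfl | rfl | rfl | rfl | rfl | rfl | rfl <;>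
    simp only [W8_apply, V1, V88, V13, V18, V3, V16, V9, V6] <;> decide +kernel

theorem W8_sq {c : GolayPt} (hc : c ∈ Zs) : W8 (W8 c) = c := by
  rcases Zs_cases hc with rfl | rfl | rfl | rfl | rfl | rfl | rfl | rfl <;>
    simp only [W8_apply, V1, V88, V13, V18, V3, V16, V9, V6]

section partner

variable (hX : X ≤ Spor.M12) (hv : V8 ∈ X) (htr : orb X (some 0) = dd)
  (hfix : ∀ g ∈ X, g (some 0) = some 0 → g (some 4) = some 4)

include hX hv htr hfix

omit hX hv htr hfix in
theorem pr04 : Pr X (some 0) (some 4) := ⟨1, X.one_mem, rfl, rfl⟩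

theorem pr40 : Pr X (some 4) (some 0) := by
  obtain ⟨d, hd⟩ := Pr.exists htr (c := some 4) (by decide +kernel)
  have h1 := hd.map hv
  rw [V4] at h1
  have h2 := Pr.unique hfix hd h1
  rcases dd_cases (hd.mem_dd hX) with h | h | h | h | h
  · rwa [h] at hd
  · exact absurd h hd.ne.symm
  · rw [h, V2] at h2; exact absurd h2 (by decide)
  · rw [h, V12] at h2; exact absurd h2 (by decide)
  · exact absurd h2.symm (V8_Zs h).2

theorem Pr.symm {c d : GolayPt} (h : Pr X c d) : Pr X d c := by
  obtain ⟨k, hk, rfl, rfl⟩ := h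
  exact (pr40 hX hv htr hfix).map hk

theorem pr2 : Pr X (some 2) (some 12) := by
  obtain ⟨d, hd⟩ := Pr.exists htr (c := some 2) (by decide +kernel)
  have h1 := (hd.map hv).map hv
  rw [V2, V12] at h1
  have h2 := Pr.unique hfix hd h1
  have hs := Pr.symm hX hv htr hfix hd
  rcases dd_cases (hd.mem_dd hX) with h | h | h | h | h
  · rw [h] at hs
    exact absurd (Pr.unique hfix hs pr04) (by decide)
  · rw [h] at hs
    exact absurd (Pr.unique hfix hs (pr40 hX hv htr hfix)) (by decide)
  · exact absurd h hd.ne.symm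
  · rwa [h] at hd
  · exfalso
    rcases Zs_cases h with rfl | rfl | rfl | rfl | rfl | rfl | rfl | rfl <;>
      simp only [V1, V88, V13, V18, V3, V16, V9, V6] at h2 <;> exact absurd h2 (by decide)

theorem pr1 : Pr X (some 1) (some 3) := by
  obtain ⟨d, hd⟩ := Pr.exists htr (c := some 1) (by decide +kernel)
  have hs := Pr.symm hX hv htr hfix hd
  have h2 := pr2 hX hv htr hfix
  have h2' := Pr.symm hX hv htr hfix h2
  rcases dd_cases (hd.mem_dd hX) with h | h | h | h | h
  · rw [h] at hs
    exact absurd (Pr.unique hfix hs pr04) (by decide)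
  · rw [h] at hs
    exact absurd (Pr.unique hfix hs (pr40 hX hv htr hfix)) (by decide)
  · rw [h] at hs
    exact absurd (Pr.unique hfix hs h2) (by decide)
  · rw [h] at hs
    exact absurd (Pr.unique hfix hs h2') (by decide)
  · have m1 := hd.map hv
    have m2 := m1.map hv
    have m3 := m2.map hv
    have m4 := m3.map hv
    have m5 := m4.map hv
    have m6 := m5.map hv
    have m7 := m6.map hv
    rcases Zs_cases h with rfl | rfl | rfl | rfl | rfl | rfl | rfl | rfl
    · exact absurd rfl hd.ne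
    · simp only [V1, V88] at m1
      exact absurd (Pr.unique hfix m1 hs) (by decide)
    · simp only [V1, V88, V13, V18] at m2
      exact absurd (Pr.unique hfix m2 hs) (by decide)
    · simp only [V1, V88, V13, V18, V3, V16] at m3
      exact absurd (Pr.unique hfix m3 hs) (by decide)
    · exact hd
    · simp only [V1, V88, V13, V18, V3, V16, V9, V6] at m5
      exact absurd (Pr.unique hfix m5 hs) (by decide)
    · simp only [V1, V88, V13, V18, V3, V16, V9, V6] at m6
      exact absurd (Pr.unique hfix m6 hs) (by decide)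
    · simp only [V1, V88, V13, V18, V3, V16, V9, V6] at m7
      exact absurd (Pr.unique hfix m7 hs) (by decide)

/-- `W8` maps the points of the 8-cycle to their partners -/
theorem prW {c : GolayPt} (hc : c ∈ Zs) : Pr X c (W8 c) := by
  have m0 := pr1 hX hv htr hfix
  have m1 := m0.map hv
  have m2 := m1.map hv
  have m3 := m2.map hv
  have m4 := m3.map hv
  have m5 := m4.map hv
  have m6 := m5.map hv
  have m7 := m6.map hv
  simp only [V1, V88, V13, V18, V3, V16, V9, V6] at m1 m2 m3 m4 m5 m6 m7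
  rcases Zs_cases hc with rfl | rfl | rfl | rfl | rfl | rfl | rfl | rfl <;>
    simp only [W8_apply, V1, V88, V13, V18, V3, V16, V9, V6] <;> assumption

end partner

theorem W8_mem {X : Subgroup (Equiv.Perm GolayPt)} (hv : V8 ∈ X) : W8 ∈ X :=
  X.mul_mem (X.mul_mem hv hv) (X.mul_mem hv hv)

theorem false_of_V8 (hX : X ≤ Spor.M12) (h64 : 64 ∣ Nat.card X) (h11 : ¬ 11 ∣ Nat.card X) (hv : V8 ∈ X)
    (h5 : 5 ∣ Nat.card X) : False := by
  have := Fact.mk Nat.prime_five
  have z0 : (some 0 : GolayPt) ∈ dd := by decide +kernel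
  have z4 : (some 4 : GolayPt) ∈ dd := by decide +kernel
  obtain ⟨x, hx, ox⟩ := exists_order h5
  have hfix := fix_four hX h64 h11 hv hx ox
  have htr := orb_eq_dd hX h64 hx ox z0
  have c12 : (orb X (some 0)).card = 12 := by rw [htr, card_dd]
  obtain ⟨y, hy, oy⟩ := exists_order (p := 5) (dvd_St Nat.prime_five h5 c12 (by norm_num))
  have hyX : y ∈ X := hy.1
  have y0 : y (some 0) = some 0 := hy.2
  have y4 : y (some 4) = some 4 := hfix y hyX y0
  have hyy : ∀ c, y (y⁻¹ c) = c := fun c => Equiv.apply_symm_apply y c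
  have hyy' : ∀ c, y⁻¹ (y c) = c := fun c => Equiv.symm_apply_apply y c
  -- the fixed points of `y`
  have hFx : ∀ c ∈ dd, y c = c → c = some 0 ∨ c = some 4 := by
    intro c hc hyc
    by_contra hcon
    push Not at hcon
    have h1 := fx5_dd (hX hyX) oy
    have h2 : ({some 0, some 4, c} : Finset GolayPt) ⊆ dd ∩ Fx y := by
      intro q hq
      simp only [Finset.mem_insert, Finset.mem_singleton] at hq
      rw [Finset.mem_inter, mem_Fx]
      rcases hq with rfl | rfl | rfl
      · exact ⟨z0, y0⟩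
      · exact ⟨z4, y4⟩
      · exact ⟨hc, hyc⟩
    have h3 := Finset.card_le_card h2
    rw [h1, Finset.card_insert_of_notMem (by
        simp only [Finset.mem_insert, Finset.mem_singleton, not_or]
        exact ⟨by decide, fun h => hcon.1 h.symm⟩), Finset.card_insert_of_notMem (by
        rw [Finset.mem_singleton]
        exact fun h => hcon.2 h.symm), Finset.card_singleton] at h3
    omega
  set w := W8 with hw
  have hwX : w ∈ X := W8_mem hv
  set q : Equiv.Perm GolayPt := w * (y * w * y⁻¹) with hq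
  have hqX : q ∈ X := X.mul_mem hwX (X.mul_mem (X.mul_mem hyX hwX) (X.inv_mem hyX))
  have hqa : ∀ c, q c = w (y (w (y⁻¹ c))) := fun c => rfl
  have hp := fun (c : GolayPt) (hc : c ∈ Zs) => prW hX hv htr hfix hc
  -- fixed points of `q`
  have hfixq : ∀ c ∈ dd, c ≠ some 2 → c ≠ some 12 → c ≠ y (some 2) → c ≠ y (some 12) → q c = c := by
    intro c hc n2 n12 m2 m12
    rw [hqa]
    rcases dd_cases hc with rfl | rfl | rfl | rfl | hcZ
    · have : y⁻¹ (some 0) = some 0 := by rw [← y0, hyy', y0]
      rw [this, hw, W0, y0, W0]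
    · have : y⁻¹ (some 4) = some 4 := by rw [← y4, hyy', y4]
      rw [this, hw, W4, y4, W4]
    · exact absurd rfl n2
    · exact absurd rfl n12
    · have hc' : y⁻¹ c ∈ dd := inv_dd (hX (X.inv_mem hyX)) c hc
      have hcZ' : y⁻¹ c ∈ Zs := by
        rcases dd_cases hc' with h | h | h | h | h
        · exfalso
          have h1 : c = some 0 := by rw [← hyy c, h, y0]
          rw [h1] at hcZ
          exact absurd hcZ (by decide +kernel)
        · exfalso
          have h1 : c = some 4 := by rw [← hyy c, h, y4]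
          rw [h1] at hcZ
          exact absurd hcZ (by decide +kernel)
        · exact absurd (by rw [← hyy c, h]) m2
        · exact absurd (by rw [← hyy c, h]) m12
        · exact h
      have h1 := (hp _ hcZ').map hyX
      rw [hyy] at h1
      have h2 := Pr.unique hfix h1 (hp _ hcZ)
      rw [h2]
      exact W8_sq hcZ
  -- `q` is not trivial
  have hy2 : y (some 2) ∈ Zs := by
    have hd2 : y (some 2) ∈ dd := inv_dd (hX hyX) _ (by decide +kernel)
    rcases dd_cases hd2 with h | h | h | h | h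
    · exact absurd (y.injective (h.trans y0.symm)) (by decide)
    · exact absurd (y.injective (h.trans y4.symm)) (by decide)
    · rcases hFx _ (by decide +kernel) h with h1 | h1 <;> exact absurd h1 (by decide)
    · exfalso
      have h1 := (pr2 hX hv htr hfix).map hyX
      rw [h] at h1
      have h2 := Pr.unique hfix h1 (Pr.symm hX hv htr hfix (pr2 hX hv htr hfix))
      -- `y` exchanges 2 and 12
      have h3 : (y ^ 5) (some 2) = some 12 := by
        show y (y (y (y (y (some 2))))) = some 12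
        rw [h, h2, h, h2, h]
      rw [← oy, pow_orderOf_eq_one] at h3
      exact absurd h3 (by decide)
    · exact h
  have hq1 : q ≠ 1 := by
    intro h
    have h1 : q (y (some 2)) = y (some 2) := by rw [h]; rfl
    rw [hqa, hyy', hw, W2] at h1
    exact (W8_Zs hy2).2 h1
  have h4 := Cfsg.Agent.CpAutTThree.MTwelve.fix_le (hX hqX) hq1
  have h8 : dd \ {some 2, some 12, y (some 2), y (some 12)} ⊆ Cfsg.Agent.CpAutTThree.MTwelve.Fix q := by
    intro c hc
    rw [Finset.mem_sdiff] at hc
    simp only [Finset.mem_insert, Finset.mem_singleton, not_or] at hc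
    rw [Cfsg.Agent.CpAutTThree.MTwelve.mem_Fix, squareDodecad_eq]
    exact ⟨hc.1, hfixq c hc.1 hc.2.1 hc.2.2.1 hc.2.2.2.1 hc.2.2.2.2⟩
  have h9 := Finset.card_le_card h8
  have h10 := Finset.le_card_sdiff ({some 2, some 12, y (some 2), y (some 12)} : Finset GolayPt) dd
  have h11' : ({some 2, some 12, y (some 2), y (some 12)} : Finset GolayPt).card ≤ 4 := Finset.card_le_four
  rw [card_dd] at h10
  omega

end core

end Cfsg.Agent.H123.Der
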