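import Cfsg.Agent.H123.Der.MTwentyFour
import Cfsg.Agent.H865.Seven
import Cfsg.Agent.S2062

/-!
# The row of `M₂₂` (S3500, helper123)
-/

set_option autoImplicit false

namespace Cfsg.Agent.H123.Der

open Subgroup Cfsg Cfsg.Agent.OrdDiv Cfsg.Agent.H257.El Cfsg.Agent.H439.Der Cfsg.Agent.H938.Sax
open Cfsg.Agent.H180.MEl

theorem norm7_dvd {L : Subgroup (Equiv.Perm GolayPt)} (hL : L ≤ M24) {x : L} (hx : orderOf x = 7) :
    Nat.card (normalizer (zpowers x : Set L)) ∣ 126 := by
  have h1 := card_normalizer_dvd (inclusion hL) (inclusion_injective hL) x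
  rwa [(Cfsg.Agent.H865.Seven.main _ (by
    rw [Nat.card_zpowers, orderOf_injective (inclusion hL) (inclusion_injective hL), hx])).1] at h1

theorem M22_le : Spor.M22 ≤ M24 := fun _ hx => hx.1.1

instance finite_M22 : Finite Spor.M22 :=
  Nat.finite_of_card_ne_zero (by rw [Cfsg.Agent.SporadicA.MathieuRecog.card_M22]; norm_num)

theorem norm11_M22 {x : Spor.M22} (hx : orderOf x = 11) : Nat.card (normalizer (zpowers x : Set Spor.M22)) = 55 := by
  have hc := Cfsg.Agent.SporadicA.MathieuRecog.card_M22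
  have h1 := norm11_dvd M22_le hx
  obtain ⟨n, hn, hn1⟩ := exists_nrm (v := 11) (by norm_num) (by rw [hc]; norm_num) hx
  have h2 : 11 ∣ Nat.card (normalizer (zpowers x : Set Spor.M22)) := by
    rw [← hx]
    exact Subgroup.orderOf_dvd_natCard _ (mem_normalizer_of_commute (Commute.refl x))
  rw [hc] at hn
  generalize Nat.card (normalizer (zpowers x : Set Spor.M22)) = m at *
  obtain ⟨k, rfl⟩ := h2
  have h3 : k ∣ 10 := by
    have : 11 * k ∣ 11 * 10 := h1
    exact Nat.dvd_of_mul_dvd_mul_left (by norm_num) this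
  have h4 : k ∈ Nat.divisors 10 := Nat.mem_divisors.2 ⟨h3, by norm_num⟩
  rw [show Nat.divisors 10 = {1, 2, 5, 10} by decide] at h4
  simp only [Finset.mem_insert, Finset.mem_singleton] at h4
  rcases h4 with rfl | rfl | rfl | rfl <;> omega

/-- a subgroup of order divisible by `128` and `11` but not by `7` -/
theorem false_of_11 {M : Subgroup Spor.M22} (h11 : 11 ∣ Nat.card M) (h7 : ¬ 7 ∣ Nat.card M)
    (h128 : 128 ∣ Nat.card M) : False := by
  have hc := Cfsg.Agent.SporadicA.MathieuRecog.card_M22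
  have := Fact.mk (show (11 : ℕ).Prime by norm_num)
  obtain ⟨c, d, hcd, hd1, hd2, hc1⟩ := sylow_sub (p := 11) (n := 55) (H := M)
    (factorization_of (k := 40320) (by norm_num) (by rw [hc]) (by norm_num) (by rw [hc]; norm_num)) h11
    (fun x hx => dvd_of_eq (norm11_M22 hx))
  have h1 : Nat.card M ∣ 443520 := hc ▸ Subgroup.card_subgroup_dvd_card M
  have h1408 : 1408 ∣ Nat.card M := by
    rw [show 1408 = 128 * 11 by norm_num]
    exact Nat.Coprime.mul_dvd_of_dvd_of_dvd (by norm_num) h128 h11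
  generalize Nat.card M = m at *
  obtain ⟨k, rfl⟩ := h1408
  have hk : k ∣ 45 := by
    have h2 : 1408 * k ∣ 1408 * (7 * 45) := h1
    have h3 := Nat.dvd_of_mul_dvd_mul_left (by norm_num) h2
    have h4 : Nat.Coprime k 7 := by
      refine ((Nat.Prime.coprime_iff_not_dvd (by norm_num)).2 fun h => h7 ?_).symm
      exact h.mul_left _
    exact h4.dvd_of_dvd_mul_left h3
  obtain ⟨e, rfl⟩ := hd1
  have he : e ∣ 5 := Nat.dvd_of_mul_dvd_mul_left (show 0 < 11 by norm_num) hd2
  have hk' : k ∈ Nat.divisors 45 := Nat.mem_divisors.2 ⟨hk, by norm_num⟩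
  rw [show Nat.divisors 45 = {1, 3, 5, 9, 15, 45} by decide +kernel] at hk'
  simp only [Finset.mem_insert, Finset.mem_singleton] at hk'
  unfold Nat.ModEq at hc1
  rcases (Nat.dvd_prime (by norm_num)).1 he with rfl | rfl <;>
    rcases hk' with rfl | rfl | rfl | rfl | rfl | rfl <;> omega

theorem num22 {o f5 f7 : ℕ} (m5 : o % 5 = f5 % 5) (m7 : o % 7 = f7 % 7) (l5 : f5 ≤ 2) (l7 : f7 ≤ 1)
    (hle : o ≤ 22) (hpos : 0 < o) (he : 2 ∣ o) : o = 22 := by
  interval_cases f5 <;> interval_cases f7 <;> omega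

/-- a subgroup of order divisible by `128`, `5` and `7` is transitive on the 22 points -/
theorem eleven_dvd_of {M : Subgroup Spor.M22} (h5 : 5 ∣ Nat.card M) (h7 : 7 ∣ Nat.card M)
    (h128 : 128 ∣ Nat.card M) : 11 ∣ Nat.card M := by
  rw [← card_map_subtype] at h5 h7 h128 ⊢
  set X := M.map Spor.M22.subtype with hX
  have hXM : X ≤ M24 := by
    rintro _ ⟨g, -, rfl⟩
    exact M22_le g.2
  have hT : ({none, some 0} : Finset GolayPt).card = 2 := by decide
  have hfix : ∀ g ∈ X, ∀ t ∈ ({none, some 0} : Finset GolayPt), g t = t := by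
    rintro _ ⟨g, -, rfl⟩ t ht
    rw [Finset.mem_insert, Finset.mem_singleton] at ht
    rcases ht with rfl | rfl
    · exact g.2.1.2
    · exact g.2.2
  obtain ⟨a, ha⟩ := exists_notMem (T := ({none, some 0} : Finset GolayPt)) (by rw [hT]; norm_num)
  obtain ⟨x5, hx5, o5⟩ := have := Fact.mk Nat.prime_five; exists_order h5
  obtain ⟨x7, hx7, o7⟩ := have := Fact.mk (show (7 : ℕ).Prime by norm_num); exists_order h7
  have m5 := have := Fact.mk Nat.prime_five; orb_mod (a := a) hx5 o5
  have m7 := have := Fact.mk (show (7 : ℕ).Prime by norm_num); orb_mod (a := a) hx7 o7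
  have l5 := orb_fx_le hfix ha hx5
  have l7 := orb_fx_le hfix ha hx7
  rw [fx5 (hXM hx5) o5, hT] at l5
  rw [fx7 (hXM hx7) o7, hT] at l7
  have hle := orb_le hfix ha
  rw [hT] at hle
  have hpos := orb_pos X a
  unfold Nat.ModEq at m5 m7
  have hS := card_dvd_three (X := St X a) (T := insert a {none, some 0}) (inf_le_left.trans hXM)
    (by rw [Finset.card_insert_of_notMem ha, hT])
    (fun g hg t ht => by
      rcases Finset.mem_insert.1 ht with rfl | ht
      · exact hg.2
      · exact hfix g hg.1 t ht)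
  have hmul := card_orb_mul X a
  have heven : 2 ∣ (orb X a).card := by
    by_contra hodd
    rw [← hmul] at h128
    have h1 : Nat.Coprime 128 (orb X a).card := by
      rw [show 128 = 2 ^ 7 by norm_num]
      exact Nat.Coprime.pow_left _ ((Nat.Prime.coprime_iff_not_dvd Nat.prime_two).2 hodd)
    have h2 := (h1.dvd_of_dvd_mul_left h128).trans hS
    norm_num at h2
  have h22 : (orb X a).card = 22 :=
    num22 m5 m7 (by omega) (by omega) (by omega) hpos heven
  rw [h22] at hmul
  rw [← hmul]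
  exact (show 11 ∣ 22 by norm_num).mul_right _

theorem row_M22 (tab : OrderTable.{0}) (known : Known.{0}) : Row Spor.M22 := by
  intro M hM
  have hc := Cfsg.Agent.SporadicA.MathieuRecog.card_M22
  have p11 : (11 : ℕ).Prime := by norm_num
  have p7 : (7 : ℕ).Prime := by norm_num
  have hno : ∀ z : Spor.M22, orderOf z ≠ 11 * 7 :=
    noOrd_of_norm p11 p7 (D := 110) (fun _ hx => norm11_dvd M22_le hx) (by norm_num)
  by_cases h77 : 11 ∣ Nat.card M ∧ 7 ∣ Nat.card M
  · exact (false_of_pair tab known (r := 11) (s := 7) [(2, 7), (3, 2), (5, 1), (7, 1), (11, 1)] hc p11 p7 hno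
      (by decide +kernel) hM.1 h77.1 h77.2).elim
  by_cases h128 : 128 ∣ Nat.card M
  · left
    have h11 : ¬ 11 ∣ Nat.card M := fun h => false_of_11 h (fun h7 => h77 ⟨h, h7⟩) h128
    by_cases h7 : 7 ∣ Nat.card M
    · have h5 : ¬ 5 ∣ Nat.card M := fun h5 => h11 (eleven_dvd_of h5 h7 h128)
      exact Two.of_two_primes Nat.prime_five p11 (by norm_num) (by rw [hc]; norm_num) (by rw [hc]; norm_num) h5 h11
    · exact Two.of_two_primes p7 p11 (by norm_num) (by rw [hc]; norm_num) (by rw [hc]; norm_num) h7 h11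
  · right
    refine ⟨?_, noSyl_of_two (k := 7) hc (dvd_of_eq Cfsg.Agent.S2062.result) (by norm_num) (by norm_num)
      (by norm_num) h128⟩
    by_cases h11 : 11 ∣ Nat.card M
    · have h7 : ¬ 7 ∣ Nat.card M := fun h => h77 ⟨h11, h⟩
      have := Fact.mk p7
      obtain ⟨x, hx⟩ := exists_prime_orderOf_dvd_card' (G := Spor.M22) 7 (by rw [hc]; norm_num)
      exact twoT_of_conjPow p7 hx (conjPow_lt (D := 126) hc p7 hx (norm7_dvd M22_le hx) (by decide +kernel)) h7
    · have := Fact.mk p11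
      obtain ⟨x, hx⟩ := exists_prime_orderOf_dvd_card' (G := Spor.M22) 11 (by rw [hc]; norm_num)
      exact twoT_of_conjPow p11 hx (conjPow_lt (D := 110) hc p11 hx (norm11_dvd M22_le hx) (by decide +kernel)) h11

theorem row_m22_of (tab : OrderTable.{0}) (known : Known.{0}) {T : Type*} [Group T] (h : Cfsg.Spor.IsoM22 T) :
    Row T := by
  obtain ⟨e⟩ := h
  exact Row.congr e.symm (row_M22 tab known)

end Cfsg.Agent.H123.Der
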