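import Cfsg.Agent.H123.Der.MTwelve
import Cfsg.Agent.H123.Der.MTwentyTwo
import Cfsg.Agent.H123.Der.JOne
import Cfsg.Agent.OrdDiv.Table
import Cfsg.Agent.S0000

/-!
# The rows of `M₁₁`, `M₁₂`, `M₂₂`, `M₂₃`, `M₂₄`, `J₁` of S3500 (helper123, task 2490)
-/

set_option autoImplicit false

namespace Cfsg.Agent.H123.Der

open Cfsg Cfsg.Agent.OrdDiv Cfsg.Agent.H257.El Cfsg.Agent.H439.Der

theorem known0 : Known.{0} := fun _ _ _ _ => Cfsg.Agent.S0000.result

theorem row_m11 {T : Type*} [Group T] [Finite T] (h : Cfsg.Spor.IsoM11 T) : Row T := row_m11_of table known0 h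

theorem row_m12 {T : Type*} [Group T] [Finite T] (h : Cfsg.Spor.IsoM12 T) : Row T := row_m12_of table known0 h

theorem row_m22 {T : Type*} [Group T] [Finite T] (h : Cfsg.Spor.IsoM22 T) : Row T := row_m22_of table known0 h

theorem row_m24 {T : Type*} [Group T] [Finite T] (h : Cfsg.Spor.IsoM24 T) : Row T := row_m24_of table known0 h

theorem row_j1 {T : Type*} [Group T] [Finite T] (h : Cfsg.Spor.IsoJ1 T) : Row T := row_j1_of table known0 h

end Cfsg.Agent.H123.Der
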