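import Cfsg.Agent.H123.Der.ThreeTools
import Cfsg.Agent.H123.Der.JOne
import Cfsg.Agent.H413.JOneSpec

/-!
# `J₁` (S3502, helper123)
-/

set_option autoImplicit false

namespace Cfsg.Agent.H123.Der

open Subgroup Cfsg Cfsg.Agent.OrdDiv Cfsg.Agent.H257.El Cfsg.Agent.H439.Der Cfsg.Agent.H938.Sax
open Cfsg.Agent.H94.PG Cfsg.Agent.H94.PG.Sp

theorem three_J1 (tab : OrderTable.{0}) (known : Known.{0}) {R : Subgroup Spor.J1} (hR : R ≠ ⊤) :
    Three Spor.J1 R := by
  obtain ⟨hs, hc⟩ := Cfsg.Agent.SporadicB.J1.Main.isJ1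
  have hfin : Finite Spor.J1 := Nat.finite_of_card_ne_zero (by rw [hc]; norm_num)
  have p19 : (19 : ℕ).Prime := by norm_num
  have hcent : ∀ x : Spor.J1, orderOf x = 19 → Nat.card (centralizer ({x} : Set Spor.J1)) = 19 := fun x hx =>
    OddCyclic.EmpE.Kill.card_cent H413.JOneLocal.isLocal hc hx
  by_cases h19 : 19 ∣ Nat.card R
  swap
  · have := Fact.mk p19
    obtain ⟨x, hx⟩ := exists_prime_orderOf_dvd_card' (G := Spor.J1) 19 (by rw [hc]; norm_num)
    refine Three.of_not_dvd h19 (not_SCC_of_conjPow p19 hx ?_ Cfsg.Agent.S2065.result) ⟨x, by rw [hx]⟩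
    have h1 := conjPow_le (b := 6) hc p19 hx (hcent x hx) (by decide +kernel)
    omega
  by_cases h5 : 5 ∣ Nat.card R
  swap
  · obtain ⟨a, ha⟩ := (Cfsg.Agent.H413.JOneSpec.exists_orderOf_iff 5).2 (by decide)
    obtain ⟨b, hb⟩ := (Cfsg.Agent.H413.JOneSpec.exists_orderOf_iff 10).2 (by decide)
    obtain ⟨c, hc⟩ := (Cfsg.Agent.H413.JOneSpec.exists_orderOf_iff 15).2 (by decide)
    exact Three.of_not_dvd h5 (not_SCC_of_orders (x := a) (y := b) (z := c) (by rw [ha]) (by rw [hb]; norm_num)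
      (by rw [hc]; norm_num) (by rw [ha, hb]; norm_num) (by rw [ha, hc]; norm_num) (by rw [hb, hc]; norm_num))
      ⟨a, by rw [ha]⟩
  exact (false_of_pair tab known (r := 19) (s := 5) [(2, 3), (3, 1), (5, 1), (7, 1), (11, 1), (19, 1)] hc p19
    Nat.prime_five (noOrd_of_cent p19 hcent Nat.prime_five (by norm_num)) (by decide +kernel) hR h19 h5).elim

theorem rowS_j1_of (tab : OrderTable.{0}) (known : Known.{0}) {T : Type*} [Group T] (h : Cfsg.Spor.IsoJ1 T) :
    RowS T := by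
  obtain ⟨e⟩ := h
  refine RowS.congr e.symm ⟨fun M hM => (three_J1 tab known hM.1).two, fun R hR _ => three_J1 tab known hR⟩

end Cfsg.Agent.H123.Der
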