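import Cfsg.Agent.H123.Der.ThreeTools
import Cfsg.Agent.H123.Der.MTwelveCore

/-!
# `M₁₁` (S3502, helper123)
-/

set_option autoImplicit false

namespace Cfsg.Agent.H123.Der

open Subgroup Cfsg Cfsg.Agent.OrdDiv Cfsg.Agent.H257.El Cfsg.Agent.H439.Der Cfsg.Agent.H938.Sax
open Cfsg.Agent.H180.MEl
open Cfsg.Agent.H866.InvolType (fx fx_conj)
open Cfsg.Agent.H604.Sax.Mathieu (g8 orderOf_g8)
open Cfsg.Agent.J4Type.CocodeMask (mk isTab_mk)
open Cfsg.Agent.H180.KMathieu (orderOf_tab)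
open Cfsg.Agent.SporadicStructure.M11InvPerms (dd dd_mem)

/-- an element of order 8 moves a point not fixed by its fourth power in a cycle of length 8 -/
theorem eight_le {X : Subgroup (Equiv.Perm GolayPt)} {v : Equiv.Perm GolayPt} (hv : v ∈ X) (ov : orderOf v = 8)
    {a : GolayPt} (ha : (v ^ 4) a ≠ a) : 8 ≤ (orb X a).card := by
  have hp : ∀ k : ℕ, 0 < k → k < 8 → (v ^ k) a ≠ a := by
    intro k h0 h8 hk
    apply ha
    have key : ∀ n : ℕ, (v ^ (k * n)) a = a := by
      intro n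
      induction n with
      | zero => rfl
      | succ n ih => rw [mul_add, mul_one, pow_add, Equiv.Perm.mul_apply, hk, ih]
    have hmod : ∀ n : ℕ, v ^ n = v ^ (n % 8) := fun n => by rw [← ov, pow_mod_orderOf]
    interval_cases k
    · exact key 4
    · exact key 2
    · have := key 4; rw [hmod] at this; exact this
    · exact key 1
    · have := key 4; rw [hmod] at this; exact this
    · have := key 2; rw [hmod] at this; exact this
    · have := key 4; rw [hmod] at this; exact this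
  have hinj : Set.InjOn (fun k : ℕ => (v ^ k) a) (Finset.range 8 : Set ℕ) := by
    have aux : ∀ i j : ℕ, i < j → j < 8 → (v ^ i) a ≠ (v ^ j) a := by
      intro i j hij hj h
      refine hp (j - i) (by omega) (by omega) ?_
      apply (v ^ i).injective
      show (v ^ i) ((v ^ (j - i)) a) = (v ^ i) a
      rw [← Equiv.Perm.mul_apply, ← pow_add, Nat.add_sub_cancel' hij.le, h]
    intro i hi j hj h
    rw [Finset.coe_range, Set.mem_Iio] at hi hj
    rcases lt_trichotomy i j with h1 | h1 | h1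
    · exact absurd h (aux i j h1 hj)
    · exact h1
    · exact absurd h.symm (aux j i h1 hi)
  have h1 := Finset.card_le_card_of_injOn (s := Finset.range 8) (t := orb X a) (fun k : ℕ => (v ^ k) a)
    (fun k _ => mem_orb.2 ⟨v ^ k, X.pow_mem hv k, rfl⟩) hinj
  rwa [Finset.card_range] at h1

/-- an element of order 6 of `M₁₂` has at most one fixed point in the dodecad -/
theorem fx6_dd {w : Equiv.Perm GolayPt} (hw : w ∈ Spor.M12) (ow : orderOf w = 6) : (dd ∩ Fx w).card ≤ 1 := by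
  have p3 : Fact (Nat.Prime 3) := ⟨by norm_num⟩
  have p2 : Fact (Nat.Prime 2) := ⟨by norm_num⟩
  have o3 : orderOf (w ^ 2) = 3 := by rw [orderOf_pow_of_dvd (by norm_num) (by rw [ow]; norm_num), ow]
  have o2 : orderOf (w ^ 3) = 2 := by rw [orderOf_pow_of_dvd (by norm_num) (by rw [ow]; norm_num), ow]
  have e3 : (w ^ 2) ^ 3 = 1 := by rw [← o3, pow_orderOf_eq_one]
  have e2 : (w ^ 3) ^ 2 = 1 := by rw [← o2, pow_orderOf_eq_one]
  have w2 : w ^ 2 ∈ Spor.M12 := Spor.M12.pow_mem hw 2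
  have w3 : w ^ 3 ∈ Spor.M12 := Spor.M12.pow_mem hw 3
  have cm : Commute (w ^ 2) (w ^ 3) := (Commute.refl w).pow_pow 2 3
  have inv : ∀ {x y : Equiv.Perm GolayPt}, x ∈ Spor.M12 → Commute x y → ∀ q ∈ dd ∩ Fx y, x q ∈ dd ∩ Fx y := by
    intro x y hx hxy q hq
    rw [Finset.mem_inter, mem_Fx] at hq ⊢
    refine ⟨inv_dd hx q hq.1, ?_⟩
    rw [← Equiv.Perm.mul_apply, ← hxy.eq, Equiv.Perm.mul_apply, hq.2]
  have m1 := card_mod (p := 3) e3 dd (inv_dd w2)
  have m2 := card_mod (p := 2) e2 dd (inv_dd w3)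
  have m3 := card_mod (p := 3) e3 (dd ∩ Fx (w ^ 3)) (inv w2 cm)
  have m4 := card_mod (p := 2) e2 (dd ∩ Fx (w ^ 2)) (inv w3 cm.symm)
  have l1 := Cfsg.Agent.CpAutTThree.MTwelve.fix_le w2 (fun h => by rw [h, orderOf_one] at o3; norm_num at o3)
  have l2 := Cfsg.Agent.CpAutTThree.MTwelve.fix_le w3 (fun h => by rw [h, orderOf_one] at o2; norm_num at o2)
  have hF : ∀ x : Equiv.Perm GolayPt, Cfsg.Agent.CpAutTThree.MTwelve.Fix x = dd ∩ Fx x := by
    intro x
    ext c
    rw [Cfsg.Agent.CpAutTThree.MTwelve.mem_Fix, Cfsg.Agent.MTwelveType.SylowModel.squareDodecad_eq,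
      Finset.mem_inter, mem_Fx]
  rw [hF] at l1 l2
  have e : dd ∩ Fx w = dd ∩ Fx (w ^ 2) ∩ Fx (w ^ 3) := by
    ext c
    simp only [Finset.mem_inter, mem_Fx]
    constructor
    · rintro ⟨h1, h2⟩
      have key : ∀ n : ℕ, (w ^ n) c = c := by
        intro n
        induction n with
        | zero => rfl
        | succ n ih => rw [pow_succ, Equiv.Perm.mul_apply, h2, ih]
      exact ⟨⟨h1, key 2⟩, key 3⟩
    · rintro ⟨⟨h1, h2⟩, h3⟩
      refine ⟨h1, ?_⟩
      have h4 : (w ^ 3) c = w ((w ^ 2) c) := by rw [← Equiv.Perm.mul_apply, ← pow_succ']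
      rw [h2] at h4
      rw [← h4, h3]
  have e' : dd ∩ Fx (w ^ 3) ∩ Fx (w ^ 2) = dd ∩ Fx (w ^ 2) ∩ Fx (w ^ 3) := Finset.inter_right_comm _ _ _
  rw [e'] at m3
  rw [e]
  have l3 : (dd ∩ Fx (w ^ 2) ∩ Fx (w ^ 3)).card ≤ (dd ∩ Fx (w ^ 2)).card :=
    Finset.card_le_card Finset.inter_subset_left
  have l4 : (dd ∩ Fx (w ^ 2) ∩ Fx (w ^ 3)).card ≤ (dd ∩ Fx (w ^ 3)).card := by
    rw [← e']
    exact Finset.card_le_card Finset.inter_subset_left
  rw [card_dd] at m1 m2
  unfold Nat.ModEq at m1 m2 m3 m4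
  omega

theorem num11 {o f : ℕ} (h8 : 8 ≤ o) (hle : o ≤ 11) (m5 : o % 5 = f % 5) (l5 : f ≤ 1) (h11 : o ≠ 11) : o = 10 := by
  interval_cases f <;> omega

theorem pow_fix' {g : Equiv.Perm GolayPt} {a : GolayPt} (h : g a = a) (n : ℕ) : (g ^ n) a = a := by
  induction n with
  | zero => rfl
  | succ n ih => rw [pow_succ, Equiv.Perm.mul_apply, h, ih]

/-- a subgroup of `M₁₁` of order not divisible by 11 does not contain elements of the orders 5, 6 and 8 -/
theorem false_of_568 {X : Subgroup (Equiv.Perm GolayPt)} (hX : X ≤ Spor.M12) (h0 : ∀ g ∈ X, g (some 0) = some 0)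
    (h5 : 5 ∣ Nat.card X) (h11 : ¬ 11 ∣ Nat.card X) {w v : Equiv.Perm GolayPt} (hw : w ∈ X) (ow : orderOf w = 6)
    (hv : v ∈ X) (ov : orderOf v = 8) : False := by
  have := Fact.mk Nat.prime_five
  obtain ⟨x, hx, ox⟩ := exists_order h5
  have f5 := fx5_dd (hX hx) ox
  -- a point moved by `v ^ 4`
  obtain ⟨a, ha, hav⟩ : ∃ a ∈ dd, (v ^ 4) a ≠ a := by
    by_contra hcon
    push Not at hcon
    have h1 : v ^ 4 ≠ 1 := fun h => by
      have := orderOf_dvd_of_pow_eq_one h
      rw [ov] at this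
      norm_num at this
    have h2 := Cfsg.Agent.CpAutTThree.MTwelve.fix_le (hX (X.pow_mem hv 4)) h1
    have h3 : dd ⊆ Cfsg.Agent.CpAutTThree.MTwelve.Fix (v ^ 4) := by
      intro c hc
      rw [Cfsg.Agent.CpAutTThree.MTwelve.mem_Fix, Cfsg.Agent.MTwelveType.SylowModel.squareDodecad_eq]
      exact ⟨hc, hcon c hc⟩
    have h4 := Finset.card_le_card h3
    rw [card_dd] at h4
    omega
  have h8 := eight_le hv ov hav
  have hsub := orb_sub hX ha
  have z0 : some 0 ∉ orb X a := by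
    intro h
    obtain ⟨g, hg, hga⟩ := mem_orb.1 h
    have h1 : g (some 0) = some 0 := h0 g hg
    have h2 := g.injective (hga.trans h1.symm)
    rw [h2] at hav
    exact hav (pow_fix' (h0 v hv) 4)
  have hle : (orb X a).card ≤ 11 := by
    have h1 : orb X a ⊆ dd.erase (some 0) := fun q hq =>
      Finset.mem_erase.2 ⟨fun h => z0 (h ▸ hq), hsub hq⟩
    have h2 := Finset.card_le_card h1
    rwa [Finset.card_erase_of_mem zero_mem_dd, card_dd] at h2
  have m5 := orb_mod (a := a) hx ox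
  have l5 : (orb X a ∩ Fx x).card ≤ 1 := by
    have h2 : orb X a ∩ Fx x ⊆ (dd ∩ Fx x).erase (some 0) := by
      intro q hq
      rw [Finset.mem_inter] at hq
      rw [Finset.mem_erase, Finset.mem_inter]
      exact ⟨fun h => z0 (h ▸ hq.1), hsub hq.1, hq.2⟩
    have h3 := Finset.card_le_card h2
    rw [Finset.card_erase_of_mem (Finset.mem_inter.2 ⟨zero_mem_dd, mem_Fx.2 (h0 x hx)⟩), f5] at h3
    exact h3
  have h10 : (orb X a).card = 10 := by
    refine num11 h8 hle m5 l5 fun h => h11 ?_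
    rw [← card_orb_mul X a, h]
    exact dvd_mul_right _ _
  -- the other fixed point
  have hsub' : orb X a ⊆ dd.erase (some 0) := fun q hq => Finset.mem_erase.2 ⟨fun h => z0 (h ▸ hq), hsub hq⟩
  have hc1 : ((dd.erase (some 0)) \ orb X a).card = 1 := by
    rw [Finset.card_sdiff_of_subset hsub',
      Finset.card_erase_of_mem zero_mem_dd, card_dd, h10]
  obtain ⟨b, hb⟩ := Finset.card_eq_one.1 hc1
  have hb1 : b ∈ (dd.erase (some 0)) \ orb X a := by rw [hb]; exact Finset.mem_singleton_self b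
  rw [Finset.mem_sdiff, Finset.mem_erase] at hb1
  obtain ⟨⟨hb0, hbd⟩, hbo⟩ := hb1
  have hwb : w b = b := by
    have h1 : w b ∈ (dd.erase (some 0)) \ orb X a := by
      rw [Finset.mem_sdiff, Finset.mem_erase]
      refine ⟨⟨fun h => hb0 (w.injective (h.trans (h0 w hw).symm)), inv_dd (hX hw) b hbd⟩, fun h => hbo ?_⟩
      obtain ⟨g, hg, hga⟩ := mem_orb.1 h
      refine mem_orb.2 ⟨w⁻¹ * g, X.mul_mem (X.inv_mem hw) hg, ?_⟩
      rw [Equiv.Perm.mul_apply, hga]
      exact Equiv.symm_apply_apply w b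
    rw [hb, Finset.mem_singleton] at h1
    exact h1
  have h6 := fx6_dd (hX hw) ow
  have h7 : ({some 0, b} : Finset GolayPt) ⊆ dd ∩ Fx w := by
    intro q hq
    rw [Finset.mem_insert, Finset.mem_singleton] at hq
    rw [Finset.mem_inter, mem_Fx]
    rcases hq with rfl | rfl
    · exact ⟨zero_mem_dd, h0 w hw⟩
    · exact ⟨hbd, hwb⟩
  have h9 := Finset.card_le_card h7
  rw [Finset.card_pair hb0.symm] at h9
  omega

/-- an element of order 6 -/
noncomputable def g6 : Spor.M11 :=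
  ⟨mk 630404351510122582501098875225965984 (by decide +kernel),
    Cfsg.Agent.H604.Sax.Mathieu.mem_M11 (by decide +kernel) (by decide +kernel) (by decide +kernel)⟩

theorem orderOf_g6 : orderOf g6 = 6 := by
  have := orderOf_tab (isTab_mk 630404351510122582501098875225965984 (by decide +kernel)) (n := 6)
    (by decide +kernel)
  rw [← Subgroup.orderOf_coe] at this
  rw [← Subgroup.orderOf_coe]
  exact this

theorem three_M11 (tab : OrderTable.{0}) (known : Known.{0}) {R : Subgroup Spor.M11} (hR : R ≠ ⊤) :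
    Three Spor.M11 R ∨ (Nat.card R = 660 ∧ Two Spor.M11 R) := by
  have hG := Cfsg.Agent.Cit.Eleven.isM11 (L := Spor.M11) ⟨MulEquiv.refl _⟩
  have hc := hG.2
  have hfin : Finite Spor.M11 := Nat.finite_of_card_ne_zero (by rw [hc]; norm_num)
  have p11 : (11 : ℕ).Prime := by norm_num
  have o3 : orderOf (g6 ^ 2) = 3 := by
    rw [orderOf_pow_of_dvd (by norm_num) (by rw [orderOf_g6]; norm_num), orderOf_g6]
  have o2 : orderOf (g6 ^ 3) = 2 := by
    rw [orderOf_pow_of_dvd (by norm_num) (by rw [orderOf_g6]; norm_num), orderOf_g6]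
  have o4 : orderOf (g8 ^ 2) = 4 := by
    rw [orderOf_pow_of_dvd (by norm_num) (by rw [orderOf_g8]; norm_num), orderOf_g8]
  have hnd : ∀ {n k : ℕ}, k ∣ n → ¬ k ∣ Nat.card R → ∀ m ∈ R, orderOf m ≠ n := by
    intro n k hk hn m hm ho
    exact hn ((ho ▸ hk).trans (Subgroup.orderOf_dvd_natCard R hm))
  by_cases h11 : 11 ∣ Nat.card R
  swap
  · left
    have := Fact.mk p11
    obtain ⟨x, hx⟩ := exists_prime_orderOf_dvd_card' (G := Spor.M11) 11 (by rw [hc]; norm_num)
    have hn11 : ¬ SC Spor.M11 11 := by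
      refine not_SC_of_conjPow p11 hx (conjPow_lt (D := 55) hc p11 hx ?_ (by decide +kernel)) Cfsg.Agent.S2060.result
      rw [(Cfsg.Agent.SporadicA.M11Sylow.data_eleven hG hx).2.1]
    by_cases h5 : 5 ∣ Nat.card R
    swap
    · exact Three.of_two_primes p11 Nat.prime_five (by norm_num) (by rw [hc]; norm_num) h11 h5 hn11
    by_cases h6 : ∀ m ∈ R, orderOf m ≠ 6
    · exact Three.of_not_SC_order h11 hn11 orderOf_g6 h6 (by norm_num)
    refine Three.of_not_SC_order h11 hn11 orderOf_g8 (fun v hv ov => ?_) (by norm_num)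
    push Not at h6
    obtain ⟨w, hw, ow⟩ := h6
    have hle : Spor.M11 ≤ Spor.M12 := fun _ hx => hx.1
    refine false_of_568 (X := R.map Spor.M11.subtype) ?_ ?_ (by rwa [card_map_subtype]) (by rwa [card_map_subtype])
      (Subgroup.mem_map_of_mem Spor.M11.subtype hw) ?_ (Subgroup.mem_map_of_mem Spor.M11.subtype hv) ?_
    · rintro _ ⟨g, -, rfl⟩
      exact hle g.2
    · rintro _ ⟨g, -, rfl⟩
      exact g.2.2
    · rw [← ow]; exact Subgroup.orderOf_coe w
    · rw [← ov]; exact Subgroup.orderOf_coe v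
  have hiso := iso11_m11 hG
  by_cases h5 : 5 ∣ Nat.card R
  swap
  · left
    have h3 : ¬ 3 ∣ Nat.card R := by
      intro h3
      refine h5 (dvd_of_pair tab known (r := 11) (s := 3) [(2, 4), (3, 2), (5, 1), (11, 1)] hc p11 Nat.prime_three
        (noOrd_of_noComm p11 Nat.prime_three fun x y hx hy hxy => ?_) (by decide +kernel) hR h11 h3)
      have := hiso x y hxy hx (by rw [hy]; norm_num)
      omega
    have := Fact.mk Nat.prime_five
    obtain ⟨x, hx⟩ := exists_prime_orderOf_dvd_card' (G := Spor.M11) 5 (by rw [hc]; norm_num)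
    exact Three.of_orders (a := 3) (b := 5) (c := 6) (by norm_num) (by norm_num) (by norm_num) o3 hx orderOf_g6
      (hnd (dvd_refl 3) h3) (hnd (dvd_refl 5) h5) (hnd (show 3 ∣ 6 by norm_num) h3)
  rcases card_sub_m11 hG h5 h11 with h | h | h
  · left
    exact Three.of_orders (a := 2) (b := 3) (c := 4) (by norm_num) (by norm_num) (by norm_num) o2 o3 o4
      (hnd (dvd_refl 2) (by rw [h]; norm_num)) (hnd (dvd_refl 3) (by rw [h]; norm_num))
      (hnd (show 2 ∣ 4 by norm_num) (by rw [h]; norm_num))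
  · right
    refine ⟨h, ?_⟩
    have hs : IsSimpleGroup R := isSimple_of_iso11 (hiso.sub R) (Or.inl h)
    have h4 : ∀ m ∈ R, orderOf m ≠ 4 := by
      intro m hm ho
      have hm' : orderOf (⟨m, hm⟩ : R) = 4 := by rw [Subgroup.orderOf_mk, ho]
      refine no_four (G := R) (by rw [h]; norm_num) (by rw [h]; norm_num) (by rw [h]; norm_num) _ hm'
    exact Two.of_orders (a := 4) (b := 8) (by norm_num) o4 orderOf_g8 h4
      (hnd (dvd_refl 8) (by rw [h]; norm_num))
  · exact absurd (eq_top_of_card (h.trans hc.symm)) hR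

theorem rowS_M11 (tab : OrderTable.{0}) (known : Known.{0}) : RowS Spor.M11 := by
  have hG := Cfsg.Agent.Cit.Eleven.isM11 (L := Spor.M11) ⟨MulEquiv.refl _⟩
  have hfin : Finite Spor.M11 := Nat.finite_of_card_ne_zero (by rw [hG.2]; norm_num)
  refine RowS.of_coatoms fun M hM => ?_
  rcases three_M11 tab known hM.1 with h | ⟨h, h2⟩
  · exact Or.inl h
  · refine Or.inr ⟨h2, fun R hR => ?_⟩
    rcases three_M11 tab known (ne_top_of_lt hR) with h3 | ⟨h3, -⟩
    · exact h3
    · exact absurd (Subgroup.eq_of_le_of_card_ge hR.le (by rw [h, h3])) hR.ne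

theorem rowS_m11_of (tab : OrderTable.{0}) (known : Known.{0}) {T : Type*} [Group T] (h : Cfsg.Spor.IsoM11 T) :
    RowS T := by
  obtain ⟨e⟩ := h
  exact RowS.congr e.symm (rowS_M11 tab known)

end Cfsg.Agent.H123.Der
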