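import Cfsg.Agent.H123.Der.ThreeMTwelveCore
import Cfsg.Agent.H123.Der.MTwelve

/-!
# `M₁₂` (S3502, helper123)
-/

set_option autoImplicit false

namespace Cfsg.Agent.H123.Der

open Subgroup Cfsg Cfsg.Agent.OrdDiv Cfsg.Agent.H257.El Cfsg.Agent.H439.Der Cfsg.Agent.H938.Sax
open Cfsg.Agent.H180.MEl
open Cfsg.Agent.H866.InvolType (fx fx_conj)
open Cfsg.Agent.H604.Sax.Mathieu (fx_ten no_fix_ten g8 orderOf_g8)
open Cfsg.Agent.SporadicStructure.M11InvPerms (dd dd_mem)
open Cfsg.Agent.MTwelveType.SylowModel (squareDodecad_eq card_M12)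
open Cfsg.Agent.J4Type.CocodeMask (mk isTab_mk IsTab)
open Cfsg.Agent.H180.KMathieu (orderOf_tab isTab_pow tpow)

/-- an element of order 6 with `a6 ^ 3 = a10 ^ 5` -/
noncomputable def a6 : Spor.M12 :=
  ⟨mk 596656918816015048143645677630072077 (by decide +kernel), mk_mem12 _ (by decide +kernel)⟩

theorem orderOf_a6 : orderOf a6 = 6 := by
  have := orderOf_tab (isTab_mk 596656918816015048143645677630072077 (by decide +kernel)) (n := 6) (by decide +kernel)
  rw [← Subgroup.orderOf_coe] at this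
  rw [← Subgroup.orderOf_coe]
  exact this

/-- an element of order 6 with `b6 ^ 3 = a4 ^ 2` -/
noncomputable def b6 : Spor.M12 :=
  ⟨mk 475888296085083481623256505245049896 (by decide +kernel), mk_mem12 _ (by decide +kernel)⟩

theorem orderOf_b6 : orderOf b6 = 6 := by
  have := orderOf_tab (isTab_mk 475888296085083481623256505245049896 (by decide +kernel)) (n := 6) (by decide +kernel)
  rw [← Subgroup.orderOf_coe] at this
  rw [← Subgroup.orderOf_coe]
  exact this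

theorem pow_eq {P Q i j : ℕ} (hP : (Cfsg.Agent.SporadicA.GolayPerm.isPerm P && Cfsg.Agent.SporadicA.GolayPerm.isAut P) = true)
    (hQ : (Cfsg.Agent.SporadicA.GolayPerm.isPerm Q && Cfsg.Agent.SporadicA.GolayPerm.isAut Q) = true)
    (h : tpow P i = tpow Q j) : (mk P hP) ^ i = (mk Q hQ) ^ j := by
  have h1 := isTab_pow (isTab_mk P hP) i
  rw [h] at h1
  exact h1.eq (isTab_pow (isTab_mk Q hQ) j)

theorem a6_cube : a6 ^ 3 = a10 ^ 5 := by
  apply Subtype.ext
  have h := pow_eq (P := 596656918816015048143645677630072077) (Q := 595318323698825201677015447063036038)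
    (i := 3) (j := 5) (by decide +kernel) (by decide +kernel) (by decide +kernel)
  have h' := congrArg (fun g : M24 => (g : Equiv.Perm GolayPt)) h
  exact h'

theorem b6_cube : b6 ^ 3 = a4 ^ 2 := by
  apply Subtype.ext
  have h := pow_eq (P := 475888296085083481623256505245049896) (Q := 466583572938358273663606830808956978)
    (i := 3) (j := 2) (by decide +kernel) (by decide +kernel) (by decide +kernel)
  have h' := congrArg (fun g : M24 => (g : Equiv.Perm GolayPt)) h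
  exact h'

theorem inv_inter {x y : Equiv.Perm GolayPt} (hx : x ∈ Spor.M12) (hxy : Commute x y) :
    ∀ q ∈ dd ∩ Fx y, x q ∈ dd ∩ Fx y := by
  intro q hq
  rw [Finset.mem_inter, mem_Fx] at hq ⊢
  refine ⟨inv_dd hx q hq.1, ?_⟩
  rw [← Equiv.Perm.mul_apply, ← hxy.eq, Equiv.Perm.mul_apply, hq.2]

theorem coe_pow12 (x : Spor.M12) (n : ℕ) : ((x ^ n : Spor.M12) : Equiv.Perm GolayPt) = (x : Equiv.Perm GolayPt) ^ n := rfl

/-- images of `a6 ^ 2` have no fixed points -/
theorem fx_a6 (φ : Spor.M12 ≃* Spor.M12) : (dd ∩ Fx ((φ (a6 ^ 2) : Spor.M12) : Equiv.Perm GolayPt)).card = 0 := by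
  have p2 : Fact (Nat.Prime 2) := ⟨by norm_num⟩
  set w : Equiv.Perm GolayPt := ((φ a6 : Spor.M12) : Equiv.Perm GolayPt) with hw
  have hwM : w ∈ Spor.M12 := (φ a6).2
  have ow : orderOf w = 6 := by rw [hw, Subgroup.orderOf_coe, orderOf_mulEquiv, orderOf_a6]
  have h2 : ((φ (a6 ^ 2) : Spor.M12) : Equiv.Perm GolayPt) = w ^ 2 := by rw [map_pow]; rfl
  have h3 : w ^ 3 = ((φ (a10 ^ 5) : Spor.M12) : Equiv.Perm GolayPt) := by rw [← a6_cube, map_pow]; rfl
  have o3 : orderOf (w ^ 2) = 3 := by rw [orderOf_pow_of_dvd (by norm_num) (by rw [ow]; norm_num), ow]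
  have f0 : fx (w ^ 3) = 0 := by rw [h3]; exact fx_a10 φ
  rw [h2]
  rcases fx3_dd (Spor.M12.pow_mem hwM 2) o3 with h | h
  · exact h
  · exfalso
    have e2 : (w ^ 3) ^ 2 = 1 := by rw [← pow_mul]; norm_num; rw [← ow, pow_orderOf_eq_one]
    have m := card_mod (p := 2) e2 (dd ∩ Fx (w ^ 2))
      (inv_inter (Spor.M12.pow_mem hwM 3) ((Commute.refl w).pow_pow 3 2))
    have h5 : (dd ∩ Fx (w ^ 2)) ∩ Fx (w ^ 3) = ∅ := by
      rw [Finset.eq_empty_iff_forall_notMem]
      intro p hp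
      rw [Finset.mem_inter] at hp
      exact no_fix f0 p (mem_Fx.1 hp.2)
    rw [h5, h, Finset.card_empty] at m
    exact absurd m (by decide)

/-- images of `b6 ^ 2` have three fixed points in the dodecad -/
theorem fx_b6 (φ : Spor.M12 ≃* Spor.M12) : (dd ∩ Fx ((φ (b6 ^ 2) : Spor.M12) : Equiv.Perm GolayPt)).card = 3 := by
  have p2 : Fact (Nat.Prime 2) := ⟨by norm_num⟩
  have p3 : Fact (Nat.Prime 3) := ⟨by norm_num⟩
  set w : Equiv.Perm GolayPt := ((φ b6 : Spor.M12) : Equiv.Perm GolayPt) with hw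
  have hwM : w ∈ Spor.M12 := (φ b6).2
  have ow : orderOf w = 6 := by rw [hw, Subgroup.orderOf_coe, orderOf_mulEquiv, orderOf_b6]
  have h2 : ((φ (b6 ^ 2) : Spor.M12) : Equiv.Perm GolayPt) = w ^ 2 := by rw [map_pow]; rfl
  have h3 : w ^ 3 = ((φ (a4 ^ 2) : Spor.M12) : Equiv.Perm GolayPt) := by rw [← b6_cube, map_pow]; rfl
  have o3 : orderOf (w ^ 2) = 3 := by rw [orderOf_pow_of_dvd (by norm_num) (by rw [ow]; norm_num), ow]
  have o2 : orderOf (w ^ 3) = 2 := by rw [orderOf_pow_of_dvd (by norm_num) (by rw [ow]; norm_num), ow]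
  obtain ⟨a, ha, haf⟩ := fix_a4 φ
  rw [← h3] at haf
  have hpos : 0 < (dd ∩ Fx (w ^ 3)).card := Finset.card_pos.2 ⟨a, Finset.mem_inter.2 ⟨ha, mem_Fx.2 haf⟩⟩
  have hle := fix_le_dd (Spor.M12.pow_mem hwM 3) (ne_one_of_order o2 (by norm_num))
  have m2 := card_mod (p := 2) (by rw [← o2, pow_orderOf_eq_one]) dd (inv_dd (Spor.M12.pow_mem hwM 3))
  rw [card_dd] at m2
  have m3 := card_mod (p := 3) (x := w ^ 2) (by rw [← o3, pow_orderOf_eq_one]) (dd ∩ Fx (w ^ 3))
    (inv_inter (Spor.M12.pow_mem hwM 2) ((Commute.refl w).pow_pow 2 3))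
  have h5 : (dd ∩ Fx (w ^ 3) ∩ Fx (w ^ 2)).card ≤ (dd ∩ Fx (w ^ 2)).card := by
    refine Finset.card_le_card fun p hp => ?_
    rw [Finset.mem_inter, Finset.mem_inter] at hp
    exact Finset.mem_inter.2 ⟨hp.1.1, hp.2⟩
  rw [h2]
  rcases fx3_dd (Spor.M12.pow_mem hwM 2) o3 with h | h
  · exfalso
    unfold Nat.ModEq at m2 m3
    rw [h] at h5
    have h6 : (dd ∩ Fx (w ^ 3) ∩ Fx (w ^ 2)).card = 0 := Nat.le_zero.1 h5
    rw [h6] at m3
    omega
  · exact h

/-- `a10`, `a10 ^ 5` and `a6` -/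
theorem three_of {R : Subgroup Spor.M12} (h10 : ∀ φ : Spor.M12 ≃* Spor.M12, φ a10 ∉ R)
    (h2 : ∀ φ : Spor.M12 ≃* Spor.M12, φ (a10 ^ 5) ∉ R) : Three Spor.M12 R := by
  refine ⟨a10, a10 ^ 5, a6, h10, h2, fun φ hφ => h2 φ ?_, fun φ hφ => ?_, fun φ hφ => ?_, fun φ hφ => ?_⟩
  · rw [← a6_cube, map_pow]
    exact R.pow_mem hφ 3
  · have h1 := orderOf_mulEquiv φ a10
    rw [hφ, orderOf_a10p, orderOf_a10] at h1
    norm_num at h1
  · have h1 := orderOf_mulEquiv φ a10
    rw [hφ, orderOf_a6, orderOf_a10] at h1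
    norm_num at h1
  · have h1 := orderOf_mulEquiv φ (a10 ^ 5)
    rw [hφ, orderOf_a6, orderOf_a10p] at h1
    norm_num at h1

theorem orderOf_a6sq : orderOf (a6 ^ 2) = 3 := by
  rw [orderOf_pow_of_dvd (by norm_num) (by rw [orderOf_a6]; norm_num), orderOf_a6]

theorem orderOf_b6sq : orderOf (b6 ^ 2) = 3 := by
  rw [orderOf_pow_of_dvd (by norm_num) (by rw [orderOf_b6]; norm_num), orderOf_b6]

/-- the three elements for a missing type of elements of order 3 and a missing element -/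
theorem three_of_sq {R : Subgroup Spor.M12} {w u : Spor.M12} (ow : orderOf w = 6)
    (hw : ∀ φ : Spor.M12 ≃* Spor.M12, φ (w ^ 2) ∉ R) (hu : ∀ φ : Spor.M12 ≃* Spor.M12, φ u ∉ R)
    (h3 : orderOf u ≠ 3) (h6 : orderOf u ≠ 6) : Three Spor.M12 R := by
  have o3 : orderOf (w ^ 2) = 3 := by
    rw [orderOf_pow_of_dvd (by norm_num) (by rw [ow]; norm_num), ow]
  refine ⟨w ^ 2, w, u, hw, fun φ hφ => hw φ ?_, hu, fun φ hφ => ?_, fun φ hφ => ?_, fun φ hφ => ?_⟩
  · rw [map_pow]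
    exact R.pow_mem hφ 2
  · have h1 := orderOf_mulEquiv φ (w ^ 2)
    rw [hφ, ow, o3] at h1
    norm_num at h1
  · have h1 := orderOf_mulEquiv φ (w ^ 2)
    rw [hφ, o3] at h1
    exact h3 h1
  · have h1 := orderOf_mulEquiv φ w
    rw [hφ, ow] at h1
    exact h6 h1

theorem three_M12 (tab : OrderTable.{0}) (known : Known.{0}) {R : Subgroup Spor.M12} (hR : R ≠ ⊤) :
    Three Spor.M12 R := by
  have hfin := finM12
  have hc := card_M12
  have p11 : (11 : ℕ).Prime := by norm_num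
  set X : Subgroup (Equiv.Perm GolayPt) := R.map Spor.M12.subtype with hXdef
  have hcX : Nat.card X = Nat.card R := card_map_subtype R
  have hX : X ≤ Spor.M12 := by
    rintro _ ⟨g, -, rfl⟩
    exact g.2
  have hmem : ∀ {g : Spor.M12}, g ∈ R → (g : Equiv.Perm GolayPt) ∈ X := fun h =>
    Subgroup.mem_map_of_mem Spor.M12.subtype h
  have hcoe : ∀ g : Spor.M12, orderOf (g : Equiv.Perm GolayPt) = orderOf g := fun g => Subgroup.orderOf_coe g
  have hnd : ∀ {n k : ℕ}, k ∣ n → ¬ k ∣ Nat.card R → ∀ m ∈ R, orderOf m ≠ n := by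
    intro n k hk hn m hm ho
    exact hn ((ho ▸ hk).trans (Subgroup.orderOf_dvd_natCard R hm))
  have h8el : ∃ v : Spor.M12, orderOf v = 8 := ⟨⟨V8, V8_mem⟩, by rw [Subgroup.orderOf_mk, orderOf_V8]⟩
  obtain ⟨v8, hv8⟩ := h8el
  obtain ⟨x5, hx5⟩ := have := Fact.mk Nat.prime_five
    exists_prime_orderOf_dvd_card' (G := Spor.M12) 5 (by rw [hc]; norm_num)
  by_cases h11 : 11 ∣ Nat.card R
  swap
  · have := Fact.mk p11
    obtain ⟨x, hx⟩ := exists_prime_orderOf_dvd_card' (G := Spor.M12) 11 (by rw [hc]; norm_num)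
    by_cases h5 : 5 ∣ Nat.card R
    swap
    · exact Three.of_orders (a := 5) (b := 10) (c := 11) (by norm_num) (by norm_num) (by norm_num) hx5 orderOf_a10 hx
        (hnd (dvd_refl 5) h5) (hnd (show 5 ∣ 10 by norm_num) h5) (hnd (dvd_refl 11) h11)
    have hxR : ∀ φ : Spor.M12 ≃* Spor.M12, φ x ∉ R := not_mem_of_dvd h11 (by rw [hx])
    by_cases ha : ∀ φ : Spor.M12 ≃* Spor.M12, φ (a6 ^ 2) ∉ R
    · exact three_of_sq orderOf_a6 ha hxR (by rw [hx]; norm_num) (by rw [hx]; norm_num)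
    by_cases hb : ∀ φ : Spor.M12 ≃* Spor.M12, φ (b6 ^ 2) ∉ R
    · exact three_of_sq orderOf_b6 hb hxR (by rw [hx]; norm_num) (by rw [hx]; norm_num)
    exfalso
    push Not at ha hb
    obtain ⟨φ, hφ⟩ := ha
    obtain ⟨ψ, hψ⟩ := hb
    obtain ⟨u, hu, ou⟩ := have := Fact.mk Nat.prime_five; exists_order (X := X) (p := 5) (by rw [hcX]; exact h5)
    exact false_of_3A3B hX (by rwa [hcX]) hu ou (hmem hφ) (hmem hψ) (by rw [hcoe, orderOf_mulEquiv, orderOf_a6sq])
      (by rw [hcoe, orderOf_mulEquiv, orderOf_b6sq]) (fx_a6 φ) (fx_b6 ψ)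
  by_cases h5 : 5 ∣ Nat.card R
  swap
  · have h3 : ¬ 3 ∣ Nat.card R := by
      intro h3
      refine h5 (dvd_of_pair tab known (r := 11) (s := 3) [(2, 6), (3, 3), (5, 1), (11, 1)] hc p11 Nat.prime_three
        (noOrd_of_noComm p11 Nat.prime_three fun x y hx hy hxy => ?_) (by decide +kernel) hR h11 h3)
      have := iso11_M12 x y hxy hx (by rw [hy]; norm_num)
      omega
    exact Three.of_orders (a := 3) (b := 5) (c := 6) (by norm_num) (by norm_num) (by norm_num) orderOf_a6sq hx5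
      orderOf_a6 (hnd (dvd_refl 3) h3) (hnd (dvd_refl 5) h5) (hnd (show 3 ∣ 6 by norm_num) h3)
  rcases trans_or_fix hX (by rw [hcX]; exact h11) with ⟨a, -, ha⟩ | htr
  · refine three_of (fun φ hφ => ?_) (fun φ hφ => ?_)
    · have ho : orderOf ((φ a10 : Spor.M12) : Equiv.Perm GolayPt) = 10 := by
        rw [hcoe, orderOf_mulEquiv, orderOf_a10]
      exact no_fix_ten (x := ((φ a10 : Spor.M12) : Equiv.Perm GolayPt)) (φ a10).2.1 ho a (ha _ (hmem hφ))
    · exact no_fix (fx_a10 φ) a (ha _ (hmem hφ))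
  have ho : ∀ a ∈ dd, (orb X a).card = 12 := by
    intro a ha
    rw [htr a ha, card_dd]
  have h0 := card_orb_mul X (some 0)
  rw [ho _ zero_mem_dd] at h0
  have hS := card_St_M11 hX (dvd_St (by norm_num) (by rw [hcX]; exact h5) (ho _ zero_mem_dd) (by norm_num))
    (dvd_St (by norm_num) (by rw [hcX]; exact h11) (ho _ zero_mem_dd) (by norm_num))
  rcases hS with hS | hS | hS
  · -- 660: the order 4 is missing, and one type of elements of order 3
    rw [hS] at h0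
    have h4 : ∀ m ∈ R, orderOf m ≠ 4 := by
      intro n hnR on
      obtain ⟨a, ha, h1⟩ := sq_fix12 (g := n) (by rw [← on, pow_orderOf_eq_one])
      have h2 := card_orb_mul X a
      rw [ho a ha, ← h0] at h2
      have h3 : ((n ^ 2 : Spor.M12) : Equiv.Perm GolayPt) ∈ St X a :=
        ⟨hmem (R.pow_mem hnR 2), h1⟩
      have h4 : 2 ∣ Nat.card (St X a) := by
        have h5 := Subgroup.orderOf_dvd_natCard _ h3
        rwa [Subgroup.orderOf_coe, orderOf_pow_of_dvd (by norm_num) (by rw [on]; norm_num), on] at h5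
      omega
    have h4' : ∀ φ : Spor.M12 ≃* Spor.M12, φ a4 ∉ R := fun φ hφ => h4 _ hφ (by rw [orderOf_mulEquiv, orderOf_a4])
    by_cases ha : ∀ φ : Spor.M12 ≃* Spor.M12, φ (a6 ^ 2) ∉ R
    · exact three_of_sq orderOf_a6 ha h4' (by rw [orderOf_a4]; norm_num) (by rw [orderOf_a4]; norm_num)
    by_cases hb : ∀ φ : Spor.M12 ≃* Spor.M12, φ (b6 ^ 2) ∉ R
    · exact three_of_sq orderOf_b6 hb h4' (by rw [orderOf_a4]; norm_num) (by rw [orderOf_a4]; norm_num)
    exfalso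
    push Not at ha hb
    obtain ⟨φ, hφ⟩ := ha
    obtain ⟨ψ, hψ⟩ := hb
    have h9 := fx3_eq (Y := X) hX (by rw [← h0]; norm_num) (hmem hφ) (hmem hψ)
      (by rw [hcoe, orderOf_mulEquiv, orderOf_a6sq]) (by rw [hcoe, orderOf_mulEquiv, orderOf_b6sq])
    rw [fx_a6, fx_b6] at h9
    norm_num at h9
  · -- 7920
    rw [hS] at h0
    have hsimp : IsSimpleGroup R := isSimple_of_iso11 (iso11_M12.sub R) (Or.inr (by rw [← hcX, ← h0]))
    have hMM : Cfsg.IsM11 R := ⟨hsimp, by rw [← hcX, ← h0]⟩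
    have h10 : ∀ m ∈ R, orderOf m ≠ 10 := by
      intro m hm om
      have o5 : orderOf ((⟨m, hm⟩ : R) ^ 2) = 5 := by
        rw [orderOf_pow_of_dvd (by norm_num) (by rw [Subgroup.orderOf_mk, om]; norm_num), Subgroup.orderOf_mk, om]
      have h1 := Cfsg.Agent.SporadicA.M11Facts.card_centralizer_five hMM o5
      have h2 : (⟨m, hm⟩ : R) ∈ Subgroup.centralizer ({(⟨m, hm⟩ : R) ^ 2} : Set R) :=
        Subgroup.mem_centralizer_singleton_iff.2 ((Commute.refl (⟨m, hm⟩ : R)).pow_right 2).eq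
      have h3 := Subgroup.orderOf_dvd_natCard _ h2
      rw [h1, Subgroup.orderOf_mk, om] at h3
      norm_num at h3
    by_cases hex : ∃ n ∈ R, orderOf n = 4
    swap
    · push Not at hex
      have h8 : ∀ m ∈ R, orderOf m ≠ 8 := fun m hm om => hex (m ^ 2) (R.pow_mem hm 2) (by
        rw [orderOf_pow_of_dvd (by norm_num) (by rw [om]; norm_num), om])
      exact Three.of_orders (a := 4) (b := 8) (c := 10) (by norm_num) (by norm_num) (by norm_num) orderOf_a4 hv8
        orderOf_a10 hex h8 h10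
    obtain ⟨n, hn, on⟩ := hex
    have o2 : orderOf (n ^ 2) = 2 := by
      rw [orderOf_pow_of_dvd (by norm_num) (by rw [on]; norm_num), on]
    refine three_of (fun φ hφ => h10 _ hφ (by rw [orderOf_mulEquiv, orderOf_a10])) (fun φ hφ => ?_)
    have hconj := Cfsg.Agent.SporadicA.M11Facts.isConj_involutions hMM (u := ⟨φ (a10 ^ 5), hφ⟩)
      (u' := ⟨n ^ 2, R.pow_mem hn 2⟩)
      (by rw [Subgroup.orderOf_mk, orderOf_mulEquiv, orderOf_a10p])
      (by rw [Subgroup.orderOf_mk, o2])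
    obtain ⟨c, hc⟩ := isConj_iff.1 hconj
    have h1 : ((c : Spor.M12) : Equiv.Perm GolayPt) * ((φ (a10 ^ 5) : Spor.M12) : Equiv.Perm GolayPt) *
        ((c : Spor.M12) : Equiv.Perm GolayPt)⁻¹ = ((n ^ 2 : Spor.M12) : Equiv.Perm GolayPt) :=
      congrArg (fun z : R => ((z : Spor.M12) : Equiv.Perm GolayPt)) hc
    obtain ⟨a, ha, h2⟩ := sq_fix12 (g := n) (by rw [← on, pow_orderOf_eq_one])
    refine no_fix ?_ a h2
    rw [← h1, Cfsg.Agent.H866.InvolType.fx_conj]
    exact fx_a10 φ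
  · rw [hS] at h0
    exact absurd (eq_top_of_card (by rw [← hcX, ← h0, card_M12])) hR

theorem rowS_m12_of (tab : OrderTable.{0}) (known : Known.{0}) {T : Type*} [Group T] (h : Cfsg.Spor.IsoM12 T) :
    RowS T := by
  obtain ⟨e⟩ := h
  exact RowS.congr e.symm ⟨fun M hM => (three_M12 tab known hM.1).two, fun R hR _ => three_M12 tab known hR⟩

end Cfsg.Agent.H123.Der
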