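import Cfsg.Agent.H123.Der.ThreeMTwentyThree

/-!
# `M₂₄` (S3502, helper123)
-/

set_option autoImplicit false

namespace Cfsg.Agent.H123.Der

open Subgroup Cfsg Cfsg.Agent.OrdDiv Cfsg.Agent.H257.El Cfsg.Agent.H439.Der Cfsg.Agent.H938.Sax
open Cfsg.Agent.H180.MEl Cfsg.Agent.H94.PG Cfsg.Agent.H94.PG.Sp
open Cfsg.Agent.H866.InvolType (fx fx_conj)
open Cfsg.Agent.H604.Sax.Mathieu (fx_ten no_fix_ten)
open Cfsg.Agent.J4Type.CocodeMask (mk isTab_mk)
open Cfsg.Agent.H180.KMathieu (orderOf_tab)

/-- parity of a set with a fixed point free symmetric matching -/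
theorem even_of_partner {α : Type*} {s : Finset α} (P : α → α → Prop) (hex : ∀ a ∈ s, ∃ b ∈ s, P a b)
    (hne : ∀ a b, P a b → a ≠ b) (hun : ∀ a b b', P a b → P a b' → b = b') (hsy : ∀ a b, P a b → P b a) :
    Even s.card := by
  choose g hg hP using hex
  have h1 := Finset.prod_involution (s := s) (f := fun _ => (-1 : ℤ)) g (fun _ _ => by norm_num)
    (fun a ha _ h => hne _ _ (hP a ha) h.symm) hg
    (fun a ha => hun _ _ _ (hP (g a ha) (hg a ha)) (hsy _ _ (hP a ha)))
  rw [Finset.prod_const] at h1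
  exact (neg_one_pow_eq_one_iff_even (by norm_num)).1 h1

/-- elements of order 21 -/
theorem fx_21 {g : Equiv.Perm GolayPt} (hg : g ∈ M24) (og : orderOf g = 21) : fx (g ^ 7) = 0 := by
  have p7 : Fact (Nat.Prime 7) := ⟨by norm_num⟩
  have o7 : orderOf (g ^ 3) = 7 := by rw [orderOf_pow_of_dvd (by norm_num) (by rw [og]; norm_num), og]
  have o3 : orderOf (g ^ 7) = 3 := by rw [orderOf_pow_of_dvd (by norm_num) (by rw [og]; norm_num), og]
  have h1 := card_Fx_comm (p := 7) (x := g ^ 3) (y := g ^ 7) (by rw [← o7, pow_orderOf_eq_one])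
    ((Commute.refl g).pow_pow 3 7)
  have h2 : (Fx (g ^ 3) ∩ Fx (g ^ 7)).card ≤ (Fx (g ^ 3)).card := Finset.card_le_card Finset.inter_subset_left
  rw [card_Fx, fx7 (M24.pow_mem hg 3) o7] at h2
  unfold Nat.ModEq at h1
  rcases fx3 (M24.pow_mem hg 7) o3 with h4 | h4
  · rw [h4] at h1; omega
  · exact h4

theorem pow_fix {g : Equiv.Perm GolayPt} {a : GolayPt} (h : g a = a) (n : ℕ) : (g ^ n) a = a := by
  induction n with
  | zero => rfl
  | succ n ih => rw [pow_succ, Equiv.Perm.mul_apply, h, ih]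

theorem no_fix_21 {g : Equiv.Perm GolayPt} (hg : g ∈ M24) (og : orderOf g = 21) (a : GolayPt) : g a ≠ a :=
  fun h => no_fix (fx_21 hg og) a (pow_fix h 7)

noncomputable def g21 : M24 := mk 251121209710824176750513956202203372 (by decide +kernel)

theorem orderOf_g21 : orderOf g21 = 21 := orderOf_tab (isTab_mk _ _) (by decide +kernel)

theorem num24' {o f11 f7 : ℕ} (m11 : o % 11 = f11 % 11) (m7 : o % 7 = f7 % 7) (m3 : o % 3 = 0)
    (l11 : f11 ≤ 2) (l7 : f7 ≤ 3) (hle : o ≤ 24) (hpos : 0 < o) : o = 24 := by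
  interval_cases f11 <;> interval_cases f7 <;> omega

theorem orb_le24 (X : Subgroup (Equiv.Perm GolayPt)) (a : GolayPt) : (orb X a).card ≤ 24 :=
  (Finset.card_le_univ _).trans (by simp)

/-- a subgroup of order divisible by `77` but not by `23` has no element of order 21 -/
theorem false_of_21 {X : Subgroup (Equiv.Perm GolayPt)} (hX : X ≤ M24) (h7 : 7 ∣ Nat.card X)
    (h11 : 11 ∣ Nat.card X) (h23 : ¬ 23 ∣ Nat.card X) {g : Equiv.Perm GolayPt} (hg : g ∈ X)
    (og : orderOf g = 21) : False := by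
  have p11 : Fact (Nat.Prime 11) := ⟨by norm_num⟩
  have p7 : Fact (Nat.Prime 7) := ⟨by norm_num⟩
  obtain ⟨x11, hx11, o11⟩ := exists_order h11
  obtain ⟨x7, hx7, o7⟩ := exists_order h7
  have f11 := fx11 (hX hx11) o11
  have f7 := fx7 (hX hx7) o7
  have o3 : orderOf (g ^ 7) = 3 := by rw [orderOf_pow_of_dvd (by norm_num) (by rw [og]; norm_num), og]
  have f3 := fx_21 (hX hg) og
  have htr : ∀ a, (orb X a).card = 24 := by
    intro a
    have m11 := orb_mod (a := a) hx11 o11
    have m7 := orb_mod (a := a) hx7 o7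
    have m3 := orb_mod (p := 3) (a := a) (X.pow_mem hg 7) o3
    have l11 : (orb X a ∩ Fx x11).card ≤ 2 := by
      rw [← f11, ← card_Fx]; exact Finset.card_le_card Finset.inter_subset_right
    have l7 : (orb X a ∩ Fx x7).card ≤ 3 := by
      rw [← f7, ← card_Fx]; exact Finset.card_le_card Finset.inter_subset_right
    have l3 : (orb X a ∩ Fx (g ^ 7)).card ≤ 0 := by
      rw [← f3, ← card_Fx]; exact Finset.card_le_card Finset.inter_subset_right
    rw [Nat.le_zero.1 l3] at m3
    exact num24' m11 m7 m3 l11 l7 (orb_le24 X a) (orb_pos X a)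
  have hu : ∀ a, orb X a = Finset.univ := fun a => by
    rw [← Finset.card_eq_iff_eq_univ, htr a]; simp
  have hcard : ∀ a, 24 * Nat.card (St X a) = Nat.card X := fun a => by rw [← card_orb_mul X a, htr a]
  have hS7 : ∀ a, 7 ∣ Nat.card (St X a) := fun a => dvd_St (by norm_num) h7 (htr a) (by norm_num)
  have hS11 : ∀ a, 11 ∣ Nat.card (St X a) := fun a => dvd_St (by norm_num) h11 (htr a) (by norm_num)
  have hS23 : ∀ a, ¬ 23 ∣ Nat.card (St X a) := fun a h => h23 (by rw [← hcard a]; exact h.mul_left _)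
  have hle : ∀ a, St X a ≤ X := fun a => inf_le_left
  let P : GolayPt → GolayPt → Prop := fun a b => b ≠ a ∧ ∀ g ∈ St X a, g b = b
  have hun : ∀ a b b', P a b → P a b' → b = b' := by
    intro a b b' hb hb'
    by_contra hne
    obtain ⟨y, hy, oy⟩ := exists_order (hS11 a)
    have h1 : ({a, b, b'} : Finset GolayPt) ⊆ Fx y := by
      intro q hq
      simp only [Finset.mem_insert, Finset.mem_singleton] at hq
      rw [mem_Fx]
      rcases hq with rfl | rfl | rfl
      · exact hy.2
      · exact hb.2 y hy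
      · exact hb'.2 y hy
    have h2 := Finset.card_le_card h1
    rw [card_Fx, fx11 (hX (hle a hy)) oy, Finset.card_insert_of_notMem (by
      simp only [Finset.mem_insert, Finset.mem_singleton, not_or]
      exact ⟨hb.1.symm, hb'.1.symm⟩), Finset.card_pair hne] at h2
    omega
  have hsy : ∀ a b, P a b → P b a := by
    intro a b hb
    refine ⟨hb.1.symm, fun g hg => ?_⟩
    have h1 : St X a ≤ St X b := fun g hg => ⟨hle a hg, hb.2 g hg⟩
    have h2 : St X a = St X b := by
      refine Subgroup.eq_of_le_of_card_ge h1 (le_of_eq ?_)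
      have h3 := hcard a
      have h4 := hcard b
      omega
    rw [← h2] at hg
    exact hg.2
  have hev : Even (Fx x7).card := by
    refine even_of_partner P (fun a ha => ?_) (fun a b hab => hab.1.symm) hun hsy
    obtain ⟨c, hca, hc⟩ := exists_fix ((hle a).trans hX) (t := a) (fun g hg => hg.2) (hS7 a) (hS11 a) (hS23 a)
    rw [mem_Fx] at ha
    exact ⟨c, mem_Fx.2 (hc x7 ⟨hx7, ha⟩), hca, hc⟩
  rw [card_Fx, f7] at hev
  exact absurd hev (by decide)

theorem three_M24 (tab : OrderTable.{0}) (known : Known.{0}) {R : Subgroup M24} (hR : R ≠ ⊤) :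
    Three M24 R := by
  have hc := fact24
  have p11 : (11 : ℕ).Prime := by norm_num
  have p23 : (23 : ℕ).Prime := by norm_num
  have p7 : (7 : ℕ).Prime := by norm_num
  have hno : ∀ s : ℕ, s.Prime → ¬ s ∣ 253 → ∀ z : M24, orderOf z ≠ 23 * s := fun s hs hd =>
    noOrd_of_norm p23 hs (D := 253) (fun _ hx => norm23_dvd le_rfl hx) hd
  have hX : R.map M24.subtype ≤ M24 := by
    rintro _ ⟨g, -, rfl⟩
    exact g.2
  by_cases h23 : 23 ∣ Nat.card R
  · by_cases h5 : 5 ∣ Nat.card R
    swap
    · have h7 : ¬ 7 ∣ Nat.card R := fun h7 => h5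
        (dvd_of_pair tab known (r := 23) (s := 7) [(2, 10), (3, 3), (5, 1), (7, 1), (11, 1), (23, 1)] hc p23
          p7 (hno 7 p7 (by norm_num)) (by decide +kernel) hR h23 h7)
      exact Three.of_two_primes Nat.prime_five p7 (by norm_num) (by rw [hc]; norm_num) h5 h7
        (not_SC_of_nr (nr_m24 Nat.prime_five (by norm_num) (by decide)) (by norm_num))
    have h77 : 77 ∣ Nat.card R :=
      dvd_of_pair tab known (r := 23) (s := 5) [(2, 10), (3, 3), (5, 1), (7, 1), (11, 1), (23, 1)] hc p23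
        Nat.prime_five (hno 5 Nat.prime_five (by norm_num)) (by decide +kernel) hR h23 h5
    have h7 : 7 ∣ Nat.card R := (show 7 ∣ 77 by norm_num).trans h77
    have h11 : 11 ∣ Nat.card R := (show 11 ∣ 77 by norm_num).trans h77
    rcases m24 hX (by rwa [card_map_subtype]) (by rwa [card_map_subtype]) (by rwa [card_map_subtype])
      (by rwa [card_map_subtype]) with h | ⟨a, ha⟩
    · exact absurd (eq_top_of_card (by rw [← card_map_subtype, h, hc])) hR
    · have key : ∀ m ∈ R, (m : Equiv.Perm GolayPt) a = a := fun m hm => ha _ (Subgroup.mem_map_of_mem M24.subtype hm)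
      have h10 : ∀ φ : M24 ≃* M24, orderOf (φ g10 : M24) = 10 := fun φ => by rw [orderOf_mulEquiv, orderOf_g10]
      have h21 : ∀ φ : M24 ≃* M24, orderOf (φ g21 : M24) = 21 := fun φ => by rw [orderOf_mulEquiv, orderOf_g21]
      have h2 : ∀ φ : M24 ≃* M24, orderOf (φ (g10 ^ 5) : M24) = 2 := fun φ => by
        rw [orderOf_mulEquiv, orderOf_pow_of_dvd (by norm_num) (by rw [orderOf_g10]; norm_num), orderOf_g10]
      refine ⟨g10, g10 ^ 5, g21, fun φ hφ => ?_, fun φ hφ => ?_, fun φ hφ => ?_, fun φ hφ => ?_, fun φ hφ => ?_,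
        fun φ hφ => ?_⟩
      · exact no_fix_ten (φ g10).2 (by rw [Subgroup.orderOf_coe]; exact h10 φ) a (key _ hφ)
      · have h1 := fx_ten (x := (φ g10 : M24)) (φ g10).2 (by rw [Subgroup.orderOf_coe]; exact h10 φ)
        refine no_fix h1 a ?_
        have h2 := key _ hφ
        rwa [map_pow] at h2
      · exact no_fix_21 (φ g21).2 (by rw [Subgroup.orderOf_coe]; exact h21 φ) a (key _ hφ)
      · have h3 := h10 φ
        rw [hφ] at h3
        have h4 := h2 (MulEquiv.refl _)
        rw [MulEquiv.refl_apply, h3] at h4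
        norm_num at h4
      · have h3 := h10 φ
        rw [hφ, orderOf_g21] at h3
        norm_num at h3
      · have h3 := h2 φ
        rw [hφ, orderOf_g21] at h3
        norm_num at h3
  have := Fact.mk p23
  obtain ⟨x, hx⟩ := exists_prime_orderOf_dvd_card' (G := M24) 23 (by rw [hc]; norm_num)
  have hn23 : ¬ SC M24 23 := not_SC_of_conjPow p23 hx
    (conjPow_lt (D := 253) hc p23 hx (norm23_dvd le_rfl hx) (by decide +kernel)) Cfsg.Agent.S2064.result
  by_cases h7 : 7 ∣ Nat.card R
  swap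
  · exact Three.of_two_primes p23 p7 (by norm_num) (by rw [hc]; norm_num) h23 h7 hn23
  by_cases h11 : 11 ∣ Nat.card R
  swap
  · exact Three.of_two_primes p23 p11 (by norm_num) (by rw [hc]; norm_num) h23 h11 hn23
  refine Three.of_not_SC_order (v := 23) h23 hn23 (z := g21) orderOf_g21 ?_ (by norm_num)
  intro m hm om
  exact false_of_21 hX (by rwa [card_map_subtype]) (by rwa [card_map_subtype]) (by rwa [card_map_subtype])
    (Subgroup.mem_map_of_mem M24.subtype hm) (by
      rw [← om]; exact Subgroup.orderOf_coe m)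

theorem rowS_m24_of (tab : OrderTable.{0}) (known : Known.{0}) {T : Type*} [Group T] (h : Cfsg.Spor.IsoM24 T) :
    RowS T := by
  obtain ⟨e⟩ := h
  exact RowS.congr e.symm ⟨fun M hM => (three_M24 tab known hM.1).two, fun R hR _ => three_M24 tab known hR⟩

end Cfsg.Agent.H123.Der
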