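import Cfsg.Agent.H123.Der.ThreeMEleven
import Cfsg.Agent.H123.Der.ThreeMTwentyFour

/-!
# Subgroups of `M₁₂` with two types of elements of order 3 (S3502, helper123)
-/

set_option autoImplicit false

namespace Cfsg.Agent.H123.Der

open Subgroup Cfsg
open Cfsg.Agent.H180.MEl
open Cfsg.Agent.H866.InvolType (fx fx_conj)
open Cfsg.Agent.SporadicStructure.M11InvPerms (dd dd_mem)
open scoped Pointwise

theorem Fix_eq (x : Equiv.Perm GolayPt) : Cfsg.Agent.CpAutTThree.MTwelve.Fix x = dd ∩ Fx x := by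
  ext c
  rw [Cfsg.Agent.CpAutTThree.MTwelve.mem_Fix, Cfsg.Agent.MTwelveType.SylowModel.squareDodecad_eq,
    Finset.mem_inter, mem_Fx]

theorem fix_le_dd {g : Equiv.Perm GolayPt} (hg : g ∈ Spor.M12) (hg1 : g ≠ 1) : (dd ∩ Fx g).card ≤ 4 := by
  rw [← Fix_eq]
  exact Cfsg.Agent.CpAutTThree.MTwelve.fix_le hg hg1

theorem ne_one_of_order {g : Equiv.Perm GolayPt} {n : ℕ} (h : orderOf g = n) (hn : n ≠ 1) : g ≠ 1 := by
  rintro rfl
  exact hn (h.symm.trans orderOf_one)

theorem fx3_dd {z : Equiv.Perm GolayPt} (hz : z ∈ Spor.M12) (oz : orderOf z = 3) :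
    (dd ∩ Fx z).card = 0 ∨ (dd ∩ Fx z).card = 3 := by
  have p3 : Fact (Nat.Prime 3) := ⟨by norm_num⟩
  have m := card_mod (p := 3) (by rw [← oz, pow_orderOf_eq_one]) dd (inv_dd hz)
  have l := fix_le_dd hz (ne_one_of_order oz (by norm_num))
  rw [card_dd] at m
  unfold Nat.ModEq at m
  omega

theorem fx_dd_conj {g : Equiv.Perm GolayPt} (hg : g ∈ Spor.M12) (x : Equiv.Perm GolayPt) :
    (dd ∩ Fx (g * x * g⁻¹)).card = (dd ∩ Fx x).card := by
  have h : dd ∩ Fx (g * x * g⁻¹) = (dd ∩ Fx x).map g.toEmbedding := by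
    ext p
    simp only [Finset.mem_inter, mem_Fx, Finset.mem_map_equiv]
    have h1 : g⁻¹ p ∈ dd ↔ p ∈ dd := mem_dd_iff (Spor.M12.inv_mem hg) p
    have h2 : (g * x * g⁻¹) p = p ↔ x (g⁻¹ p) = g⁻¹ p := by
      show g (x (g⁻¹ p)) = p ↔ _
      constructor
      · intro h
        apply g.injective
        rw [h]
        exact (Equiv.apply_symm_apply g p).symm
      · intro h
        rw [h]
        exact Equiv.apply_symm_apply g p
    exact and_congr h1.symm h2
  rw [h, Finset.card_map]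

theorem Fx_eq_of_zpowers {x y : Equiv.Perm GolayPt} (h : Subgroup.zpowers x = Subgroup.zpowers y) : Fx x = Fx y := by
  have key : ∀ (x : Equiv.Perm GolayPt) (p : GolayPt), p ∈ Fx x ↔
      Subgroup.zpowers x ≤ MulAction.stabilizer (Equiv.Perm GolayPt) p := by
    intro x p
    rw [mem_Fx, Subgroup.zpowers_le, MulAction.mem_stabilizer_iff]
    rfl
  ext p
  rw [key, key, h]

section

variable {Y : Subgroup (Equiv.Perm GolayPt)}

/-- a group whose order is divisible by 3 but not by 9 has one type of elements of order 3 -/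
theorem fx3_eq (hY : Y ≤ Spor.M12) (h9 : ¬ 9 ∣ Nat.card Y) {y z : Equiv.Perm GolayPt} (hy : y ∈ Y) (hz : z ∈ Y)
    (oy : orderOf y = 3) (oz : orderOf z = 3) : (dd ∩ Fx y).card = (dd ∩ Fx z).card := by
  have p3 : Fact (Nat.Prime 3) := ⟨by norm_num⟩
  have h3 : 3 ∣ Nat.card Y := by rw [← oy]; exact Subgroup.orderOf_dvd_natCard Y hy
  have h1 : (Nat.card Y).factorization 3 = 1 := by
    apply le_antisymm
    · by_contra hlt
      push Not at hlt
      exact h9 ((Nat.prime_three.pow_dvd_iff_le_factorization Nat.card_pos.ne').2 hlt)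
    · exact (Nat.prime_three.dvd_iff_one_le_factorization Nat.card_pos.ne').1 h3
  have oy' : orderOf (⟨y, hy⟩ : Y) = 3 := by rw [Subgroup.orderOf_mk, oy]
  have oz' : orderOf (⟨z, hz⟩ : Y) = 3 := by rw [Subgroup.orderOf_mk, oz]
  let P : Sylow 3 Y := Sylow.ofCard (Subgroup.zpowers (⟨y, hy⟩ : Y)) (by rw [Nat.card_zpowers, oy', h1, pow_one])
  let Q : Sylow 3 Y := Sylow.ofCard (Subgroup.zpowers (⟨z, hz⟩ : Y)) (by rw [Nat.card_zpowers, oz', h1, pow_one])
  obtain ⟨g, hg⟩ := MulAction.exists_smul_eq Y P Q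
  have h2 : Subgroup.zpowers ((g : Equiv.Perm GolayPt) * y * (g : Equiv.Perm GolayPt)⁻¹) = Subgroup.zpowers z := by
    have h3 : ((g • P : Sylow 3 Y) : Subgroup Y) = (Q : Subgroup Y) := by rw [hg]
    have h4 : Subgroup.zpowers (g * ⟨y, hy⟩ * g⁻¹ : Y) = Subgroup.zpowers (⟨z, hz⟩ : Y) := by
      have h5 : ((g • P : Sylow 3 Y) : Subgroup Y) = Subgroup.zpowers (g * ⟨y, hy⟩ * g⁻¹ : Y) := by
        rw [Sylow.coe_subgroup_smul]
        show MulAut.conj g • Subgroup.zpowers (⟨y, hy⟩ : Y) = _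
        exact MonoidHom.map_zpowers (MulAut.conj g).toMonoidHom (⟨y, hy⟩ : Y)
      rw [← h5, h3]
      rfl
    have h6 := congrArg (fun K : Subgroup Y => K.map Y.subtype) h4
    rw [MonoidHom.map_zpowers, MonoidHom.map_zpowers] at h6
    exact h6
  rw [← fx_dd_conj (hY g.2) y, Fx_eq_of_zpowers h2]

/-- counting fixed points -/
theorem sum_St (S : Subgroup (Equiv.Perm GolayPt)) :
    ∃ F : Finset (Equiv.Perm GolayPt), (∀ e, e ∈ F ↔ e ∈ S) ∧ F.card = Nat.card S ∧
      ∑ a ∈ dd, Nat.card (St S a) = ∑ e ∈ F, (dd ∩ Fx e).card := by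
  classical
  have hF : ∀ K : Subgroup (Equiv.Perm GolayPt), (Set.toFinite (K : Set (Equiv.Perm GolayPt))).toFinset.card =
      Nat.card K := by
    intro K
    rw [← Set.ncard_eq_toFinset_card _ (Set.toFinite _), ← Nat.card_coe_set_eq]
    rfl
  refine ⟨(Set.toFinite (S : Set (Equiv.Perm GolayPt))).toFinset, fun e => by simp, hF S, ?_⟩
  have h1 := Finset.sum_card_bipartiteAbove_eq_sum_card_bipartiteBelow (s := dd)
    (t := (Set.toFinite (S : Set (Equiv.Perm GolayPt))).toFinset) (fun a e => e a = a)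
  refine (Finset.sum_congr rfl fun a _ => ?_).trans (h1.trans (Finset.sum_congr rfl fun e _ => ?_))
  · rw [← hF]
    congr 1
    ext e
    simp only [Set.Finite.mem_toFinset, SetLike.mem_coe, Finset.mem_bipartiteAbove]
    exact mem_St
  · congr 1
    ext a
    rw [Finset.mem_bipartiteBelow, Finset.mem_inter, mem_Fx]

/-- elements of 3-power order have at most three fixed points -/
theorem fx_le_three {S : Subgroup (Equiv.Perm GolayPt)} (hS : S ≤ Spor.M12) {n : ℕ} (hn : Nat.card S = 3 ^ n)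
    {e : Equiv.Perm GolayPt} (he : e ∈ S) (he1 : e ≠ 1) : (dd ∩ Fx e).card ≤ 3 := by
  have h1 : orderOf e ∣ 3 ^ n := by rw [← hn]; exact Subgroup.orderOf_dvd_natCard S he
  obtain ⟨k, -, hk⟩ := (Nat.dvd_prime_pow Nat.prime_three).1 h1
  have h3 : 3 ∣ orderOf e := by
    rcases Nat.eq_zero_or_pos k with h0 | h0
    · rw [h0, pow_zero, orderOf_eq_one_iff] at hk
      exact absurd hk he1
    · rw [hk]; exact dvd_pow_self 3 h0.ne'
  obtain ⟨m, hm⟩ := exists_pow_prime Nat.prime_three h3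
  have h4 : dd ∩ Fx e ⊆ dd ∩ Fx (e ^ m) := by
    refine Finset.inter_subset_inter_left fun p hp => ?_
    rw [mem_Fx] at hp ⊢
    exact pow_fix' hp m
  have h5 := Finset.card_le_card h4
  rcases fx3_dd (Spor.M12.pow_mem (hS he) m) hm with h6 | h6 <;> omega

/-- a group with small orbits on the dodecad has one type of elements of order 3 -/
theorem small_orbits (hY : Y ≤ Spor.M12) (h6 : ∀ a ∈ dd, (orb Y a).card ≤ 6) {y z : Equiv.Perm GolayPt} (hy : y ∈ Y)
    (hz : z ∈ Y) (oy : orderOf y = 3) (oz : orderOf z = 3) (fy : (dd ∩ Fx y).card = 0)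
    (fz : (dd ∩ Fx z).card = 3) : False := by
  have p3 : Fact (Nat.Prime 3) := ⟨by norm_num⟩
  by_cases h9 : 9 ∣ Nat.card Y
  swap
  · have h1 := fx3_eq hY h9 hy hz oy oz
    omega
  have oy' : orderOf (⟨y, hy⟩ : Y) = 3 := by rw [Subgroup.orderOf_mk, oy]
  obtain ⟨P, hP⟩ := (IsPGroup.of_card (p := 3) (n := 1) (G := zpowers (⟨y, hy⟩ : Y))
    (by rw [Nat.card_zpowers, oy', pow_one])).exists_le_sylow
  set S : Subgroup (Equiv.Perm GolayPt) := (P : Subgroup Y).map Y.subtype with hSdef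
  have hSY : S ≤ Y := by
    rintro _ ⟨g, -, rfl⟩
    exact g.2
  have hyS : y ∈ S := Subgroup.mem_map.2 ⟨⟨y, hy⟩, hP (mem_zpowers _), rfl⟩
  have hcS : Nat.card S = 3 ^ (Nat.card Y).factorization 3 := by
    rw [hSdef, card_map_of_injective Y.subtype_injective]
    exact P.card_eq_multiplicity
  have h2 : 2 ≤ (Nat.card Y).factorization 3 :=
    (Nat.prime_three.pow_dvd_iff_le_factorization Nat.card_pos.ne').1 h9
  have hge : 9 ≤ Nat.card S := by
    rw [hcS]
    calc 9 = 3 ^ 2 := by norm_num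
      _ ≤ _ := Nat.pow_le_pow_right (by norm_num) h2
  have hS : S ≤ Spor.M12 := hSY.trans hY
  have horb : ∀ a ∈ dd, Nat.card S ≤ 3 * Nat.card (St S a) := by
    intro a ha
    have h3 : (orb S a).card ≤ 6 := by
      refine (Finset.card_le_card fun p hp => ?_).trans (h6 a ha)
      obtain ⟨g, hg, h⟩ := mem_orb.1 hp
      exact mem_orb.2 ⟨g, hSY hg, h⟩
    have h4 := card_orb_mul S a
    have h5 : (orb S a).card ∣ 3 ^ (Nat.card Y).factorization 3 := by
      rw [← hcS, ← h4]; exact dvd_mul_right _ _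
    obtain ⟨k, -, hk⟩ := (Nat.dvd_prime_pow Nat.prime_three).1 h5
    have h7 : (orb S a).card ≤ 3 := by
      rcases Nat.lt_or_ge k 2 with h8 | h8
      · rw [hk]
        interval_cases k <;> norm_num
      · rw [hk] at h3
        have := Nat.pow_le_pow_right (show 0 < 3 by norm_num) h8
        omega
    rw [← h4]
    exact Nat.mul_le_mul_right _ h7
  obtain ⟨F, hF, hFc, hsum⟩ := sum_St S
  have hl : 12 * Nat.card S ≤ 3 * ∑ a ∈ dd, Nat.card (St S a) := by
    rw [Finset.mul_sum]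
    calc 12 * Nat.card S = ∑ a ∈ dd, Nat.card S := by rw [Finset.sum_const, card_dd, smul_eq_mul]
      _ ≤ _ := Finset.sum_le_sum horb
  have hy1 : y ≠ 1 := ne_one_of_order oy (by norm_num)
  have h1F : (1 : Equiv.Perm GolayPt) ∈ F := (hF 1).2 S.one_mem
  have hyF : y ∈ F.erase 1 := Finset.mem_erase.2 ⟨hy1, (hF y).2 hyS⟩
  have hr : ∑ e ∈ F, (dd ∩ Fx e).card ≤ 12 + 3 * (Nat.card S - 2) := by
    rw [← Finset.add_sum_erase F _ h1F, ← Finset.add_sum_erase (F.erase 1) _ hyF, fy]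
    have h7 : (dd ∩ Fx (1 : Equiv.Perm GolayPt)).card ≤ 12 := by
      rw [← card_dd]; exact Finset.card_le_card Finset.inter_subset_left
    have h8 : ∑ e ∈ (F.erase 1).erase y, (dd ∩ Fx e).card ≤ ((F.erase 1).erase y).card * 3 := by
      refine Finset.sum_le_card_nsmul _ _ _ fun e he => ?_
      rw [Finset.mem_erase, Finset.mem_erase] at he
      exact fx_le_three hS hcS ((hF e).1 he.2.2) he.2.1
    rw [Finset.card_erase_of_mem hyF, Finset.card_erase_of_mem h1F, hFc] at h8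
    omega
  rw [← hsum] at hr
  omega

end

section main

variable {X : Subgroup (Equiv.Perm GolayPt)}

theorem orb_eq_of_mem {a b : GolayPt} (h : b ∈ orb X a) : orb X b = orb X a := by
  obtain ⟨g, hg, rfl⟩ := mem_orb.1 h
  ext p
  rw [mem_orb, mem_orb]
  constructor
  · rintro ⟨k, hk, rfl⟩
    exact ⟨k * g, X.mul_mem hk hg, rfl⟩
  · rintro ⟨k, hk, rfl⟩
    refine ⟨k * g⁻¹, X.mul_mem hk (X.inv_mem hg), ?_⟩
    rw [Equiv.Perm.mul_apply, show g⁻¹ (g a) = a from Equiv.symm_apply_apply g a]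

theorem num2 {o f5 : ℕ} (m5 : o % 5 = f5 % 5) (m3 : o % 3 = 0) (l5 : f5 ≤ 2) (hle : o ≤ 12) (hpos : 0 < o) :
    o = 6 ∨ o = 12 := by
  interval_cases f5 <;> omega

theorem num3 {o : ℕ} (m5 : o % 5 = 1) (hle : o ≤ 11) (h11 : o ≠ 11) : o = 1 ∨ o = 6 := by
  omega

theorem num5 {o : ℕ} (m5 : o % 5 = 0) (hle : o ≤ 5) (hpos : 0 < o) : o = 5 := by
  omega

/-- transitivity on the dodecad -/
theorem trans_of (hX : X ≤ Spor.M12) {x y z : Equiv.Perm GolayPt} (hx : x ∈ X) (ox : orderOf x = 5) (hy : y ∈ X)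
    (hz : z ∈ X) (oy : orderOf y = 3) (oz : orderOf z = 3) (fy : (dd ∩ Fx y).card = 0)
    (fz : (dd ∩ Fx z).card = 3) : ∀ a ∈ dd, orb X a = dd := by
  have p3 : Fact (Nat.Prime 3) := ⟨by norm_num⟩
  have p5 : Fact (Nat.Prime 5) := ⟨by norm_num⟩
  have key : ∀ a ∈ dd, (orb X a).card = 6 ∨ (orb X a).card = 12 := by
    intro a ha
    have m5 := orb_mod (a := a) hx ox
    have m3 := orb_mod (a := a) hy oy
    have hsub := orb_sub hX ha
    have l5 : (orb X a ∩ Fx x).card ≤ 2 := by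
      rw [← fx5_dd (hX hx) ox]
      exact Finset.card_le_card (Finset.inter_subset_inter_right hsub)
    have l3 : (orb X a ∩ Fx y).card ≤ 0 := by
      rw [← fy]
      exact Finset.card_le_card (Finset.inter_subset_inter_right hsub)
    rw [Nat.le_zero.1 l3] at m3
    refine num2 m5 m3 l5 ?_ (orb_pos X a)
    rw [← card_dd]; exact Finset.card_le_card hsub
  by_cases h : ∃ a ∈ dd, (orb X a).card = 12
  · obtain ⟨a, ha, h12⟩ := h
    have h1 : orb X a = dd := Finset.eq_of_subset_of_card_le (orb_sub hX ha) (by rw [card_dd, h12])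
    intro b hb
    rw [← h1] at hb
    rw [orb_eq_of_mem hb, h1]
  · push Not at h
    exact (small_orbits hX (fun a ha => ((key a ha).resolve_right (h a ha)).le) hy hz oy oz fy fz).elim

/-- the orbits of point stabilizers under conjugation -/
theorem orb_St_map {g : Equiv.Perm GolayPt} (hg : g ∈ X) (a b : GolayPt) :
    (orb (St X (g a)) (g b)).card = (orb (St X a) b).card := by
  have h : orb (St X (g a)) (g b) = (orb (St X a) b).map g.toEmbedding := by
    ext p
    rw [Finset.mem_map_equiv, mem_orb, mem_orb]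
    have e1 : ∀ c, g⁻¹ (g c) = c := fun c => Equiv.symm_apply_apply g c
    have e2 : ∀ c, g (g⁻¹ c) = c := fun c => Equiv.apply_symm_apply g c
    constructor
    · rintro ⟨k, hk, rfl⟩
      refine ⟨g⁻¹ * k * g, ⟨X.mul_mem (X.mul_mem (X.inv_mem hg) hk.1) hg, ?_⟩, rfl⟩
      have h1 : k (g a) = g a := hk.2
      show g⁻¹ (k (g a)) = a
      rw [h1, e1]
    · rintro ⟨k, hk, h⟩
      refine ⟨g * k * g⁻¹, ⟨X.mul_mem (X.mul_mem hg hk.1) (X.inv_mem hg), ?_⟩, ?_⟩
      · have h1 : k a = a := hk.2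
        show g (k (g⁻¹ (g a))) = g a
        rw [e1, h1]
      · show g (k (g⁻¹ (g b))) = p
        rw [e1, h]
        exact e2 p
  rw [h, Finset.card_map]

theorem app_inv (g : Equiv.Perm GolayPt) (c : GolayPt) : g (g⁻¹ c) = c := Equiv.apply_symm_apply g c

theorem inv_app (g : Equiv.Perm GolayPt) (c : GolayPt) : g⁻¹ (g c) = c := Equiv.symm_apply_apply g c

/-- the suborbits of length 5 -/
noncomputable def Gm (X : Subgroup (Equiv.Perm GolayPt)) (a : GolayPt) : Finset GolayPt :=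
  dd.filter fun b => (orb (St X a) b).card = 5

theorem mem_Gm {a b : GolayPt} : b ∈ Gm X a ↔ b ∈ dd ∧ (orb (St X a) b).card = 5 := Finset.mem_filter

theorem Gm_map (hX : X ≤ Spor.M12) {g : Equiv.Perm GolayPt} (hg : g ∈ X) {a b : GolayPt} :
    g b ∈ Gm X (g a) ↔ b ∈ Gm X a := by
  rw [mem_Gm, mem_Gm, mem_dd_iff (hX hg), orb_St_map hg]

theorem card_St_mul (htr : ∀ a ∈ dd, orb X a = dd) {a : GolayPt} (ha : a ∈ dd) :
    12 * Nat.card (St X a) = Nat.card X := by
  have h := card_orb_mul X a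
  rwa [htr a ha, card_dd] at h

theorem St_St_comm (a b : GolayPt) : St (St X a) b = St (St X b) a := by
  ext g
  simp only [mem_St]
  tauto

theorem Gm_symm (htr : ∀ a ∈ dd, orb X a = dd) {a b : GolayPt} (ha : a ∈ dd) (hb : b ∈ Gm X a) :
    a ∈ Gm X b := by
  rw [mem_Gm] at hb ⊢
  refine ⟨ha, ?_⟩
  have h1 := card_orb_mul (St X a) b
  have h2 := card_orb_mul (St X b) a
  have h3 := card_St_mul htr ha
  have h4 := card_St_mul htr hb.1
  have h5 : Nat.card (St X a) = Nat.card (St X b) := by omega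
  rw [St_St_comm, h5, ← h2] at h1
  have h6 : 0 < Nat.card (St (St X b) a) := Nat.card_pos
  exact (Nat.eq_of_mul_eq_mul_right h6 h1).symm.trans hb.2

/-- an element of order 5 in the stabilizer of `a`, with the other fixed point `c` in a suborbit of length 6 -/
structure Good (X : Subgroup (Equiv.Perm GolayPt)) (a c : GolayPt) (x : Equiv.Perm GolayPt) : Prop where
  mem : x ∈ St X a
  ord : orderOf x = 5
  ha : a ∈ dd
  hc : c ∈ dd
  ne : c ≠ a
  fix : dd ∩ Fx x = {a, c}
  six : (orb (St X a) c).card = 6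

theorem five_fix (hX : X ≤ Spor.M12) {a : GolayPt} (ha : a ∈ dd) {x : Equiv.Perm GolayPt} (hx : x ∈ St X a)
    (ox : orderOf x = 5) : ∃ c ∈ dd, c ≠ a ∧ dd ∩ Fx x = {a, c} := by
  have h1 := fx5_dd (hX hx.1) ox
  have haF : a ∈ dd ∩ Fx x := Finset.mem_inter.2 ⟨ha, mem_Fx.2 hx.2⟩
  have h2 : ((dd ∩ Fx x).erase a).card = 1 := by rw [Finset.card_erase_of_mem haF, h1]
  obtain ⟨c, hc⟩ := Finset.card_eq_one.1 h2
  have hc' : c ∈ (dd ∩ Fx x).erase a := by rw [hc]; exact Finset.mem_singleton_self c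
  rw [Finset.mem_erase, Finset.mem_inter] at hc'
  refine ⟨c, hc'.2.1, hc'.1, ?_⟩
  rw [← Finset.insert_erase haF, hc]

theorem notMem_orb_St {a b : GolayPt} (h : b ≠ a) : a ∉ orb (St X a) b := by
  intro h1
  obtain ⟨g, hg, hga⟩ := mem_orb.1 h1
  have h2 : g a = a := hg.2
  exact h (g.injective (hga.trans h2.symm))

/-- the suborbit of the other fixed point of an element of order 5 -/
theorem one_or_six (hX : X ≤ Spor.M12) (h11 : ¬ 11 ∣ Nat.card X) {a c : GolayPt} (hc : c ∈ dd)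
    (hca : c ≠ a) (ha : a ∈ dd) {x : Equiv.Perm GolayPt} (hx : x ∈ St X a) (ox : orderOf x = 5) (hF : dd ∩ Fx x = {a, c}) :
    (orb (St X a) c).card = 1 ∨ (orb (St X a) c).card = 6 := by
  have p5 : Fact (Nat.Prime 5) := ⟨by norm_num⟩
  have hsub : orb (St X a) c ⊆ dd := orb_sub (inf_le_left.trans hX) hc
  have m5 := orb_mod (a := c) hx ox
  have h1 : orb (St X a) c ∩ Fx x = {c} := by
    ext p
    rw [Finset.mem_inter, Finset.mem_singleton]
    constructor
    · rintro ⟨h1, h2⟩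
      have h3 : p ∈ dd ∩ Fx x := Finset.mem_inter.2 ⟨hsub h1, h2⟩
      rw [hF, Finset.mem_insert, Finset.mem_singleton] at h3
      rcases h3 with rfl | rfl
      · exact absurd h1 (notMem_orb_St hca)
      · rfl
    · rintro rfl
      refine ⟨self_mem_orb _ _, ?_⟩
      have h3 : p ∈ dd ∩ Fx x := by rw [hF]; simp
      exact (Finset.mem_inter.1 h3).2
  rw [h1, Finset.card_singleton] at m5
  have h2 : (orb (St X a) c).card ≤ 11 := by
    have h3 : orb (St X a) c ⊆ dd.erase a := fun p hp =>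
      Finset.mem_erase.2 ⟨fun h => notMem_orb_St hca (h ▸ hp), hsub hp⟩
    have h4 := Finset.card_le_card h3
    rwa [Finset.card_erase_of_mem ha, card_dd] at h4
  refine num3 m5 h2 fun h => h11 ?_
  have h4 := card_orb_mul (St X a) c
  rw [h] at h4
  exact (Dvd.intro _ h4).trans (Subgroup.card_dvd_of_le inf_le_left)

theorem Good.gm_eq (hX : X ≤ Spor.M12) {a c : GolayPt} {x : Equiv.Perm GolayPt} (h : Good X a c x) :
    Gm X a = (dd.erase a) \ orb (St X a) c := by
  have p5 : Fact (Nat.Prime 5) := ⟨by norm_num⟩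
  have hsub : orb (St X a) c ⊆ dd := orb_sub (inf_le_left.trans hX) h.hc
  have hsub' : orb (St X a) c ⊆ dd.erase a := fun p hp =>
      Finset.mem_erase.2 ⟨fun h1 => notMem_orb_St h.ne (h1 ▸ hp), hsub hp⟩
  have hG : ((dd.erase a) \ orb (St X a) c).card = 5 := by
    rw [Finset.card_sdiff_of_subset hsub', Finset.card_erase_of_mem h.ha, card_dd, h.six]
  ext b
  rw [mem_Gm, Finset.mem_sdiff, Finset.mem_erase]
  constructor
  · rintro ⟨hb, h5⟩
    refine ⟨⟨?_, hb⟩, ?_⟩
    · rintro rfl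
      have h1 : orb (St X b) b = {b} := by
        ext p
        rw [mem_orb, Finset.mem_singleton]
        constructor
        · rintro ⟨g, hg, rfl⟩; exact hg.2
        · rintro rfl; exact ⟨1, one_mem _, rfl⟩
      rw [h1, Finset.card_singleton] at h5
      norm_num at h5
    · intro h1
      rw [orb_eq_of_mem h1, h.six] at h5
      norm_num at h5
  · rintro ⟨⟨hba, hb⟩, hbo⟩
    refine ⟨hb, ?_⟩
    have h1 : orb (St X a) b ⊆ (dd.erase a) \ orb (St X a) c := by
      intro p hp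
      rw [Finset.mem_sdiff, Finset.mem_erase]
      refine ⟨⟨fun h2 => notMem_orb_St hba (h2 ▸ hp), orb_sub (inf_le_left.trans hX) hb hp⟩, fun h2 => hbo ?_⟩
      rw [← orb_eq_of_mem h2, orb_eq_of_mem hp]
      exact self_mem_orb _ _
    have m5 := orb_mod (a := b) h.mem h.ord
    have h2 : orb (St X a) b ∩ Fx x = ∅ := by
      rw [Finset.eq_empty_iff_forall_notMem]
      intro p hp
      rw [Finset.mem_inter] at hp
      have h3 := h1 hp.1
      rw [Finset.mem_sdiff, Finset.mem_erase] at h3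
      have h4 : p ∈ dd ∩ Fx x := Finset.mem_inter.2 ⟨h3.1.2, hp.2⟩
      rw [h.fix, Finset.mem_insert, Finset.mem_singleton] at h4
      rcases h4 with rfl | rfl
      · exact h3.1.1 rfl
      · exact h3.2 (self_mem_orb _ _)
    rw [h2, Finset.card_empty] at m5
    exact num5 m5 (by rw [← hG]; exact Finset.card_le_card h1) (orb_pos _ _)

theorem Good.card_gm (hX : X ≤ Spor.M12) {a c : GolayPt} {x : Equiv.Perm GolayPt} (h : Good X a c x) :
    (Gm X a).card = 5 := by
  have hsub' : orb (St X a) c ⊆ dd.erase a := fun p hp =>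
      Finset.mem_erase.2 ⟨fun h1 => notMem_orb_St h.ne (h1 ▸ hp), orb_sub (inf_le_left.trans hX) h.hc hp⟩
  rw [h.gm_eq hX, Finset.card_sdiff_of_subset hsub', Finset.card_erase_of_mem h.ha, card_dd, h.six]

theorem self_notMem_Gm (a : GolayPt) : a ∉ Gm X a := by
  intro h
  rw [mem_Gm] at h
  have h1 : orb (St X a) a = {a} := by
    ext p
    rw [mem_orb, Finset.mem_singleton]
    constructor
    · rintro ⟨g, hg, rfl⟩; exact hg.2
    · rintro rfl; exact ⟨1, one_mem _, rfl⟩
  rw [h1, Finset.card_singleton] at h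
  exact absurd h.2 (by norm_num)

section good

variable (hX : X ≤ Spor.M12) (htr : ∀ a ∈ dd, orb X a = dd) (hg : ∀ a ∈ dd, ∃ c x, Good X a c x)

include hX htr hg

theorem Good.disj {a c : GolayPt} {x : Equiv.Perm GolayPt} (h : Good X a c x) : Gm X c ∩ Gm X a = ∅ := by
  have p5 : Fact (Nat.Prime 5) := ⟨by norm_num⟩
  have hxX : x ∈ X := h.mem.1
  have xa : x a = a := h.mem.2
  have xc : x c = c := by
    have h3 : c ∈ dd ∩ Fx x := by rw [h.fix]; simp
    exact mem_Fx.1 (Finset.mem_inter.1 h3).2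
  have hinv : ∀ q ∈ Gm X c ∩ Gm X a, x q ∈ Gm X c ∩ Gm X a := by
    intro q hq
    rw [Finset.mem_inter] at hq ⊢
    refine ⟨?_, ?_⟩
    · have := (Gm_map hX hxX (a := c) (b := q)).2 hq.1
      rwa [xc] at this
    · have := (Gm_map hX hxX (a := a) (b := q)).2 hq.2
      rwa [xa] at this
  have m := card_mod (p := 5) (by rw [← h.ord, pow_orderOf_eq_one]) _ hinv
  have h2 : (Gm X c ∩ Gm X a) ∩ Fx x = ∅ := by
    rw [Finset.eq_empty_iff_forall_notMem]
    intro p hp
    rw [Finset.mem_inter, Finset.mem_inter] at hp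
    have h3 := hp.1.2
    rw [h.gm_eq hX, Finset.mem_sdiff, Finset.mem_erase] at h3
    have h4 : p ∈ dd ∩ Fx x := Finset.mem_inter.2 ⟨h3.1.2, hp.2⟩
    rw [h.fix, Finset.mem_insert, Finset.mem_singleton] at h4
    rcases h4 with rfl | rfl
    · exact h3.1.1 rfl
    · exact h3.2 (self_mem_orb _ _)
  rw [h2, Finset.card_empty] at m
  have ca := h.card_gm hX
  obtain ⟨c2, x2, hc2⟩ := hg c h.hc
  have cc := hc2.card_gm hX
  by_contra hne
  have hpos : 0 < (Gm X c ∩ Gm X a).card := Finset.card_pos.2 (Finset.nonempty_iff_ne_empty.2 hne)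
  have hle : (Gm X c ∩ Gm X a).card ≤ 5 := by rw [← ca]; exact Finset.card_le_card Finset.inter_subset_right
  have h5 := num5 m hle hpos
  have e1 : Gm X c ∩ Gm X a = Gm X a := Finset.eq_of_subset_of_card_le Finset.inter_subset_right (by rw [ca, h5])
  have e2 : Gm X c ∩ Gm X a = Gm X c := Finset.eq_of_subset_of_card_le Finset.inter_subset_left (by rw [cc, h5])
  have e3 : Gm X c = Gm X a := e2.symm.trans e1
  obtain ⟨b, hb⟩ : (Gm X a).Nonempty := Finset.card_pos.1 (by omega)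
  have h6 : orb (St X a) c ⊆ Gm X b := by
    intro c' hc'
    obtain ⟨g, hg', rfl⟩ := mem_orb.1 hc'
    have hgX : g ∈ X := hg'.1
    have ga : g a = a := hg'.2
    have h7 : g⁻¹ b ∈ Gm X a := by
      rw [← Gm_map hX hgX, app_inv, ga]; exact hb
    rw [← e3, ← Gm_map hX hgX, app_inv] at h7
    exact Gm_symm htr (orb_sub (inf_le_left.trans hX) h.hc hc') h7
  obtain ⟨c3, x3, hc3⟩ := hg b (mem_Gm.1 hb).1
  have h8 := Finset.card_le_card h6
  rw [h.six, hc3.card_gm hX] at h8
  omega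

/-- the other block -/
theorem block_compl {a c' : GolayPt} (ha : a ∈ dd) (hc' : c' ∈ dd) (h1 : c' ≠ a) (h2 : c' ∉ Gm X a) :
    insert c' (Gm X c') = dd \ insert a (Gm X a) := by
  obtain ⟨c, x, h⟩ := hg a ha
  have hd := h.disj hX htr hg
  have h3 : c' ∈ orb (St X a) c := by
    by_contra h4
    apply h2
    rw [h.gm_eq hX, Finset.mem_sdiff, Finset.mem_erase]
    exact ⟨⟨h1, hc'⟩, h4⟩
  obtain ⟨g, hg', rfl⟩ := mem_orb.1 h3
  have hgX : g ∈ X := hg'.1
  have ga : g a = a := hg'.2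
  obtain ⟨c2, x2, hc2⟩ := hg (g c) hc'
  have cc := hc2.card_gm hX
  have ca := h.card_gm hX
  have hins : ∀ {b : GolayPt}, b ∈ dd → insert b (Gm X b) ⊆ dd := by
    intro b hb p hp
    rcases Finset.mem_insert.1 hp with rfl | hp
    · exact hb
    · exact (mem_Gm.1 hp).1
  refine Finset.eq_of_subset_of_card_le (fun p hp => ?_) ?_
  · rw [Finset.mem_sdiff]
    refine ⟨hins hc' hp, fun hp2 => ?_⟩
    rcases Finset.mem_insert.1 hp with rfl | hp
    · rcases Finset.mem_insert.1 hp2 with h5 | h5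
      · exact h1 h5
      · exact h2 h5
    · rcases Finset.mem_insert.1 hp2 with rfl | h5
      · exact h2 (Gm_symm htr hc' hp)
      · have h6 : g⁻¹ p ∈ Gm X c ∩ Gm X a := by
          rw [Finset.mem_inter, ← Gm_map hX hgX, ← Gm_map hX hgX (a := a), app_inv, ga]
          exact ⟨hp, h5⟩
        rw [hd] at h6
        exact Finset.notMem_empty _ h6
  · rw [Finset.card_sdiff_of_subset (hins ha), Finset.card_insert_of_notMem (self_notMem_Gm _),
      Finset.card_insert_of_notMem (self_notMem_Gm _), ca, cc, card_dd]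

/-- the same block -/
theorem block_eq {a b : GolayPt} (ha : a ∈ dd) (hb : b ∈ insert a (Gm X a)) :
    insert b (Gm X b) = insert a (Gm X a) := by
  rcases Finset.mem_insert.1 hb with rfl | hb'
  · rfl
  have hbd := (mem_Gm.1 hb').1
  obtain ⟨c, x, h⟩ := hg a ha
  obtain ⟨c2, x2, hc2⟩ := hg b hbd
  refine Finset.eq_of_subset_of_card_le (fun p hp => ?_) (by
    rw [Finset.card_insert_of_notMem (self_notMem_Gm _), Finset.card_insert_of_notMem (self_notMem_Gm _),
      h.card_gm hX, hc2.card_gm hX])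
  by_contra hpa
  have hpd : p ∈ dd := by
    rcases Finset.mem_insert.1 hp with rfl | hp
    · exact hbd
    · exact (mem_Gm.1 hp).1
  have h1 : p ≠ a := fun h1 => hpa (h1 ▸ Finset.mem_insert_self _ _)
  have h2 : p ∉ Gm X a := fun h2 => hpa (Finset.mem_insert_of_mem h2)
  have h3 := block_compl hX htr hg ha hpd h1 h2
  have h4 : b ∈ insert p (Gm X p) := by
    rcases Finset.mem_insert.1 hp with rfl | hp
    · exact Finset.mem_insert_self _ _
    · exact Finset.mem_insert_of_mem (Gm_symm htr hbd hp)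
  rw [h3, Finset.mem_sdiff] at h4
  exact h4.2 hb

/-- elements of order 3 respect the blocks -/
theorem block_inv {a : GolayPt} (ha : a ∈ dd) {g : Equiv.Perm GolayPt} (hgX : g ∈ X) (og : orderOf g = 3)
    {p : GolayPt} (_hp : p ∈ dd) : g p ∈ insert a (Gm X a) ↔ p ∈ insert a (Gm X a) := by
  have hK : ∀ b q, g q ∈ insert (g b) (Gm X (g b)) ↔ q ∈ insert b (Gm X b) := by
    intro b q
    rw [Finset.mem_insert, Finset.mem_insert, Gm_map hX hgX, g.injective.eq_iff]
  have hgd : ∀ {q}, q ∈ dd → g q ∈ dd := fun hq => inv_dd (hX hgX) _ hq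
  by_cases h : g a ∈ insert a (Gm X a)
  · have h1 := block_eq hX htr hg ha h
    rw [← hK a p, h1]
  · exfalso
    have h1 := block_compl hX htr hg ha (hgd ha) (fun h1 => h (by rw [h1]; exact Finset.mem_insert_self _ _))
      (fun h1 => h (Finset.mem_insert_of_mem h1))
    have h2 : g (g a) ∈ insert a (Gm X a) := by
      by_contra h3
      have h4 : g (g a) ∈ insert (g a) (Gm X (g a)) := by
        rw [h1, Finset.mem_sdiff]
        exact ⟨hgd (hgd ha), h3⟩
      exact h ((hK a (g a)).1 h4)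
    have h3 : g (g (g a)) = a := by
      have h4 : (g ^ 3) a = a := by rw [← og, pow_orderOf_eq_one]; rfl
      exact h4
    have h4 := (hK a (g (g a))).2 h2
    rw [h3, h1, Finset.mem_sdiff] at h4
    exact h4.2 (Finset.mem_insert_self _ _)

end good

/-- **No subgroup of `M₁₂` with both types of elements of order 3, an element of order 5, and order prime to 11.** -/
theorem false_of_3A3B (hX : X ≤ Spor.M12) (h11 : ¬ 11 ∣ Nat.card X) {x y z : Equiv.Perm GolayPt} (hx : x ∈ X)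
    (ox : orderOf x = 5) (hy : y ∈ X) (hz : z ∈ X) (oy : orderOf y = 3) (oz : orderOf z = 3)
    (fy : (dd ∩ Fx y).card = 0) (fz : (dd ∩ Fx z).card = 3) : False := by
  have p5 : Fact (Nat.Prime 5) := ⟨by norm_num⟩
  have htr := trans_of hX hx ox hy hz oy oz fy fz
  have h5 : 5 ∣ Nat.card X := by rw [← ox]; exact Subgroup.orderOf_dvd_natCard X hx
  have hSt : ∀ a ∈ dd, ∃ x ∈ St X a, orderOf x = 5 := by
    intro a ha
    exact exists_order (dvd_St (n := 12) Nat.prime_five h5 (by rw [htr a ha, card_dd]) (by norm_num))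
  by_cases hg : ∀ a ∈ dd, ∃ c x, Good X a c x
  · -- two blocks of size 6
    have ha := zero_mem_dd
    set B := insert (some 0) (Gm X (some 0)) with hB
    have hBc : B.card = 6 := by
      obtain ⟨c, x, h⟩ := hg _ ha
      rw [hB, Finset.card_insert_of_notMem (self_notMem_Gm _), h.card_gm hX]
    have hBd : B ⊆ dd := by
      intro p hp
      rcases Finset.mem_insert.1 hp with rfl | hp
      · exact ha
      · exact (mem_Gm.1 hp).1
    let Y : Subgroup (Equiv.Perm GolayPt) :=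
      { carrier := {g | g ∈ X ∧ ∀ p ∈ dd, g p ∈ B ↔ p ∈ B}
        mul_mem' := fun {g k} hg hk => ⟨X.mul_mem hg.1 hk.1, fun p hp =>
          (hg.2 (k p) (inv_dd (hX hk.1) p hp)).trans (hk.2 p hp)⟩
        one_mem' := ⟨X.one_mem, fun p _ => Iff.rfl⟩
        inv_mem' := fun {g} hg => ⟨X.inv_mem hg.1, fun p hp => by
          have h1 := hg.2 (g⁻¹ p) (inv_dd (hX (X.inv_mem hg.1)) p hp)
          rw [app_inv] at h1
          exact h1.symm⟩ }
    have hYX : Y ≤ X := fun g hg => hg.1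
    refine small_orbits (Y := Y) (hYX.trans hX) (fun a ha' => ?_) (y := y) (z := z)
      ⟨hy, fun p hp => block_inv hX htr hg ha hy oy hp⟩ ⟨hz, fun p hp => block_inv hX htr hg ha hz oz hp⟩ oy oz fy fz
    by_cases haB : a ∈ B
    · rw [← hBc]
      refine Finset.card_le_card fun p hp => ?_
      obtain ⟨g, hg, rfl⟩ := mem_orb.1 hp
      exact (hg.2 a ha').2 haB
    · have h1 : (dd \ B).card = 6 := by rw [Finset.card_sdiff_of_subset hBd, card_dd, hBc]
      rw [← h1]
      refine Finset.card_le_card fun p hp => ?_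
      obtain ⟨g, hg, rfl⟩ := mem_orb.1 hp
      rw [Finset.mem_sdiff]
      exact ⟨inv_dd (hX hg.1) a ha', fun h => haB ((hg.2 a ha').1 h)⟩
  · -- partners
    push Not at hg
    obtain ⟨a, ha, hno⟩ := hg
    obtain ⟨x', hx', ox'⟩ := hSt a ha
    obtain ⟨c, hc, hca, hF⟩ := five_fix hX ha hx' ox'
    have h1 : (orb (St X a) c).card = 1 := by
      rcases one_or_six hX h11 hc hca ha hx' ox' hF with h | h
      · exact h
      · exact absurd ⟨hx', ox', ha, hc, hca, hF, h⟩ (hno c x')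
    have hac := orb_one h1
    let P : GolayPt → GolayPt → Prop := fun a b => a ∈ dd ∧ b ∈ dd ∧ b ≠ a ∧ ∀ g ∈ St X a, g b = b
    have hun : ∀ a b b', P a b → P a b' → b = b' := by
      rintro a b b' ⟨ha, hb, hba, hbf⟩ ⟨-, hb', hba', hbf'⟩
      obtain ⟨y, hy, oy⟩ := hSt a ha
      obtain ⟨c, hc, hca, hF⟩ := five_fix hX ha hy oy
      have h1 : b ∈ dd ∩ Fx y := Finset.mem_inter.2 ⟨hb, mem_Fx.2 (hbf y hy)⟩
      have h2 : b' ∈ dd ∩ Fx y := Finset.mem_inter.2 ⟨hb', mem_Fx.2 (hbf' y hy)⟩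
      rw [hF, Finset.mem_insert, Finset.mem_singleton] at h1 h2
      rw [h1.resolve_left hba, h2.resolve_left hba']
    have hsy : ∀ a b, P a b → P b a := by
      rintro a b ⟨ha, hb, hba, hbf⟩
      refine ⟨hb, ha, hba.symm, fun g hg => ?_⟩
      have h1 : St X a ≤ St X b := fun g hg => ⟨hg.1, hbf g hg⟩
      have h2 : St X a = St X b := by
        refine Subgroup.eq_of_le_of_card_ge h1 (le_of_eq ?_)
        have h3 := card_St_mul htr ha
        have h4 := card_St_mul htr hb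
        omega
      rw [← h2] at hg
      exact hg.2
    have hex : ∀ b ∈ dd, ∃ d, P b d := by
      intro b hb
      have h2 : b ∈ orb X a := by rw [htr a ha]; exact hb
      obtain ⟨g, hg, rfl⟩ := mem_orb.1 h2
      refine ⟨g c, hb, inv_dd (hX hg) c hc, fun h => hca (g.injective h), fun k hk => ?_⟩
      have h3 : (g⁻¹ * k * g) c = c := by
        refine hac _ ⟨X.mul_mem (X.mul_mem (X.inv_mem hg) hk.1) hg, ?_⟩
        have h4 : k (g a) = g a := hk.2
        show g⁻¹ (k (g a)) = a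
        rw [h4, inv_app]
      have h4 : g⁻¹ (k (g c)) = c := h3
      rw [← app_inv g (k (g c)), h4]
    have hev : Even (dd ∩ Fx z).card := by
      refine even_of_partner P (fun b hb => ?_) (fun a b hab => hab.2.2.1.symm) hun hsy
      rw [Finset.mem_inter, mem_Fx] at hb
      obtain ⟨d, hd⟩ := hex b hb.1
      exact ⟨d, Finset.mem_inter.2 ⟨hd.2.1, mem_Fx.2 (hd.2.2.2 z ⟨hz, hb.2⟩)⟩, hd⟩
    rw [fz] at hev
    exact absurd hev (by decide)

end main

end Cfsg.Agent.H123.Der
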