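import Cfsg.Agent.H123.Der.ThreeTools

/-!
# `M₂₃` (S3502, helper123)
-/

set_option autoImplicit false

namespace Cfsg.Agent.H123.Der

open Subgroup Cfsg Cfsg.Agent.OrdDiv Cfsg.Agent.H257.El Cfsg.Agent.H439.Der Cfsg.Agent.H938.Sax
open Cfsg.Agent.H180.MEl Cfsg.Agent.H94.PG Cfsg.Agent.H94.PG.Sp
open Cfsg.Agent.H866.InvolType (fx fx_conj)

theorem num23 {o f7 : ℕ} (m11 : o % 11 = 1) (m7 : o % 7 = f7 % 7) (l7 : f7 ≤ 2) (hle : o ≤ 23) (h23 : o ≠ 23) :
    o = 1 := by
  interval_cases f7 <;> omega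

/-- a subgroup of `M₂₄` with a fixed point `t`, of order divisible by `77` but not by `23`, has another fixed point -/
theorem exists_fix {X : Subgroup (Equiv.Perm GolayPt)} (hX : X ≤ M24) {t : GolayPt} (ht : ∀ g ∈ X, g t = t)
    (h7 : 7 ∣ Nat.card X) (h11 : 11 ∣ Nat.card X) (h23 : ¬ 23 ∣ Nat.card X) :
    ∃ c, c ≠ t ∧ ∀ g ∈ X, g c = c := by
  have p11 : Fact (Nat.Prime 11) := ⟨by norm_num⟩
  have p7 : Fact (Nat.Prime 7) := ⟨by norm_num⟩
  obtain ⟨x11, hx11, o11⟩ := exists_order h11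
  obtain ⟨x7, hx7, o7⟩ := exists_order h7
  have hfix : ∀ g ∈ X, ∀ s ∈ ({t} : Finset GolayPt), g s = s := by
    intro g hg s hs
    rw [Finset.mem_singleton] at hs
    rw [hs]; exact ht g hg
  have hf := fx11 (hX hx11) o11
  have htF : t ∈ Fx x11 := mem_Fx.2 (ht _ hx11)
  have hc : ((Fx x11).erase t).card = 1 := by
    rw [Finset.card_erase_of_mem htF, card_Fx, hf]
  obtain ⟨c, hc⟩ := Finset.card_eq_one.1 hc
  have hc' : c ∈ (Fx x11).erase t := by rw [hc]; exact Finset.mem_singleton_self c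
  rw [Finset.mem_erase] at hc'
  have hcT : c ∉ ({t} : Finset GolayPt) := by
    rw [Finset.mem_singleton]; exact hc'.1
  have m11 := orb_mod (a := c) hx11 o11
  have m7 := orb_mod (a := c) hx7 o7
  have l11 := orb_fx_le hfix hcT hx11
  have l7 := orb_fx_le hfix hcT hx7
  have hle := orb_le hfix hcT
  rw [fx7 (hX hx7) o7, Finset.card_singleton] at l7
  rw [hf, Finset.card_singleton] at l11
  rw [Finset.card_singleton] at hle
  have hpos : 0 < (orb X c ∩ Fx x11).card :=
    Finset.card_pos.2 ⟨c, Finset.mem_inter.2 ⟨self_mem_orb X c, hc'.2⟩⟩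
  have he : (orb X c ∩ Fx x11).card = 1 := by omega
  rw [he] at m11
  have h23' : (orb X c).card ≠ 23 := by
    intro h
    apply h23
    rw [← card_orb_mul X c, h]
    exact dvd_mul_right _ _
  refine ⟨c, hc'.1, orb_one (num23 m11 m7 (by omega) (by omega) h23')⟩

/-- an element of order 14 of `M₂₄` has at most one fixed point -/
theorem fx_14 {g : Equiv.Perm GolayPt} (hg : g ∈ M24) (og : orderOf g = 14) : fx g ≤ 1 := by
  have p7 : Fact (Nat.Prime 7) := ⟨by norm_num⟩
  have o7 : orderOf (g ^ 2) = 7 := by rw [orderOf_pow_of_dvd (by norm_num) (by rw [og]; norm_num), og]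
  have o2 : orderOf (g ^ 7) = 2 := by rw [orderOf_pow_of_dvd (by norm_num) (by rw [og]; norm_num), og]
  have h1 := card_Fx_comm (p := 7) (x := g ^ 2) (y := g ^ 7) (by rw [← o7, pow_orderOf_eq_one])
    ((Commute.refl g).pow_pow 2 7)
  have h2 : (Fx (g ^ 2) ∩ Fx (g ^ 7)).card ≤ 3 := by
    rw [← fx7 (M24.pow_mem hg 2) o7, ← card_Fx]
    exact Finset.card_le_card Finset.inter_subset_left
  have h3 : fx g ≤ (Fx (g ^ 2) ∩ Fx (g ^ 7)).card := by
    rw [← card_Fx]
    refine Finset.card_le_card fun p hp => ?_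
    rw [mem_Fx] at hp
    rw [Finset.mem_inter, mem_Fx, mem_Fx]
    have key : ∀ n : ℕ, (g ^ n) p = p := by
      intro n
      induction n with
      | zero => rfl
      | succ n ih => rw [pow_succ, Equiv.Perm.mul_apply, hp, ih]
    exact ⟨key 2, key 7⟩
  unfold Nat.ModEq at h1
  rcases fx2 (M24.pow_mem hg 7) o2 with h4 | h4 <;> rw [h4] at h1 <;> omega

theorem three_M23 (tab : OrderTable.{0}) (known : Known.{0}) {R : Subgroup Spor.M23} (hR : R ≠ ⊤) :
    Three Spor.M23 R := by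
  have hc := Cfsg.Agent.SporadicA.MathieuRecog.card_M23
  have hfin : Finite Spor.M23 := Nat.finite_of_card_ne_zero (by rw [hc]; norm_num)
  have hle : Spor.M23 ≤ M24 := fun x hx => hx.1
  have p11 : (11 : ℕ).Prime := by norm_num
  have p23 : (23 : ℕ).Prime := by norm_num
  have p7 : (7 : ℕ).Prime := by norm_num
  have hno : ∀ s : ℕ, s.Prime → ¬ s ∣ 253 → ∀ z : Spor.M23, orderOf z ≠ 23 * s := fun s hs hd =>
    noOrd_of_norm p23 hs (D := 253) (fun _ hx => norm23_dvd hle hx) hd
  obtain ⟨z15, hz15⟩ := Cfsg.Agent.H180.KMathieu.hasOrd23 967757946574684196784273705387931784 15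
    (by decide +kernel) (by decide +kernel) (by decide +kernel)
  obtain ⟨z14, hz14⟩ := Cfsg.Agent.H180.KMathieu.hasOrd23 958433165127832649012232844291485801 14
    (by decide +kernel) (by decide +kernel) (by decide +kernel)
  have hn5 : ¬ SC Spor.M23 5 := not_SC_of_orderOf Nat.prime_five (y := z15) (by rw [hz15]; norm_num)
      (by rw [hz15]; norm_num)
  by_cases h23 : 23 ∣ Nat.card R
  · have h5 : ¬ 5 ∣ Nat.card R := fun h5 =>
      false_of_pair tab known (r := 23) (s := 5) [(2, 7), (3, 2), (5, 1), (7, 1), (11, 1), (23, 1)] hc p23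
        Nat.prime_five (hno 5 Nat.prime_five (by norm_num)) (by decide +kernel) hR h23 h5
    have h7 : ¬ 7 ∣ Nat.card R := fun h7 =>
      false_of_pair tab known (r := 23) (s := 7) [(2, 7), (3, 2), (5, 1), (7, 1), (11, 1), (23, 1)] hc p23
        p7 (hno 7 p7 (by norm_num)) (by decide +kernel) hR h23 h7
    exact Three.of_two_primes Nat.prime_five p7 (by norm_num) (by rw [hc]; norm_num) h5 h7 hn5
  have := Fact.mk p23
  obtain ⟨x, hx⟩ := exists_prime_orderOf_dvd_card' (G := Spor.M23) 23 (by rw [hc]; norm_num)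
  have hn23 : ¬ SC Spor.M23 23 := not_SC_of_conjPow p23 hx
    (conjPow_lt (D := 253) hc p23 hx (norm23_dvd hle hx) (by decide +kernel)) Cfsg.Agent.S2063.result
  by_cases h5 : 5 ∣ Nat.card R
  swap
  · exact Three.of_two_primes p23 Nat.prime_five (by norm_num) (by rw [hc]; norm_num) h23 h5 hn23
  by_cases h7 : 7 ∣ Nat.card R
  swap
  · exact Three.of_two_primes p23 p7 (by norm_num) (by rw [hc]; norm_num) h23 h7 hn23
  by_cases h11 : 11 ∣ Nat.card R
  swap
  · exact Three.of_two_primes p23 p11 (by norm_num) (by rw [hc]; norm_num) h23 h11 hn23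
  refine Three.of_not_SC_order (v := 23) h23 hn23 (z := z14) hz14 ?_ (by norm_num)
  intro m hm om
  set X : Subgroup (Equiv.Perm GolayPt) := R.map Spor.M23.subtype with hXdef
  have hcX : Nat.card X = Nat.card R := card_map_subtype R
  have hX : X ≤ M24 := by
    rintro _ ⟨g, -, rfl⟩
    exact hle g.2
  have ht : ∀ g ∈ X, g none = none := by
    rintro _ ⟨g, -, rfl⟩
    exact g.2.2
  obtain ⟨c, hcn, hcf⟩ := exists_fix hX ht (by rwa [hcX]) (by rwa [hcX]) (by rwa [hcX])
  have hmX : (m : Equiv.Perm GolayPt) ∈ X := Subgroup.mem_map_of_mem Spor.M23.subtype hm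
  have h14 := fx_14 (hX hmX) (by rw [Subgroup.orderOf_coe]; exact om)
  have h2 : ({none, c} : Finset GolayPt) ⊆ Fx (m : Equiv.Perm GolayPt) := by
    intro q hq
    rw [Finset.mem_insert, Finset.mem_singleton] at hq
    rw [mem_Fx]
    rcases hq with rfl | rfl
    · exact ht _ hmX
    · exact hcf _ hmX
  have h3 := Finset.card_le_card h2
  rw [Finset.card_pair hcn.symm, card_Fx] at h3
  omega

theorem rowS_m23_of (tab : OrderTable.{0}) (known : Known.{0}) {T : Type*} [Group T] (h : Cfsg.Spor.IsoM23 T) :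
    RowS T := by
  obtain ⟨e⟩ := h
  exact RowS.congr e.symm ⟨fun M hM => (three_M23 tab known hM.1).two, fun R hR _ => three_M23 tab known hR⟩

end Cfsg.Agent.H123.Der
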