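import Cfsg.Agent.H123.Der.ThreeMTwentyTwoCore
import Cfsg.Agent.J4Type.Aut22

/-!
# `M₂₂` (S3502, helper123)
-/

set_option autoImplicit false

namespace Cfsg.Agent.H123.Der

open Subgroup Cfsg Cfsg.Agent.OrdDiv Cfsg.Agent.H257.El Cfsg.Agent.H439.Der Cfsg.Agent.H938.Sax
open Cfsg.Agent.H180.MEl
open Cfsg.Agent.H866.InvolType (fx fx_conj)

/-- two classes of elements of order 7 under the automorphisms -/
theorem not_SC_seven : ¬ SC Spor.M22 7 := by
  intro hs
  have p7 : Fact (Nat.Prime 7) := ⟨by norm_num⟩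
  have hc := Cfsg.Agent.SporadicA.MathieuRecog.card_M22
  obtain ⟨x, hx⟩ := exists_prime_orderOf_dvd_card' (G := Spor.M22) 7 (by rw [hc]; norm_num)
  set x' : M24 := ⟨x, M22_le x.2⟩ with hx'
  have ox' : orderOf x' = 7 := by
    rw [← Subgroup.orderOf_coe]
    show orderOf (x : Equiv.Perm GolayPt) = 7
    rw [Subgroup.orderOf_coe, hx]
  have h1 := Cfsg.Agent.H865.Seven.main (zpowers x') (by rw [Nat.card_zpowers, ox'])
  have h2 := card_conjPow_mul x'
  have hC : centralizer ((zpowers x' : Subgroup M24) : Set M24) = centralizer ({x'} : Set M24) := by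
    rw [zpowers_eq_closure, centralizer_closure]
  rw [← hC, h1.1, h1.2.1] at h2
  have h3 : Nat.card (conjPow x') = 3 := by omega
  have h4 : ∃ y ∈ {y | y ∈ zpowers x' ∧ y ≠ 1}, y ∉ conjPow x' := by
    by_contra hcon
    push Not at hcon
    have h5 := Set.ncard_le_ncard (show {y | y ∈ zpowers x' ∧ y ≠ 1} ⊆ conjPow x' from hcon) (Set.toFinite _)
    rw [ncard_ne_one ox', ← Nat.card_coe_set_eq, h3] at h5
    omega
  obtain ⟨y, ⟨hy1, hy2⟩, hy3⟩ := h4
  obtain ⟨k, rfl⟩ := mem_zpowers_iff.1 hy1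
  have hxk : x ^ k ≠ 1 := by
    intro h
    apply hy2
    apply Subtype.ext
    have := congrArg Subtype.val h
    exact this
  have oy : orderOf (x ^ k) = 7 := by
    have h5 : orderOf (x ^ k) ∣ 7 := hx ▸ orderOf_dvd_of_mem_zpowers (zpow_mem (mem_zpowers x) k)
    rcases (Nat.dvd_prime p7.out).1 h5 with h6 | h6
    · exact absurd (orderOf_eq_one_iff.1 h6) hxk
    · exact h6
  obtain ⟨φ, hφ⟩ := hs x (x ^ k) (by rw [hx]) (by rw [oy])
  obtain ⟨h, hh, hc⟩ := Cfsg.Agent.J4Type.Aut22.exists_conj φ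
  have hhM : h ∈ M24 := ((Cfsg.Agent.J4Type.Aut22.mem_D22_iff h).1 hh).1
  apply hy3
  refine ⟨hy1, ⟨h, hhM⟩, Subtype.ext ?_⟩
  have h5 := hc x
  rw [hφ] at h5
  exact h5.symm

theorem num_a {c d m : ℕ} (hcd : c * d = 660 * m) (hm : m ∣ 96) (h11 : 11 ∣ d) (hd : d ∣ 55) (hc : c % 11 = 1) :
    m = 1 ∨ m = 12 := by
  obtain ⟨e, rfl⟩ := h11
  have he : e ∣ 5 := Nat.dvd_of_mul_dvd_mul_left (show 0 < 11 by norm_num) (by simpa using hd)
  have hm' : m ∈ Nat.divisors 96 := Nat.mem_divisors.2 ⟨hm, by norm_num⟩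
  rw [show Nat.divisors 96 = {1, 2, 3, 4, 6, 8, 12, 16, 24, 32, 48, 96} by decide +kernel] at hm'
  simp only [Finset.mem_insert, Finset.mem_singleton] at hm'
  rcases (Nat.dvd_prime (by norm_num)).1 he with rfl | rfl <;>
    rcases hm' with rfl | rfl | rfl | rfl | rfl | rfl | rfl | rfl | rfl | rfl | rfl | rfl <;> omega

theorem num_b {c d m : ℕ} (hcd : c * d = 2520 * m) (hm : m ∣ 16) (h7 : 7 ∣ d) (hd : d ∣ 21) (hc : c % 7 = 1) :
    m = 1 ∨ m = 8 := by
  obtain ⟨e, rfl⟩ := h7
  have he : e ∣ 3 := Nat.dvd_of_mul_dvd_mul_left (show 0 < 7 by norm_num) (by simpa using hd)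
  have hm' : m ∈ Nat.divisors 16 := Nat.mem_divisors.2 ⟨hm, by norm_num⟩
  rw [show Nat.divisors 16 = {1, 2, 4, 8, 16} by decide +kernel] at hm'
  simp only [Finset.mem_insert, Finset.mem_singleton] at hm'
  rcases (Nat.dvd_prime (by norm_num)).1 he with rfl | rfl <;>
    rcases hm' with rfl | rfl | rfl | rfl | rfl <;> omega

/-- orders of the subgroups of order divisible by 33, not by 7 -/
theorem card_11 (tab : OrderTable.{0}) (known : Known.{0}) {R : Subgroup Spor.M22} (hR : R ≠ ⊤)
    (h11 : 11 ∣ Nat.card R) (h3 : 3 ∣ Nat.card R) (h7 : ¬ 7 ∣ Nat.card R) :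
    Nat.card R = 660 ∨ Nat.card R = 7920 := by
  have p11 : (11 : ℕ).Prime := by norm_num
  have hc := Cfsg.Agent.SporadicA.MathieuRecog.card_M22
  have h660 : 660 ∣ Nat.card R := by
    refine dvd_of_pair tab known (r := 11) (s := 3) [(2, 7), (3, 2), (5, 1), (7, 1), (11, 1)] hc p11 Nat.prime_three
      (noOrd_of_norm p11 Nat.prime_three (D := 110) (fun _ hx => norm11_dvd M22_le hx) (by norm_num))
      (by decide +kernel) hR h11 h3
  have := Fact.mk p11
  obtain ⟨c, d, hcd, hd1, hd2, hc1⟩ := sylow_sub (p := 11) (n := 55) (H := R)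
    (factorization_of (k := 40320) (by norm_num) (by rw [hc]) (by norm_num) (by rw [hc]; norm_num)) h11
    (fun x hx => dvd_of_eq (norm11_M22 hx))
  have h1 : Nat.card R ∣ 443520 := hc ▸ Subgroup.card_subgroup_dvd_card R
  obtain ⟨m, hm⟩ := h660
  have hm96 : m ∣ 96 := by
    rw [hm] at h1 h7
    have h2 : 660 * m ∣ 660 * (7 * 96) := h1
    have h3 := Nat.dvd_of_mul_dvd_mul_left (by norm_num) h2
    have h4 : Nat.Coprime m 7 :=
      ((Nat.Prime.coprime_iff_not_dvd (by norm_num)).2 fun h => h7 (h.mul_left _)).symm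
    exact h4.dvd_of_dvd_mul_left h3
  unfold Nat.ModEq at hc1
  rcases num_a (hcd.trans hm) hm96 hd1 hd2 hc1 with rfl | rfl <;> omega

/-- orders of the subgroups of order divisible by 35 -/
theorem card_35 (tab : OrderTable.{0}) (known : Known.{0}) {R : Subgroup Spor.M22} (hR : R ≠ ⊤)
    (h7 : 7 ∣ Nat.card R) (h5 : 5 ∣ Nat.card R) (h11 : ¬ 11 ∣ Nat.card R) :
    Nat.card R = 2520 ∨ Nat.card R = 20160 := by
  have p7 : (7 : ℕ).Prime := by norm_num
  have hc := Cfsg.Agent.SporadicA.MathieuRecog.card_M22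
  have h2520 : 2520 ∣ Nat.card R := by
    refine dvd_of_pair tab known (r := 7) (s := 5) [(2, 7), (3, 2), (5, 1), (7, 1), (11, 1)] hc p7 Nat.prime_five
      (noOrd_of_norm p7 Nat.prime_five (D := 126) (fun _ hx => norm7_dvd M22_le hx) (by norm_num))
      (by decide +kernel) hR h7 h5
  have := Fact.mk p7
  obtain ⟨c, d, hcd, hd1, hd2, hc1⟩ := sylow_sub (p := 7) (n := 21) (H := R)
    (factorization_of (k := 63360) (by norm_num) (by rw [hc]) (by norm_num) (by rw [hc]; norm_num)) h7
    (fun x hx => dvd_of_eq (norm7_M22 hx))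
  have h1 : Nat.card R ∣ 443520 := hc ▸ Subgroup.card_subgroup_dvd_card R
  obtain ⟨m, hm⟩ := h2520
  have hm16 : m ∣ 16 := by
    rw [hm] at h1 h11
    have h2 : 2520 * m ∣ 2520 * (11 * 16) := h1
    have h3 := Nat.dvd_of_mul_dvd_mul_left (by norm_num) h2
    have h4 : Nat.Coprime m 11 :=
      ((Nat.Prime.coprime_iff_not_dvd (by norm_num)).2 fun h => h11 (h.mul_left _)).symm
    exact h4.dvd_of_dvd_mul_left h3
  unfold Nat.ModEq at hc1
  rcases num_b (hcd.trans hm) hm16 hd1 hd2 hc1 with rfl | rfl <;> omega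

theorem num_c {o f5 : ℕ} (m7 : o % 7 = 1) (m5 : o % 5 = f5 % 5) (l5 : f5 ≤ 2) (hle : o ≤ 22) (h22 : o ≠ 22) :
    o = 1 ∨ o = 15 := by
  interval_cases f5 <;> omega

theorem num_d {o : ℕ} (m7 : o % 7 = 0) (hle : o ≤ 7) (hpos : 0 < o) : o = 7 := by
  omega

/-- subgroups of order 20160 fix a third point -/
theorem fix_of_20160 {R : Subgroup Spor.M22} (hR : Nat.card R = 20160) :
    ∃ c, c ∉ TT ∧ ∀ g ∈ R.map Spor.M22.subtype, g c = c := by
  have p7 : Fact (Nat.Prime 7) := ⟨by norm_num⟩
  have p5 : Fact (Nat.Prime 5) := ⟨by norm_num⟩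
  set X : Subgroup (Equiv.Perm GolayPt) := R.map Spor.M22.subtype with hXdef
  have hX : X ≤ M24 := map_le_M24 R
  have hfix : ∀ g ∈ X, ∀ t ∈ TT, g t = t := map_fix R
  have hcX : Nat.card X = 20160 := (card_map_subtype R).trans hR
  obtain ⟨x, hx, ox⟩ := exists_order (X := X) (p := 7) (by rw [hcX]; norm_num)
  obtain ⟨x5, hx5, o5⟩ := exists_order (X := X) (p := 5) (by rw [hcX]; norm_num)
  obtain ⟨c, hc, hxc, hcf⟩ := seven_fix hX hfix hx ox
  have m7 := orb_mod (a := c) hx ox
  rw [hcf] at m7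
  have m5 := orb_mod (a := c) hx5 o5
  have l5 := orb_fx_le hfix hc hx5
  rw [fx5 (hX hx5) o5, card_TT] at l5
  have hle := orb_le hfix hc
  rw [card_TT] at hle
  have h22 : (orb X c).card ≠ 22 := by
    intro h
    have h1 := card_orb_mul X c
    rw [h, hcX] at h1
    omega
  rcases num_c m7 m5 (by omega) (by omega) h22 with h1 | h15
  · exact ⟨c, hc, orb_one h1⟩
  exfalso
  -- the other orbit
  obtain ⟨b, hb⟩ : ∃ b, b ∉ orb X c ∪ TT := by
    refine exists_notMem ?_
    rw [Finset.card_union_of_disjoint (orb_disj hfix hc), h15, card_TT]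
    norm_num
  rw [Finset.mem_union, not_or] at hb
  have hbc : Disjoint (orb X b) (orb X c) := by
    rw [Finset.disjoint_left]
    intro p hp hp'
    apply hb.1
    rw [← orb_eq_of_mem hp', orb_eq_of_mem hp]
    exact self_mem_orb X b
  have hb7 : (orb X b).card = 7 := by
    have m7b := orb_mod (a := b) hx ox
    have h1 : orb X b ∩ Fx x = ∅ := by
      rw [Finset.eq_empty_iff_forall_notMem]
      intro p hp
      rw [Finset.mem_inter] at hp
      have h2 : insert p (insert c TT) ⊆ Fx x := by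
        intro q hq
        rcases Finset.mem_insert.1 hq with rfl | hq
        · exact hp.2
        rcases Finset.mem_insert.1 hq with rfl | hq
        · exact mem_Fx.2 hxc
        · exact mem_Fx.2 (hfix x hx q hq)
      have h3 := Finset.card_le_card h2
      rw [Finset.card_insert_of_notMem (by
          rw [Finset.mem_insert, not_or]
          exact ⟨fun h => Finset.disjoint_left.1 hbc hp.1 (h ▸ self_mem_orb X c),
            fun h => Finset.disjoint_left.1 (orb_disj hfix hb.2) hp.1 h⟩),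
        Finset.card_insert_of_notMem hc, card_TT, card_Fx, fx7 (hX hx) ox] at h3
      omega
    rw [h1, Finset.card_empty] at m7b
    refine num_d m7b ?_ (orb_pos X b)
    have h2 : (orb X b ∪ (orb X c ∪ TT)).card ≤ 24 := (Finset.card_le_univ _).trans (by simp)
    rw [Finset.card_union_of_disjoint (Finset.disjoint_union_right.2 ⟨hbc, orb_disj hfix hb.2⟩),
      Finset.card_union_of_disjoint (orb_disj hfix hc), h15, card_TT] at h2
    omega
  -- the action on the orbit of length 7 is faithful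
  have hst : ∀ g : X, ∀ p, (g : Equiv.Perm GolayPt) p ∈ orb X b ↔ p ∈ orb X b := by
    intro g p
    refine ⟨fun h => ?_, orb_inv g.2 p⟩
    have h1 := orb_inv (X.inv_mem g.2) _ h
    rwa [inv_app] at h1
  let ρ : X →* Equiv.Perm ↥(orb X b) :=
    { toFun := fun g => (g : Equiv.Perm GolayPt).subtypePerm (hst g)
      map_one' := rfl
      map_mul' := fun _ _ => rfl }
  have hinj : Function.Injective ρ := by
    rw [injective_iff_map_eq_one]
    intro g hg
    by_contra hne
    have h1 := fx_le_eight (hX g.2) (fun h => hne (Subtype.ext h))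
    have h2 : orb X b ∪ TT ⊆ Fx (g : Equiv.Perm GolayPt) := by
      intro p hp
      rw [mem_Fx]
      rcases Finset.mem_union.1 hp with h | h
      · have h3 : ((ρ g ⟨p, h⟩ : ↥(orb X b)) : GolayPt) = p := by rw [hg]; rfl
        exact h3
      · exact hfix g g.2 p h
    have h3 := Finset.card_le_card h2
    rw [Finset.card_union_of_disjoint (orb_disj hfix hb.2), hb7, card_TT, card_Fx] at h3
    omega
  have h1 := Subgroup.card_dvd_of_injective ρ hinj
  rw [hcX, Nat.card_eq_fintype_card, Fintype.card_perm, Fintype.card_coe, hb7] at h1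
  exact absurd h1 (by decide)

theorem num_e {o s : ℕ} (h : o * s = 360) (m5 : o % 5 = 1) (hle : o ≤ 21) : o = 1 ∨ o = 6 := by
  have h1 : o ∣ 360 := Dvd.intro _ h
  have h2 : o ∈ (Finset.range 22).filter (fun o => o ∣ 360 ∧ o % 5 = 1) :=
    Finset.mem_filter.2 ⟨Finset.mem_range.2 (by omega), h1, m5⟩
  rw [show (Finset.range 22).filter (fun o => o ∣ 360 ∧ o % 5 = 1) = {1, 6} by decide +kernel] at h2
  simpa using h2

theorem num_f {o s : ℕ} (h : o * s = 9) (h1 : o ≠ 1) (hle : o ≤ 6) : s = 3 := by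
  have h2 : o ∣ 9 := Dvd.intro _ h
  have h3 : o ∈ Nat.divisors 9 := Nat.mem_divisors.2 ⟨h2, by norm_num⟩
  rw [show Nat.divisors 9 = {1, 3, 9} by decide] at h3
  simp only [Finset.mem_insert, Finset.mem_singleton] at h3
  rcases h3 with rfl | rfl | rfl <;> omega

/-- no subgroups of order 7920 with elements of order 8 -/
theorem false_of_7920 {R : Subgroup Spor.M22} (hR : Nat.card R = 7920) (hG : Cfsg.IsM11 R) {v : Spor.M22} (hv : v ∈ R)
    (ov : orderOf v = 8) : False := by
  have p3 : Fact (Nat.Prime 3) := ⟨by norm_num⟩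
  have p5 : Fact (Nat.Prime 5) := ⟨by norm_num⟩
  have p11 : Fact (Nat.Prime 11) := ⟨by norm_num⟩
  set X : Subgroup (Equiv.Perm GolayPt) := R.map Spor.M22.subtype with hXdef
  have hX : X ≤ M24 := map_le_M24 R
  have hfix : ∀ g ∈ X, ∀ t ∈ TT, g t = t := map_fix R
  have hcX : Nat.card X = 7920 := (card_map_subtype R).trans hR
  have hmem : ∀ {g : Spor.M22}, g ∈ R → (g : Equiv.Perm GolayPt) ∈ X := fun h =>
    Subgroup.mem_map_of_mem Spor.M22.subtype h
  -- transitivity on the 22 points
  obtain ⟨x11, hx11, o11⟩ := exists_order (X := X) (p := 11) (by rw [hcX]; norm_num)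
  have h22 : ∀ a, a ∉ TT → (orb X a).card = 22 := by
    intro a ha
    have m11 := orb_mod (a := a) hx11 o11
    have l11 := orb_fx_le hfix ha hx11
    rw [fx11 (hX hx11) o11, card_TT] at l11
    have he := orb_even hX hfix (hmem hv) (by rw [Subgroup.orderOf_coe, ov]) ha
    have hle := orb_le hfix ha
    rw [card_TT] at hle
    have hpos := orb_pos X a
    unfold Nat.ModEq at m11
    omega
  have h360 : ∀ a, a ∉ TT → Nat.card (St X a) = 360 := by
    intro a ha
    have h1 := card_orb_mul X a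
    rw [h22 a ha, hcX] at h1
    omega
  -- a Sylow 3-subgroup
  obtain ⟨P⟩ : Nonempty (Sylow 3 R) := inferInstance
  have hcP : Nat.card (P : Subgroup R) = 9 := Cfsg.Agent.SporadicA.M11Three.card_P hG P
  set E : Subgroup (Equiv.Perm GolayPt) := (P : Subgroup R).map (Spor.M22.subtype.comp R.subtype) with hE
  have hEinj : Function.Injective (Spor.M22.subtype.comp R.subtype) :=
    Spor.M22.subtype_injective.comp R.subtype_injective
  have hcE : Nat.card E = 9 := by rw [hE, card_map_of_injective hEinj, hcP]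
  have hEX : E ≤ X := by
    rintro _ ⟨g, -, rfl⟩
    exact hmem g.2
  have h3E : ∀ e ∈ E, e ≠ 1 → fx e = 6 := by
    rintro e he he1
    obtain ⟨g, hg, rfl⟩ := he
    have h3 := Cfsg.Agent.SporadicA.M11Facts2.pow_three_eq_one hG P hg
    have o3 : orderOf ((Spor.M22.subtype.comp R.subtype) g) = 3 := by
      refine orderOf_eq_prime ?_ he1
      rw [← map_pow, h3, map_one]
    refine (fx3 (hX (hmem g.2)) o3).resolve_right fun h0 => ?_
    exact no_fix h0 none (hfix _ (hmem g.2) none (by decide))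
  -- its fixed points
  classical
  set F : Finset GolayPt := Finset.univ.filter (fun p => ∀ e ∈ E, e p = p) with hF
  have hmF : ∀ p, p ∈ F ↔ ∀ e ∈ E, e p = p := fun p => by rw [hF, Finset.mem_filter]; simp
  have hTF : TT ⊆ F := fun t ht => (hmF t).2 fun e he => hfix e (hEX he) t ht
  have hE3 : IsPGroup 3 E := IsPGroup.of_card (n := 2) (by rw [hcE]; norm_num)
  have hF3 : 24 ≡ F.card [MOD 3] := by
    have h1 := hE3.card_modEq_card_fixedPoints (α := GolayPt)
    have h2 : Nat.card (MulAction.fixedPoints E GolayPt) = F.card := by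
      rw [← Fintype.card_coe, ← Nat.card_eq_fintype_card]
      refine Nat.card_congr (Equiv.subtypeEquivRight fun p => ?_)
      rw [hmF]
      exact ⟨fun h e he => h ⟨e, he⟩, fun h e => h e.1 e.2⟩
    rw [h2, Nat.card_eq_fintype_card] at h1
    exact h1
  obtain ⟨e0, he0, he01⟩ : ∃ e ∈ E, e ≠ 1 := by
    by_contra hcon
    push Not at hcon
    have h1 : E = ⊥ := (Subgroup.eq_bot_iff_forall E).2 hcon
    rw [h1, Subgroup.card_bot] at hcE
    norm_num at hcE
  have hF6 : F.card ≤ 6 := by
    rw [← h3E e0 he0 he01, ← card_Fx]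
    exact Finset.card_le_card fun p hp => mem_Fx.2 ((hmF p).1 hp e0 he0)
  have hF2 : 2 ≤ F.card := by rw [← card_TT]; exact Finset.card_le_card hTF
  unfold Nat.ModEq at hF3
  obtain ⟨a, haF, haT⟩ : ∃ a ∈ F, a ∉ TT := by
    by_contra hcon
    push Not at hcon
    have h1 := Finset.card_le_card (show F ⊆ TT from hcon)
    rw [card_TT] at h1
    omega
  -- three fixed points are impossible
  have hF6' : F.card = 6 := by
    by_contra hne
    have hF3' : F.card = 3 := by omega
    have hFe : F = insert a TT := by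
      refine (Finset.eq_of_subset_of_card_le (fun p hp => ?_) ?_).symm
      · rcases Finset.mem_insert.1 hp with rfl | hp
        · exact haF
        · exact hTF hp
      · rw [hF3', Finset.card_insert_of_notMem haT, card_TT]
    have hN := Cfsg.Agent.SporadicA.M11Norm3.card_normalizer_three hG P
    have hle : (normalizer ((P : Subgroup R) : Set R)).map (Spor.M22.subtype.comp R.subtype) ≤ St X a := by
      rintro _ ⟨n, hn, rfl⟩
      have hnX : (Spor.M22.subtype.comp R.subtype) n ∈ X := hmem n.2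
      refine ⟨hnX, ?_⟩
      show (Spor.M22.subtype.comp R.subtype) n a = a
      set n' := (Spor.M22.subtype.comp R.subtype) n with hn'
      have h1 : n' a ∈ F := by
        rw [hmF]
        rintro e ⟨g, hg, rfl⟩
        have h2 : n⁻¹ * g * n ∈ (P : Subgroup R) := by
          have h3 := (mem_normalizer_iff.1 (Subgroup.inv_mem _ hn) g).1 hg
          rwa [inv_inv] at h3
        have h3 := (hmF a).1 haF _ (Subgroup.mem_map_of_mem (Spor.M22.subtype.comp R.subtype) h2)
        rw [map_mul, map_mul, map_inv, ← hn'] at h3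
        have h4 : n'⁻¹ ((Spor.M22.subtype.comp R.subtype) g (n' a)) = a := h3
        rw [← app_inv n' ((Spor.M22.subtype.comp R.subtype) g (n' a)), h4]
      rw [hFe, Finset.mem_insert] at h1
      rcases h1 with h1 | h1
      · exact h1
      · exact absurd h1 (Finset.disjoint_left.1 (orb_disj hfix haT) (mem_orb.2 ⟨n', hnX, rfl⟩))
    have h1 := Subgroup.card_dvd_of_le hle
    rw [card_map_of_injective hEinj, hN, h360 a haT] at h1
    norm_num at h1
  -- the stabilizer of `a`
  set Y := St X a with hY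
  have hYX : Y ≤ X := inf_le_left
  have hcY : Nat.card Y = 360 := h360 a haT
  have hEY : E ≤ Y := fun e he => ⟨hEX he, (hmF a).1 haF e he⟩
  obtain ⟨x5, hx5, o5⟩ := exists_order (X := Y) (p := 5) (by rw [hcY]; norm_num)
  have hS : (insert a TT).card = 3 := by rw [Finset.card_insert_of_notMem haT, card_TT]
  have hfixS : ∀ g ∈ Y, ∀ t ∈ insert a TT, g t = t := by
    intro g hg t ht
    rcases Finset.mem_insert.1 ht with rfl | ht
    · exact hg.2
    · exact hfix g (hYX hg) t ht
  have hSF : insert a TT ⊆ Fx x5 := fun t ht => mem_Fx.2 (hfixS x5 hx5 t ht)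
  obtain ⟨c, hc⟩ : (Fx x5 \ insert a TT).Nonempty := by
    rw [← Finset.card_pos, Finset.card_sdiff_of_subset hSF, hS, card_Fx, fx5 (hX (hYX hx5)) o5]
    norm_num
  rw [Finset.mem_sdiff] at hc
  have m5 := orb_mod (a := c) hx5 o5
  have l5 := orb_fx_le hfixS hc.2 hx5
  rw [fx5 (hX (hYX hx5)) o5, hS] at l5
  have hle := orb_le hfixS hc.2
  rw [hS] at hle
  have hpos : 0 < (orb Y c ∩ Fx x5).card :=
    Finset.card_pos.2 ⟨c, Finset.mem_inter.2 ⟨self_mem_orb Y c, hc.1⟩⟩
  have he1 : (orb Y c ∩ Fx x5).card = 1 := by omega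
  rw [he1] at m5
  rcases num_e ((card_orb_mul Y c).trans hcY) m5 (by omega) with h1 | h6
  · -- four fixed points
    have h2 := orb_one h1
    have h3 := card_dvd_four (X := Y) (hYX.trans hX) (T := insert c (insert a TT))
      (by rw [Finset.card_insert_of_notMem hc.2, hS]) (fun g hg t ht => by
        rcases Finset.mem_insert.1 ht with rfl | ht
        · exact h2 g hg
        · exact hfixS g hg t ht)
    rw [hcY] at h3
    norm_num at h3
  · -- a point of the orbit not fixed by `E`
    obtain ⟨p, hp, hpF⟩ : ∃ p ∈ orb Y c, p ∉ F := by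
      by_contra hcon
      push Not at hcon
      have h1 : orb Y c ∪ insert a TT ⊆ F := by
        intro q hq
        rcases Finset.mem_union.1 hq with hq | hq
        · exact hcon q hq
        · rcases Finset.mem_insert.1 hq with rfl | hq
          · exact haF
          · exact hTF hq
      have h2 := Finset.card_le_card h1
      rw [Finset.card_union_of_disjoint (orb_disj hfixS hc.2), h6, hS, hF6'] at h2
      omega
    have h7 : (orb E p).card ≤ 6 := by
      rw [← h6]
      refine Finset.card_le_card fun q hq => ?_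
      obtain ⟨e, he, rfl⟩ := mem_orb.1 hq
      exact orb_inv (hEY he) p hp
    have h8 : (orb E p).card ≠ 1 := fun h => hpF ((hmF p).2 (orb_one h))
    have h9 := num_f ((card_orb_mul E p).trans hcE) h8 h7
    obtain ⟨e, he, oe⟩ := exists_order (X := St E p) (p := 3) (by rw [h9])
    have he1 : e ≠ 1 := ne_one_of_order oe (by norm_num)
    have h10 : insert p F ⊆ Fx e := by
      intro q hq
      rw [mem_Fx]
      rcases Finset.mem_insert.1 hq with rfl | hq
      · exact he.2
      · exact (hmF q).1 hq e he.1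
    have h11 := Finset.card_le_card h10
    rw [Finset.card_insert_of_notMem hpF, card_Fx, h3E e he.1 he1, hF6'] at h11
    omega

theorem iso11_M22 : Iso11 Spor.M22 := by
  intro x y hxy hx hy
  have p11 : Fact (Nat.Prime 11) := ⟨by norm_num⟩
  have h1 : y ∈ normalizer (zpowers x : Set Spor.M22) := mem_normalizer_of_commute hxy
  have h2 := Subgroup.orderOf_dvd_natCard _ h1
  rw [norm11_M22 hx, show 55 = 5 * 11 by norm_num] at h2
  rcases (Nat.Prime.dvd_mul hy).1 h2 with h3 | h3
  · exfalso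
    have o5 : orderOf y = 5 := (Nat.prime_dvd_prime_iff_eq hy Nat.prime_five).1 h3
    have hxM : (x : Equiv.Perm GolayPt) ∈ M24 := M22_le x.2
    have hyM : (y : Equiv.Perm GolayPt) ∈ M24 := M22_le y.2
    have ox : orderOf (x : Equiv.Perm GolayPt) = 11 := by rw [Subgroup.orderOf_coe, hx]
    have oy : orderOf (y : Equiv.Perm GolayPt) = 5 := by rw [Subgroup.orderOf_coe, o5]
    have h4 := card_Fx_comm (p := 11) (x := (x : Equiv.Perm GolayPt)) (y := (y : Equiv.Perm GolayPt))
      (by rw [← ox, pow_orderOf_eq_one]) (congrArg Subtype.val hxy)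
    have h5 : (Fx (x : Equiv.Perm GolayPt) ∩ Fx (y : Equiv.Perm GolayPt)).card ≤ (Fx (x : Equiv.Perm GolayPt)).card :=
      Finset.card_le_card Finset.inter_subset_left
    rw [card_Fx, fx11 hxM ox] at h5
    rw [fx5 hyM oy] at h4
    unfold Nat.ModEq at h4
    omega
  · exact (Nat.prime_dvd_prime_iff_eq hy p11.out).1 h3

/-- an element of order 8 -/
theorem exists_8 : ∃ v : Spor.M22, orderOf v = 8 := Cfsg.Agent.H180.KMathieu.ord22_8

theorem three_M22 (tab : OrderTable.{0}) (known : Known.{0}) {R : Subgroup Spor.M22} (hR : R ≠ ⊤) :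
    Three Spor.M22 R ∨ (7 ∣ Nat.card R ∧ 5 ∣ Nat.card R ∧ ¬ 11 ∣ Nat.card R ∧ Two Spor.M22 R) := by
  have hc := Cfsg.Agent.SporadicA.MathieuRecog.card_M22
  have p11 : (11 : ℕ).Prime := by norm_num
  have p7 : (7 : ℕ).Prime := by norm_num
  obtain ⟨v8, hv8⟩ := exists_8
  obtain ⟨x5, hx5⟩ := have := Fact.mk Nat.prime_five
    exists_prime_orderOf_dvd_card' (G := Spor.M22) 5 (by rw [hc]; norm_num)
  obtain ⟨x11, hx11⟩ := have := Fact.mk p11
    exists_prime_orderOf_dvd_card' (G := Spor.M22) 11 (by rw [hc]; norm_num)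
  have hno : ∀ z : Spor.M22, orderOf z ≠ 11 * 7 :=
    noOrd_of_norm p11 p7 (D := 110) (fun _ hx => norm11_dvd M22_le hx) (by norm_num)
  have hnd : ∀ {n k : ℕ}, k ∣ n → ¬ k ∣ Nat.card R → ∀ m ∈ R, orderOf m ≠ n := by
    intro n k hk hn m hm ho
    exact hn ((ho ▸ hk).trans (Subgroup.orderOf_dvd_natCard R hm))
  by_cases h7 : 7 ∣ Nat.card R
  · have h11 : ¬ 11 ∣ Nat.card R := fun h11 =>
      false_of_pair tab known (r := 11) (s := 7) [(2, 7), (3, 2), (5, 1), (7, 1), (11, 1)] hc p11 p7 hno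
        (by decide +kernel) hR h11 h7
    have h8 : ∀ m ∈ R, orderOf m ≠ 8 := fun m hm om => false_of_7_8 h7 h11 hm om
    by_cases h5 : 5 ∣ Nat.card R
    · exact Or.inr ⟨h7, h5, h11, Two.of_orders (a := 8) (b := 11) (by norm_num) hv8 hx11 h8
        (hnd (dvd_refl 11) h11)⟩
    · exact Or.inl (Three.of_orders (a := 5) (b := 8) (c := 11) (by norm_num) (by norm_num) (by norm_num) hx5 hv8 hx11
        (hnd (dvd_refl 5) h5) h8 (hnd (dvd_refl 11) h11))
  left
  by_cases h11 : 11 ∣ Nat.card R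
  swap
  · exact Three.of_two_primes p7 p11 (by norm_num) (by rw [hc]; norm_num) h7 h11 not_SC_seven
  by_cases h3 : 3 ∣ Nat.card R
  swap
  · exact Three.of_two_primes p7 Nat.prime_three (by norm_num) (by rw [hc]; norm_num) h7 h3 not_SC_seven
  refine Three.of_not_SC_order (v := 7) h7 not_SC_seven hv8 ?_ (by norm_num)
  rcases card_11 tab known hR h11 h3 h7 with h | h
  · exact hnd (dvd_refl 8) (by rw [h]; norm_num)
  · intro m hm om
    have hG : Cfsg.IsM11 R := ⟨isSimple_of_iso11 (iso11_M22.sub R) (Or.inr h), h⟩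
    exact false_of_7920 h hG hm om

theorem rowS_M22 (tab : OrderTable.{0}) (known : Known.{0}) : RowS Spor.M22 := by
  refine RowS.of_coatoms fun M hM => ?_
  rcases three_M22 tab known hM.1 with h | ⟨h7, h5, h11, h2⟩
  · exact Or.inl h
  refine Or.inr ⟨h2, fun R hR => ?_⟩
  rcases three_M22 tab known (ne_top_of_lt hR) with h3 | ⟨k7, k5, k11, -⟩
  · exact h3
  exfalso
  have hlt : Nat.card R < Nat.card M := by
    refine lt_of_le_of_ne (Subgroup.card_le_of_le hR.le) fun h => ?_
    exact hR.ne (Subgroup.eq_of_le_of_card_ge hR.le h.ge)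
  rcases card_35 tab known hM.1 h7 h5 h11 with hcM | hcM <;>
    rcases card_35 tab known (ne_top_of_lt hR) k7 k5 k11 with hcR | hcR
  · omega
  · omega
  · obtain ⟨c, hc, hcf⟩ := fix_of_20160 hcM
    have h1 := m21 (X := R.map Spor.M22.subtype) (map_le_M24 R) (T := insert c TT)
      (by rw [Finset.card_insert_of_notMem hc, card_TT])
      (fun g hg t ht => by
        rcases Finset.mem_insert.1 ht with rfl | ht
        · exact hcf g (Subgroup.map_mono hR.le hg)
        · exact map_fix R g hg t ht) (by rwa [card_map_subtype]) (by rwa [card_map_subtype])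
    rw [card_map_subtype, hcR] at h1
    norm_num at h1
  · omega

theorem rowS_m22_of (tab : OrderTable.{0}) (known : Known.{0}) {T : Type*} [Group T] (h : Cfsg.Spor.IsoM22 T) :
    RowS T := by
  obtain ⟨e⟩ := h
  exact RowS.congr e.symm (rowS_M22 tab known)

end Cfsg.Agent.H123.Der
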