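import Cfsg.Agent.H123.Der.ThreeMEleven
import Cfsg.Agent.H123.Der.ThreeMTwelveCore
import Cfsg.Agent.J4Type.FusionM22
import Cfsg.Agent.J4Type.InvFix
import Cfsg.Agent.S0381
import Cfsg.Agent.H123.Der.MTwentyTwo
import Cfsg.Agent.SporadicA.M11Norm3
import Cfsg.Agent.SporadicA.M11Facts2

/-!
# Elements of order 8 of `M₂₄` and subgroups of `M₂₂` containing them (S3502, helper123)
-/

set_option autoImplicit false

namespace Cfsg.Agent.H123.Der

open Subgroup Cfsg
open Cfsg.Agent.H180.MEl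
open Cfsg.Agent.H866.InvolType (fx fx_conj)

section perm

variable {α : Type*} [Fintype α] [DecidableEq α]

/-- a permutation with a single nontrivial cycle, of even length `2 ^ (k + 1)` -/
theorem sign_neg {k : ℕ} {σ : Equiv.Perm α} (h1 : σ ^ 2 ^ (k + 1) = 1) (h2 : σ ^ 2 ^ k ≠ 1)
    (hs : σ.support.card < 2 ^ (k + 1) + 2) : Equiv.Perm.sign σ = -1 := by
  have hd : ∀ n ∈ σ.cycleType, n ∣ 2 ^ (k + 1) := fun n hn =>
    (Equiv.Perm.dvd_of_mem_cycleType hn).trans (orderOf_dvd_of_pow_eq_one h1)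
  have hmem : 2 ^ (k + 1) ∈ σ.cycleType := by
    by_contra hno
    apply h2
    rw [← orderOf_dvd_iff_pow_eq_one, ← Equiv.Perm.lcm_cycleType, Multiset.lcm_dvd]
    intro n hn
    obtain ⟨j, hj, rfl⟩ := (Nat.dvd_prime_pow Nat.prime_two).1 (hd n hn)
    rcases Nat.lt_or_ge j (k + 1) with h3 | h3
    · exact pow_dvd_pow 2 (by omega)
    · have h4 : j = k + 1 := by omega
      rw [h4] at hn
      exact absurd hn hno
  obtain ⟨s, hs'⟩ := Multiset.exists_cons_of_mem hmem
  have hsum : 2 ^ (k + 1) + s.sum = σ.support.card := by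
    rw [← Equiv.Perm.sum_cycleType, hs', Multiset.sum_cons]
  have hs0 : s = 0 := by
    rw [Multiset.eq_zero_iff_forall_notMem]
    intro n hn
    have h3 : 2 ≤ n := Equiv.Perm.two_le_of_mem_cycleType (σ := σ) (by rw [hs']; exact Multiset.mem_cons_of_mem hn)
    have h4 := Multiset.single_le_sum (fun x _ => Nat.zero_le x) n hn
    omega
  rw [Equiv.Perm.sign_of_cycleType, hs', hs0]
  simp only [Multiset.sum_cons, Multiset.sum_zero, add_zero, Multiset.card_cons, Multiset.card_zero, zero_add]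
  exact (Even.add_one (by rw [pow_succ]; exact even_two.mul_left _)).neg_one_pow

end perm

theorem pow_fix8 {g : Equiv.Perm GolayPt} {a : GolayPt} (h : g a = a) (n : ℕ) : (g ^ n) a = a := pow_fix' h n

/-- **elements of order 8 of `M₂₄` have at most two fixed points** -/
theorem fx_8 {v : Equiv.Perm GolayPt} (hv : v ∈ M24) (ov : orderOf v = 8) : fx v ≤ 2 := by
  by_contra hgt
  push Not at hgt
  have o2 : orderOf (v ^ 4) = 2 := by rw [orderOf_pow_of_dvd (by norm_num) (by rw [ov]; norm_num), ov]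
  have hF : Fx v ⊆ Fx (v ^ 4) := fun p hp => mem_Fx.2 (pow_fix8 (mem_Fx.1 hp) 4)
  have h8 : fx (v ^ 4) = 8 := by
    refine (fx2 (M24.pow_mem hv 4) o2).resolve_right fun h0 => ?_
    have h1 := Finset.card_le_card hF
    rw [card_Fx, card_Fx] at h1
    omega
  set u : M24 := ⟨v ^ 4, M24.pow_mem hv 4⟩ with hu
  have hu2 : u ^ 2 = 1 := Subtype.ext (by
    show (v ^ 4) ^ 2 = 1
    rw [← pow_mul, show 4 * 2 = 8 by norm_num, ← ov, pow_orderOf_eq_one])
  have hu1 : u ≠ 1 := by
    intro h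
    have h1 : v ^ 4 = 1 := congrArg Subtype.val h
    rw [h1, orderOf_one] at o2
    norm_num at o2
  obtain ⟨o, ho, -, hio⟩ := Cfsg.Agent.J4Type.InvFix.involution_fix hu2 hu1 (s := Fx (v ^ 4))
    (by rw [card_Fx, h8]; norm_num) (fun p hp => mem_Fx.1 hp)
  have hio' : ∀ p, (v ^ 4) p = p ↔ p ∈ o := hio
  have hoF : o = Fx (v ^ 4) := by
    ext p
    rw [mem_Fx, hio']
  have hst : ∀ x, v x ∈ o ↔ x ∈ o := by
    intro x
    rw [← hio', ← hio', ← Equiv.Perm.mul_apply, ← pow_succ, pow_succ', Equiv.Perm.mul_apply, v.injective.eq_iff]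
  have hsign := Cfsg.Agent.J4Type.FusionM22.sign_octad ho hv hst
  have hpow : ∀ (n : ℕ) (p : ↥o), ((v.subtypePerm hst ^ n : Equiv.Perm ↥o) p : GolayPt) = (v ^ n) p := by
    intro n p
    rw [Equiv.Perm.subtypePerm_pow]
    rfl
  have h4 : (v.subtypePerm hst : Equiv.Perm ↥o) ^ 2 ^ (1 + 1) = 1 := by
    refine Equiv.ext fun p => Subtype.ext ?_
    rw [hpow]
    exact (hio' p).2 p.2
  have h2 : (v.subtypePerm hst : Equiv.Perm ↥o) ^ 2 ^ 1 ≠ 1 := by
    intro h
    have h3 : v ^ 2 ∈ M24 ⊓ fixingSubgroup (Equiv.Perm GolayPt) (o : Set GolayPt) := by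
      refine ⟨M24.pow_mem hv 2, (mem_fixingSubgroup_iff (Equiv.Perm GolayPt)).2 fun p hp => ?_⟩
      have h5 := hpow (2 ^ 1) ⟨p, hp⟩
      rw [h] at h5
      exact h5.symm
    have h4 := (Cfsg.Agent.S0381.result o ho).2 _ h3
    have h5 : v ^ 4 = 1 := by rw [← h4, ← pow_add]
    rw [h5, orderOf_one] at o2
    norm_num at o2
  have hsupp : (v.subtypePerm hst : Equiv.Perm ↥o).support.card < 2 ^ (1 + 1) + 2 := by
    have h5 : (v.subtypePerm hst : Equiv.Perm ↥o).support.card ≤ (o \ Fx v).card := by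
      rw [← Finset.card_map (Function.Embedding.subtype _)]
      refine Finset.card_le_card fun p hp => ?_
      rw [Finset.mem_map] at hp
      obtain ⟨q, hq, rfl⟩ := hp
      rw [Equiv.Perm.mem_support] at hq
      rw [Finset.mem_sdiff]
      exact ⟨q.2, fun h => hq (Subtype.ext (mem_Fx.1 h))⟩
    have hoc : o.card = 8 := by rw [hoF, card_Fx, h8]
    rw [Finset.card_sdiff_of_subset (hoF ▸ hF), hoc, card_Fx] at h5
    omega
  rw [sign_neg h4 h2 hsupp] at hsign
  exact absurd hsign (by decide)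

/-- nontrivial elements of `M₂₄` have at most 8 fixed points -/
theorem fx_le_eight {g : Equiv.Perm GolayPt} (hg : g ∈ M24) (h1 : g ≠ 1) : fx g ≤ 8 := by
  have ho : orderOf g ≠ 1 := fun h => h1 (orderOf_eq_one_iff.1 h)
  obtain ⟨p, hp, hd⟩ := Nat.exists_prime_and_dvd ho
  obtain ⟨n, hn⟩ := exists_pow_prime hp hd
  have hF : Fx g ⊆ Fx (g ^ n) := fun p hp => mem_Fx.2 (pow_fix8 (mem_Fx.1 hp) n)
  have h2 := Finset.card_le_card hF
  rw [card_Fx, card_Fx] at h2
  rcases Nat.eq_zero_or_pos (fx (g ^ n)) with h0 | h0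
  · omega
  have hv := fx_val (M24.pow_mem hg n) h0
  have hpd : p ∣ 244823040 := by
    rw [← fact24, ← hn]
    exact Subgroup.orderOf_dvd_natCard M24 (M24.pow_mem hg n)
  have hpm : p ∈ ({2, 3, 5, 7, 11, 23} : Finset ℕ) := by
    have h3 : p ∈ Nat.primeFactors 244823040 := Nat.mem_primeFactors.2 ⟨hp, hpd, by norm_num⟩
    rwa [show (244823040 : ℕ) = 2 ^ 10 * (3 ^ 3 * (5 * (7 * (11 * 23)))) by norm_num,
      Nat.primeFactors_mul (by norm_num) (by norm_num), Nat.primeFactors_mul (by norm_num) (by norm_num),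
      Nat.primeFactors_mul (by norm_num) (by norm_num), Nat.primeFactors_mul (by norm_num) (by norm_num),
      Nat.primeFactors_mul (by norm_num) (by norm_num), Nat.primeFactors_prime_pow (by norm_num) Nat.prime_two,
      Nat.primeFactors_prime_pow (by norm_num) Nat.prime_three, Nat.Prime.primeFactors (by norm_num : Nat.Prime 5),
      Nat.Prime.primeFactors (by norm_num : Nat.Prime 7), Nat.Prime.primeFactors (by norm_num : Nat.Prime 11),
      Nat.Prime.primeFactors (by norm_num : Nat.Prime 23)] at h3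
  simp only [Finset.mem_insert, Finset.mem_singleton] at hpm
  obtain ⟨v2, v3, v5, v7, v11, v23⟩ := hv
  rcases hpm with rfl | rfl | rfl | rfl | rfl | rfl
  · rw [v2 hn] at h2; exact h2
  · rw [v3 hn] at h2; omega
  · rw [v5 hn] at h2; omega
  · rw [v7 hn] at h2; omega
  · rw [v11 hn] at h2; omega
  · rw [v23 hn] at h2; omega

theorem card_dvd_four {X : Subgroup (Equiv.Perm GolayPt)} (hX : X ≤ M24) {T : Finset GolayPt} (hT : T.card = 4)
    (hfix : ∀ g ∈ X, ∀ t ∈ T, g t = t) : Nat.card X ∣ 960 := by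
  have h5 : MulAction.IsMultiplyPretransitive M24 GolayPt 5 := Cfsg.Agent.S0366.result
  have h24 : Nat.card GolayPt = 24 := by rw [Nat.card_eq_fintype_card]; simp
  have h3 : MulAction.IsMultiplyPretransitive M24 GolayPt 4 :=
    MulAction.isMultiplyPretransitive_of_le (n := 5) (by norm_num) (by rw [h24]; norm_num)
  have hs : (T : Set GolayPt).ncard = 4 := by rw [Set.ncard_coe_finset, hT]
  have h1 := h3.index_of_fixingSubgroup_mul hs
  rw [h24] at h1
  have h2 : (fixingSubgroup M24 (T : Set GolayPt)).index = 24 * 23 * 22 * 21 := by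
    apply Nat.eq_of_mul_eq_mul_right (Nat.factorial_pos (24 - 4))
    rw [h1]
    decide +kernel
  have h4 := (fixingSubgroup M24 (T : Set GolayPt)).card_mul_index
  rw [h2, fact24] at h4
  have h6 : Nat.card (fixingSubgroup M24 (T : Set GolayPt)) = 960 := by omega
  rw [← h6]
  let f : X →* fixingSubgroup M24 (T : Set GolayPt) :=
    { toFun := fun g => ⟨⟨g.1, hX g.2⟩, fun t => hfix g.1 g.2 t.1 t.2⟩
      map_one' := rfl
      map_mul' := fun _ _ => rfl }
  have hf : Function.Injective f := by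
    intro g k hgk
    exact Subtype.ext (congrArg (fun z : fixingSubgroup M24 (T : Set GolayPt) => ((z : M24) : Equiv.Perm GolayPt)) hgk)
  exact Subgroup.card_dvd_of_injective f hf

/-- invariant sets without fixed points of a 2-element -/
theorem even_card {v : Equiv.Perm GolayPt} {k : ℕ} (h8 : v ^ 2 ^ k = 1) {D : Finset GolayPt} (hD : ∀ q ∈ D, v q ∈ D)
    (hno : ∀ q ∈ D, v q ≠ q) : 2 ∣ D.card := by
  have hst : ∀ x, v x ∈ D ↔ x ∈ D := by
    intro x
    refine ⟨fun h => ?_, hD x⟩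
    have key : ∀ n : ℕ, (v ^ n) (v x) ∈ D := by
      intro n
      induction n with
      | zero => exact h
      | succ n ih => rw [pow_succ', Equiv.Perm.mul_apply]; exact hD _ ih
    have h1 := key (2 ^ k - 1)
    rw [← Equiv.Perm.mul_apply, ← pow_succ, Nat.sub_add_cancel Nat.one_le_two_pow, h8] at h1
    exact h1
  set σ : Equiv.Perm ↥D := v.subtypePerm hst with hσ
  have hσ8 : σ ^ 2 ^ k = 1 := by
    rw [hσ, Equiv.Perm.subtypePerm_pow]
    refine Equiv.ext fun p => Subtype.ext ?_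
    show (v ^ 2 ^ k) p = p
    rw [h8]; rfl
  have hG : IsPGroup 2 (zpowers σ) := by
    obtain ⟨j, -, hj⟩ := (Nat.dvd_prime_pow Nat.prime_two).1 (orderOf_dvd_of_pow_eq_one hσ8)
    exact IsPGroup.of_card (n := j) (by rw [Nat.card_zpowers, hj])
  have := Fact.mk Nat.prime_two
  have h1 := hG.card_modEq_card_fixedPoints (α := ↥D)
  have h2 : IsEmpty (MulAction.fixedPoints (zpowers σ) ↥D) := by
    refine ⟨fun p => hno p.1.1 p.1.2 ?_⟩
    have h3 := p.2 ⟨σ, mem_zpowers σ⟩
    exact congrArg Subtype.val h3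
  have h3 : Nat.card (MulAction.fixedPoints (zpowers σ) ↥D) = 0 := Nat.card_of_isEmpty
  rw [h3, Nat.card_eq_fintype_card, Fintype.card_coe] at h1
  exact (Nat.modEq_zero_iff_dvd).1 h1

theorem norm7_M22 {x : Spor.M22} (hx : orderOf x = 7) : Nat.card (normalizer (zpowers x : Set Spor.M22)) = 21 := by
  have hc := Cfsg.Agent.SporadicA.MathieuRecog.card_M22
  have h1 := norm7_dvd M22_le hx
  obtain ⟨n, hn, hn1⟩ := exists_nrm (v := 7) (by norm_num) (by rw [hc]; norm_num) hx
  have h2 : 7 ∣ Nat.card (normalizer (zpowers x : Set Spor.M22)) := by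
    rw [← hx]
    exact Subgroup.orderOf_dvd_natCard _ (mem_normalizer_of_commute (Commute.refl x))
  rw [hc] at hn
  generalize Nat.card (normalizer (zpowers x : Set Spor.M22)) = m at *
  obtain ⟨k, rfl⟩ := h2
  have h3 : k ∣ 18 := by
    have : 7 * k ∣ 7 * 18 := h1
    exact Nat.dvd_of_mul_dvd_mul_left (by norm_num) this
  have h4 : k ∈ Nat.divisors 18 := Nat.mem_divisors.2 ⟨h3, by norm_num⟩
  rw [show Nat.divisors 18 = {1, 2, 3, 6, 9, 18} by decide] at h4
  simp only [Finset.mem_insert, Finset.mem_singleton] at h4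
  rcases h4 with rfl | rfl | rfl | rfl | rfl | rfl <;> omega

/-- subgroups of `M₂₂` of order divisible by 7 have no subgroups of index 2 -/
theorem no_sign {R : Subgroup Spor.M22} (h7 : 7 ∣ Nat.card R) (F : R →* ℤˣ) (g : R) : F g = 1 := by
  have p7 : Fact (Nat.Prime 7) := ⟨by norm_num⟩
  have hc := Cfsg.Agent.SporadicA.MathieuRecog.card_M22
  obtain ⟨x, hx⟩ := exists_prime_orderOf_dvd_card' (G := R) 7 h7
  have h49 : ¬ 7 ^ 2 ∣ Nat.card R := fun h => by
    have := h.trans (Subgroup.card_subgroup_dvd_card R)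
    rw [hc] at this
    norm_num at this
  have hf : (Nat.card R).factorization 7 = 1 := by
    apply le_antisymm
    · by_contra hlt
      push Not at hlt
      exact h49 ((p7.out.pow_dvd_iff_le_factorization Nat.card_pos.ne').2 hlt)
    · exact (p7.out.dvd_iff_one_le_factorization Nat.card_pos.ne').1 h7
  let P : Sylow 7 R := Sylow.ofCard (zpowers x) (by rw [Nat.card_zpowers, hx, hf, pow_one])
  have hP : (P : Subgroup R) = zpowers x := rfl
  have hodd : ∀ y : R, ∀ n : ℕ, Odd n → y ^ n = 1 → F y = 1 := by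
    intro y n hn hy
    have h1 : F y ^ n = 1 := by rw [← map_pow, hy, map_one]
    rcases Int.units_eq_one_or (F y) with h2 | h2
    · exact h2
    · rw [h2, hn.neg_one_pow] at h1
      exact absurd h1 (by decide)
  have hker : (P : Subgroup R) ≤ F.ker := by
    rw [hP, zpowers_le, MonoidHom.mem_ker]
    exact hodd x 7 (by decide) (by rw [← hx, pow_orderOf_eq_one])
  have h1 := Sylow.normalizer_sup_eq_top' P hker
  have h2 : g ∈ normalizer (P : Set R) ⊔ F.ker := by rw [h1]; exact mem_top g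
  obtain ⟨n, hn, k, hk, rfl⟩ := Subgroup.mem_sup_of_normal_right.1 h2
  rw [map_mul, (MonoidHom.mem_ker).1 hk, mul_one]
  have h3 : Nat.card (normalizer (zpowers x : Set R)) ∣ 21 := by
    have h4 := card_normalizer_dvd R.subtype R.subtype_injective x
    rwa [norm7_M22 (by
      show orderOf (x : Spor.M22) = 7
      rw [Subgroup.orderOf_coe, hx])] at h4
  refine hodd n 21 (by decide) ?_
  have h5 : orderOf n ∣ Nat.card (normalizer (zpowers x : Set R)) := Subgroup.orderOf_dvd_natCard _ hn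
  exact orderOf_dvd_iff_pow_eq_one.1 (h5.trans h3)

section

variable {X : Subgroup (Equiv.Perm GolayPt)}

/-- the two base points -/
def TT : Finset GolayPt := {none, some 0}

theorem card_TT : TT.card = 2 := by decide

theorem map_le_M24 (R : Subgroup Spor.M22) : R.map Spor.M22.subtype ≤ M24 := by
  rintro _ ⟨g, -, rfl⟩
  exact M22_le g.2

theorem map_fix (R : Subgroup Spor.M22) : ∀ g ∈ R.map Spor.M22.subtype, ∀ t ∈ TT, g t = t := by
  rintro _ ⟨g, -, rfl⟩ t ht
  rw [TT, Finset.mem_insert, Finset.mem_singleton] at ht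
  rcases ht with rfl | rfl
  · exact g.2.1.2
  · exact g.2.2

/-- elements of order 8 have no fixed points off the base points -/
theorem no_fix_8 (hX : X ≤ M24) (hfix : ∀ g ∈ X, ∀ t ∈ TT, g t = t) {v : Equiv.Perm GolayPt} (hv : v ∈ X)
    (ov : orderOf v = 8) {q : GolayPt} (hq : q ∉ TT) : v q ≠ q := by
  intro h
  have h1 := fx_8 (hX hv) ov
  have h2 : insert q TT ⊆ Fx v := by
    intro p hp
    rw [mem_Fx]
    rcases Finset.mem_insert.1 hp with rfl | hp
    · exact h
    · exact hfix v hv p hp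
  have h3 := Finset.card_le_card h2
  rw [Finset.card_insert_of_notMem hq, card_TT, card_Fx] at h3
  omega

theorem orb_even (hX : X ≤ M24) (hfix : ∀ g ∈ X, ∀ t ∈ TT, g t = t) {v : Equiv.Perm GolayPt} (hv : v ∈ X)
    (ov : orderOf v = 8) {a : GolayPt} (ha : a ∉ TT) : 2 ∣ (orb X a).card := by
  refine even_card (v := v) (k := 3) (by rw [show 2 ^ 3 = 8 by norm_num, ← ov, pow_orderOf_eq_one]) (orb_inv hv)
    fun q hq => no_fix_8 hX hfix hv ov fun hqT => ?_
  exact Finset.disjoint_left.1 (orb_disj hfix ha) hq hqT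

theorem num8 {o : ℕ} (m7 : o % 7 = 1) (he : 2 ∣ o) (hle : o ≤ 22) (h22 : o ≠ 22) : o = 8 := by
  omega

/-- the third fixed point of an element of order 7 -/
theorem seven_fix (hX : X ≤ M24) (hfix : ∀ g ∈ X, ∀ t ∈ TT, g t = t) {x : Equiv.Perm GolayPt} (hx : x ∈ X)
    (ox : orderOf x = 7) : ∃ c, c ∉ TT ∧ x c = c ∧ (orb X c ∩ Fx x).card = 1 := by
  have hf := fx7 (hX hx) ox
  have hTF : TT ⊆ Fx x := fun t ht => mem_Fx.2 (hfix x hx t ht)
  have hc : (Fx x \ TT).card = 1 := by
    rw [Finset.card_sdiff_of_subset hTF, card_TT, card_Fx, hf]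
  obtain ⟨c, hc'⟩ := Finset.card_pos.1 (by rw [hc]; norm_num : 0 < (Fx x \ TT).card)
  rw [Finset.mem_sdiff] at hc'
  refine ⟨c, hc'.2, mem_Fx.1 hc'.1, le_antisymm ?_ ?_⟩
  · have h1 := orb_fx_le hfix hc'.2 hx
    rw [hf, card_TT] at h1
    omega
  · exact Finset.card_pos.2 ⟨c, Finset.mem_inter.2 ⟨self_mem_orb X c, hc'.1⟩⟩

end

/-- **A subgroup of `M₂₂` of order divisible by 7 and not by 11 has no elements of order 8.** -/
theorem false_of_7_8 {R : Subgroup Spor.M22} (h7 : 7 ∣ Nat.card R) (h11 : ¬ 11 ∣ Nat.card R) {v : Spor.M22}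
    (hv : v ∈ R) (ov : orderOf v = 8) : False := by
  have p7 : Fact (Nat.Prime 7) := ⟨by norm_num⟩
  set X : Subgroup (Equiv.Perm GolayPt) := R.map Spor.M22.subtype with hXdef
  have hX : X ≤ M24 := map_le_M24 R
  have hfix : ∀ g ∈ X, ∀ t ∈ TT, g t = t := map_fix R
  have hcX : Nat.card X = Nat.card R := card_map_subtype R
  have hvX : (v : Equiv.Perm GolayPt) ∈ X := Subgroup.mem_map_of_mem Spor.M22.subtype hv
  have ov' : orderOf (v : Equiv.Perm GolayPt) = 8 := by rw [Subgroup.orderOf_coe, ov]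
  obtain ⟨x, hx, ox⟩ := exists_order (X := X) (p := 7) (by rwa [hcX])
  obtain ⟨c, hc, -, hcf⟩ := seven_fix hX hfix hx ox
  have m7 := orb_mod (a := c) hx ox
  rw [hcf] at m7
  have he := orb_even hX hfix hvX ov' hc
  have hle := orb_le hfix hc
  rw [card_TT] at hle
  have h22 : (orb X c).card ≠ 22 := by
    intro h
    apply h11
    rw [← hcX, ← card_orb_mul X c, h]
    exact (show 11 ∣ 22 by norm_num).mul_right _
  have h8 := num8 m7 he (by omega) h22
  -- `v ^ 4` moves a point of the orbit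
  obtain ⟨a, ha, hav⟩ : ∃ a ∈ orb X c, ((v : Equiv.Perm GolayPt) ^ 4) a ≠ a := by
    by_contra hcon
    push Not at hcon
    have h1 : orb X c ∪ TT ⊆ Fx ((v : Equiv.Perm GolayPt) ^ 4) := by
      intro p hp
      rw [mem_Fx]
      rcases Finset.mem_union.1 hp with h | h
      · exact hcon p h
      · exact hfix _ (X.pow_mem hvX 4) p h
    have h2 := Finset.card_le_card h1
    rw [Finset.card_union_of_disjoint (orb_disj hfix hc), h8, card_TT, card_Fx] at h2
    have h3 := fx_le_eight (hX (X.pow_mem hvX 4)) (fun h => by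
      have := orderOf_dvd_of_pow_eq_one h
      rw [ov'] at this
      norm_num at this)
    omega
  -- the action on the orbit
  have hst : ∀ g : R, ∀ p, ((g : Spor.M22) : Equiv.Perm GolayPt) p ∈ orb X c ↔ p ∈ orb X c := by
    intro g p
    have hgX : ((g : Spor.M22) : Equiv.Perm GolayPt) ∈ X := Subgroup.mem_map_of_mem Spor.M22.subtype g.2
    refine ⟨fun h => ?_, orb_inv hgX p⟩
    have h1 := orb_inv (X.inv_mem hgX) _ h
    rwa [inv_app] at h1
  let ρ : R →* Equiv.Perm ↥(orb X c) :=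
    { toFun := fun g => ((g : Spor.M22) : Equiv.Perm GolayPt).subtypePerm (hst g)
      map_one' := rfl
      map_mul' := fun _ _ => rfl }
  have hρ : ∀ (n : ℕ) (p : ↥(orb X c)), ((ρ ⟨v, hv⟩ ^ n) p : GolayPt) = ((v : Equiv.Perm GolayPt) ^ n) p := by
    intro n p
    show (((v : Equiv.Perm GolayPt).subtypePerm (hst ⟨v, hv⟩) ^ n) p : GolayPt) = _
    rw [Equiv.Perm.subtypePerm_pow]
    rfl
  have h1 : ρ ⟨v, hv⟩ ^ 2 ^ (2 + 1) = 1 := by
    refine Equiv.ext fun p => Subtype.ext ?_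
    rw [hρ, show 2 ^ (2 + 1) = 8 by norm_num, ← ov', pow_orderOf_eq_one]
    rfl
  have h2 : ρ ⟨v, hv⟩ ^ 2 ^ 2 ≠ 1 := by
    intro h
    apply hav
    have h3 := hρ (2 ^ 2) ⟨a, ha⟩
    rw [h] at h3
    exact h3.symm
  have h3 : (ρ ⟨v, hv⟩).support.card < 2 ^ (2 + 1) + 2 := by
    refine lt_of_le_of_lt (Finset.card_le_univ _) ?_
    rw [Fintype.card_coe, h8]
    norm_num
  have h4 := no_sign h7 ((Equiv.Perm.sign).comp ρ) ⟨v, hv⟩
  rw [MonoidHom.comp_apply, sign_neg h1 h2 h3] at h4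
  exact absurd h4 (by decide)

end Cfsg.Agent.H123.Der
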