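import Cfsg.Agent.H439.Der.Three
import Cfsg.Agent.H123.Der.MTwentyFour

/-!
# Tools for `Three` (S3502, helper123)
-/

set_option autoImplicit false

namespace Cfsg.Agent.H123.Der

open Subgroup Cfsg Cfsg.Agent.OrdDiv Cfsg.Agent.H257.El Cfsg.Agent.H439.Der Cfsg.Agent.H938.Sax

section

variable {T : Type*} [Group T] [Finite T]

omit [Finite T] in
theorem exists_conj_of_out_one (hO : Nat.card (Cfsg.Out T) = 1) (φ : T ≃* T) : ∃ g : T, ∀ x, φ x = g * x * g⁻¹ := by
  have h1 : (Cfsg.Inn T).index = 1 := hO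
  rw [Subgroup.index_eq_one] at h1
  have h2 : (φ : MulAut T) ∈ Cfsg.Inn T := by rw [h1]; exact mem_top _
  obtain ⟨g, hg⟩ := h2
  exact ⟨g, fun x => by rw [← hg]; rfl⟩

/-- the number of conjugate powers is the same for all generators -/
theorem card_conjPow_eq {v : ℕ} {x y : T} (hx : orderOf x = v) (hy : orderOf y = v) (hyx : y ∈ zpowers x) :
    Nat.card (conjPow y) = Nat.card (conjPow x) := by
  have hz : zpowers y = zpowers x := by
    refine Subgroup.eq_of_le_of_card_ge (zpowers_le.2 hyx) ?_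
    rw [Nat.card_zpowers, Nat.card_zpowers, hx, hy]
  have h1 := card_conjPow_mul x
  have h2 := card_conjPow_mul y
  have hC : centralizer ({y} : Set T) = centralizer ({x} : Set T) := by
    have h3 : ∀ a : T, centralizer ((zpowers a : Subgroup T) : Set T) = centralizer ({a} : Set T) := by
      intro a
      rw [zpowers_eq_closure, centralizer_closure]
    rw [← h3, ← h3, hz]
  rw [hz, hC, ← h1] at h2
  exact Nat.eq_of_mul_eq_mul_right Nat.card_pos h2

/-- three classes of elements of order `v` -/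
theorem not_SCC_of_conjPow {v : ℕ} (hv : v.Prime) {x : T} (hx : orderOf x = v)
    (h : 2 * Nat.card (conjPow x) < v - 1) (hO : Nat.card (Cfsg.Out T) = 1) : ¬ SCC T v := by
  have hord : ∀ y ∈ {y | y ∈ zpowers x ∧ y ≠ 1}, orderOf y = v := by
    rintro y ⟨hy1, hy2⟩
    have h2 : orderOf y ∣ v := hx ▸ orderOf_dvd_of_mem_zpowers hy1
    rcases (Nat.dvd_prime hv).1 h2 with h3 | h3
    · exact absurd (orderOf_eq_one_iff.1 h3) hy2
    · exact h3
  have h1 : ∃ y ∈ {y | y ∈ zpowers x ∧ y ≠ 1}, y ∉ conjPow x := by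
    by_contra hcon
    push Not at hcon
    have h2 := Set.ncard_le_ncard (show {y | y ∈ zpowers x ∧ y ≠ 1} ⊆ conjPow x from hcon) (Set.toFinite _)
    rw [ncard_ne_one hx, ← Nat.card_coe_set_eq] at h2
    omega
  obtain ⟨y, hy, hy3⟩ := h1
  have hoy := hord y hy
  have hcy := card_conjPow_eq hx hoy hy.1
  have h2 : ∃ z ∈ {y | y ∈ zpowers x ∧ y ≠ 1}, z ∉ conjPow x ∪ conjPow y := by
    by_contra hcon
    push Not at hcon
    have h2 := Set.ncard_le_ncard (show {y | y ∈ zpowers x ∧ y ≠ 1} ⊆ conjPow x ∪ conjPow y from hcon)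
      (Set.toFinite _)
    have h3 := Set.ncard_union_le (conjPow x) (conjPow y)
    rw [ncard_ne_one hx] at h2
    rw [← Nat.card_coe_set_eq (conjPow x), ← Nat.card_coe_set_eq (conjPow y), hcy] at h3
    omega
  obtain ⟨z, hz, hz3⟩ := h2
  rw [Set.mem_union, not_or] at hz3
  have hoz := hord z hz
  have hzy : zpowers y = zpowers x := by
    refine Subgroup.eq_of_le_of_card_ge (zpowers_le.2 hy.1) ?_
    rw [Nat.card_zpowers, Nat.card_zpowers, hx, hoy]
  refine not_SCC_of_three (x := x) (y := y) (z := z) (by rw [hx]) (by rw [hoy]) (by rw [hoz]) ?_ ?_ ?_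
  · intro φ hφ
    obtain ⟨g, hg⟩ := exists_conj_of_out_one hO φ
    exact hy3 ⟨hy.1, g, by rw [← hg, hφ]⟩
  · intro φ hφ
    obtain ⟨g, hg⟩ := exists_conj_of_out_one hO φ
    exact hz3.1 ⟨hz.1, g, by rw [← hg, hφ]⟩
  · intro φ hφ
    obtain ⟨g, hg⟩ := exists_conj_of_out_one hO φ
    exact hz3.2 ⟨by rw [hzy]; exact hz.1, g, by rw [← hg, hφ]⟩

/-- a bound for the number of conjugate powers from Sylow counting -/
theorem conjPow_le {v c N b : ℕ} (hN : Nat.card T = N) (hv : v.Prime) {x : T} (hx : orderOf x = v)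
    (hC : Nat.card (centralizer ({x} : Set T)) = c)
    (hchk : (!(Nat.beq (N % v ^ 2) 0) && (List.range v).all fun k => Nat.ble k b || (!(Nat.beq (N % (k * c)) 0) ||
      !(Nat.beq (N / (k * c) % v) 1))) = true) :
    Nat.card (conjPow x) ≤ b := by
  rw [Bool.and_eq_true, List.all_eq_true] at hchk
  obtain ⟨k1, k2⟩ := hchk
  have hsq : ¬ v ^ 2 ∣ Nat.card T := by
    intro h
    rw [hN] at h
    rw [Nat.mod_eq_zero_of_dvd h] at k1
    exact absurd k1 (by decide)
  have h1 := card_conjPow_le hv hx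
  have h2 := card_conjPow_mul x
  obtain ⟨n, hn, hn1⟩ := exists_nrm hv hsq hx
  rw [← h2, hC, hN] at hn
  set k := Nat.card (conjPow x) with hk
  have hv0 := hv.two_le
  have hkc : 0 < k * c := by rw [← hC, h2]; exact Nat.card_pos
  have h5 : N / (k * c) = n := by rw [← hn]; exact Nat.mul_div_cancel _ hkc
  have h6 := k2 k (List.mem_range.2 (by omega))
  rw [h5, hn1, Nat.mod_eq_zero_of_dvd (show k * c ∣ N from Dvd.intro_left _ hn)] at h6
  simpa using h6

end

end Cfsg.Agent.H123.Der
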